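import Groth.Agent.Surf.K816.CovTwo

/-!
# Elements whose square is a constant
-/

set_option autoImplicit false
set_option linter.unusedSimpArgs false
set_option linter.unusedSectionVars false

universe u

open MvPolynomial

namespace K816.Const

open K816.Alg K816.Fld K816.Geo K816.Lat K816.Cov K816.CovTwo

variable {K E : Type u} [Field K] [Field E] [Algebra K E] [CharP E 2] {F : PF K E} {w : Par K}

theorem pdX_x1 (F : PF K E) : F.pd 0 0 (F.x 1) = 1 := by rw [← F.c00, F.pd_c]; rfl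
theorem pdX_x2 (F : PF K E) : F.pd 0 0 (F.x 2) = 0 := by rw [← F.c01, F.pd_c]; rfl
theorem pdY_x1 (F : PF K E) : F.pd 0 1 (F.x 1) = 0 := by rw [← F.c00, F.pd_c]; rfl
theorem pdY_x2 (F : PF K E) : F.pd 0 1 (F.x 2) = 1 := by rw [← F.c01, F.pd_c]; rfl
theorem pd_a (F : PF K E) (l : Fin 2) (j : Fin 4) : F.pd 0 l (aE w j) = 0 := F.pd_map 0 l _

variable (F w)

theorem X_P : F.pd 0 0 (pp F w 0) = F.x 1 ^ 2 := by
  change F.pd 0 0 (aE w 1 + F.x 2 + F.x 1 ^ 3) = _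
  rw [map_add, map_add, der_cube, pdX_x1, pdX_x2, pd_a]
  simp

theorem Y_P : F.pd 0 1 (pp F w 0) = 1 := by
  change F.pd 0 1 (aE w 1 + F.x 2 + F.x 1 ^ 3) = _
  rw [map_add, map_add, der_cube, pdY_x1, pdY_x2, pd_a]
  simp

theorem X_R : F.pd 0 0 (rr F w 0) = aE w 3 + F.x 2 ^ 2 := by
  change F.pd 0 0 (aE w 2 + aE w 3 * F.x 1 + F.x 2 ^ 2 * F.x 1) = _
  rw [map_add, map_add, der_sq_mul, Derivation.leibniz, pdX_x1, pd_a, pd_a]
  simp

theorem Y_R : F.pd 0 1 (rr F w 0) = 0 := by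
  change F.pd 0 1 (aE w 2 + aE w 3 * F.x 1 + F.x 2 ^ 2 * F.x 1) = _
  rw [map_add, map_add, der_sq_mul, Derivation.leibniz, pdY_x1, pd_a, pd_a]
  simp

theorem X_T : F.pd 0 0 (T F w 0) = 1 := by
  change F.pd 0 0 (aE w 0 + F.x 1) = 1
  rw [map_add, pdX_x1, pd_a, zero_add]

theorem Y_T : F.pd 0 1 (T F w 0) = 0 := by
  change F.pd 0 1 (aE w 0 + F.x 1) = 0
  rw [map_add, pdY_x1, pd_a, zero_add]

theorem D3_m : F.D w 3 (aE w 3 + F.x 2 ^ 2) = 1 := by
  rw [map_add, der_sq, aE, F.D_a]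
  simp

theorem m_ne : (aE w 3 + F.x 2 ^ 2 : E) ≠ 0 := by
  intro h
  have := D3_m F w
  rw [h, map_zero] at this
  exact zero_ne_one this

theorem D1_P : F.D w 1 (pp F w 0) = 1 := D_pp0 F w 1
theorem D2_P : F.D w 2 (pp F w 0) = 0 := D_pp0 F w 2
theorem D1_R : F.D w 1 (rr F w 0) = 0 := D_rr0 F w 1
theorem D2_R : F.D w 2 (rr F w 0) = 1 := D_rr0 F w 2

theorem D1_T : F.D w 1 (T F w 0) = 0 := by
  change F.D w 1 (aE w 0 + F.x 1) = 0
  rw [map_add, aE, F.D_a, F.D_x]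
  simp

theorem D2_T : F.D w 2 (T F w 0) = 0 := by
  change F.D w 2 (aE w 0 + F.x 1) = 0
  rw [map_add, aE, F.D_a, F.D_x]
  simp

variable {F w}

theorem sq_zero {x : E} (h : x ^ 2 = 0) : x = 0 := pow_eq_zero_iff (two_ne_zero) |>.1 h

/-- The degree 4 case. -/
theorem const_one {c : Fin 4 → E} {k : K} (h : q F w 0 c = algebraMap K E k) : c 1 = 0 ∧ c 2 = 0 ∧ c 3 = 0 := by
  have two := two_eq_zero (E := E)
  rw [q, F.u_zero, one_mul, one_mul] at h
  have eY := congrArg (F.pd 0 1) h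
  have eX := congrArg (F.pd 0 0) h
  rw [F.pd_map, map_add, map_add, map_add, der_sq, der_sq_mul, der_sq_mul, der_sq_mul, Derivation.leibniz, Y_P, Y_R,
    smul_eq_mul, smul_eq_mul] at eY
  rw [F.pd_map, map_add, map_add, map_add, der_sq, der_sq_mul, der_sq_mul, der_sq_mul, Derivation.leibniz, X_P, X_R,
    smul_eq_mul, smul_eq_mul] at eX
  have e1 : c 1 ^ 2 = c 3 ^ 2 * rr F w 0 := by linear_combination eY - c 3 ^ 2 * rr F w 0 * two
  have e2 : (aE w 3 + F.x 2 ^ 2) * (c 2 ^ 2 + c 3 ^ 2 * pp F w 0) = 0 := by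
    linear_combination eX - F.x 1 ^ 2 * e1 - c 3 ^ 2 * rr F w 0 * F.x 1 ^ 2 * two
  have e3 := (mul_eq_zero.1 e2).resolve_left (m_ne F w)
  have e4 := congrArg (F.pd 0 1) e3
  rw [map_zero, map_add, der_sq, der_sq_mul, Y_P, zero_add, mul_one] at e4
  have h3 := sq_zero e4
  rw [h3] at e1 e3
  refine ⟨sq_zero (by linear_combination e1), sq_zero (by linear_combination e3), h3⟩

/-- The degree 8 case. -/
theorem const_two {c d : Fin 4 → E} {k : K} (h : q F w 0 c + q F w 0 d * T F w 0 = algebraMap K E k) :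
    (c 1 = 0 ∧ c 2 = 0 ∧ c 3 = 0) ∧ d = 0 := by
  have two := two_eq_zero (E := E)
  rw [q, q, F.u_zero, one_mul, one_mul] at h
  have h' : c 0 ^ 2 + c 1 ^ 2 * pp F w 0 + c 2 ^ 2 * rr F w 0 + c 3 ^ 2 * (pp F w 0 * rr F w 0) +
      (d 0 ^ 2 * T F w 0 + d 1 ^ 2 * (pp F w 0 * T F w 0) + d 2 ^ 2 * (rr F w 0 * T F w 0) +
        d 3 ^ 2 * (pp F w 0 * rr F w 0 * T F w 0)) = algebraMap K E k := by rw [← h]; ring
  have e1 := congrArg (F.D w 1) h'
  simp only [map_add, der_sq, der_sq_mul, Derivation.leibniz, D1_P, D1_R, D1_T, F.D_map, smul_eq_mul, mul_zero,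
    zero_mul, mul_one, add_zero, zero_add] at e1
  have e1' : c 1 ^ 2 + c 3 ^ 2 * rr F w 0 + (d 1 ^ 2 * T F w 0 + d 3 ^ 2 * (rr F w 0 * T F w 0)) =
      algebraMap K E (w.δ 1 k) := by rw [← e1]; ring
  have e12 := congrArg (F.D w 2) e1'
  simp only [map_add, der_sq, der_sq_mul, Derivation.leibniz, D2_R, D2_T, F.D_map, smul_eq_mul, mul_zero,
    zero_mul, mul_one, add_zero, zero_add] at e12
  have e12X := congrArg (F.pd 0 0) e12
  simp only [map_add, der_sq, der_sq_mul, X_T, F.pd_map, mul_one, zero_add] at e12X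
  have hd3 := sq_zero e12X
  rw [hd3] at e1' h'
  have e1X := congrArg (F.pd 0 0) e1'
  simp only [map_add, der_sq, der_sq_mul, X_T, X_R, F.pd_map, mul_one, zero_add, ne_eq, OfNat.ofNat_ne_zero,
    not_false_eq_true, zero_pow, zero_mul, map_zero, add_zero] at e1X
  have e1X3 := congrArg (F.D w 3) e1X
  rw [map_add, der_sq, der_sq_mul, D3_m, map_zero, mul_one, add_zero] at e1X3
  have hc3 := sq_zero e1X3
  rw [hc3] at e1X e1' h'
  have hd1 : d 1 = 0 := sq_zero (by linear_combination e1X)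
  rw [hd1] at e1' h'
  have h2 : c 0 ^ 2 + c 1 ^ 2 * pp F w 0 + c 2 ^ 2 * rr F w 0 +
      (d 0 ^ 2 * T F w 0 + d 2 ^ 2 * (rr F w 0 * T F w 0)) = algebraMap K E k := by rw [← h']; ring
  have e2 := congrArg (F.D w 2) h2
  simp only [map_add, der_sq, der_sq_mul, Derivation.leibniz, D2_P, D2_R, D2_T, F.D_map, smul_eq_mul, mul_zero,
    zero_mul, mul_one, add_zero, zero_add] at e2
  have e2X := congrArg (F.pd 0 0) e2
  simp only [map_add, der_sq, der_sq_mul, X_T, F.pd_map, mul_one, zero_add] at e2X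
  have hd2 := sq_zero e2X
  rw [hd2] at h2
  have e3 := congrArg (F.pd 0 1) h2
  simp only [map_add, der_sq, der_sq_mul, Y_T, Y_P, Y_R, F.pd_map, mul_one, zero_add, ne_eq, OfNat.ofNat_ne_zero,
    not_false_eq_true, zero_pow, zero_mul, map_zero, add_zero, mul_zero] at e3
  have hc1 := sq_zero e3
  rw [hc1] at h2
  have e4 := congrArg (F.pd 0 0) h2
  simp only [map_add, der_sq, der_sq_mul, X_T, X_P, X_R, F.pd_map, mul_one, zero_add, ne_eq, OfNat.ofNat_ne_zero,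
    not_false_eq_true, zero_pow, zero_mul, map_zero, add_zero, mul_zero] at e4
  have e5 := congrArg (F.D w 3) e4
  rw [map_add, der_sq, der_sq_mul, D3_m, map_zero, mul_one, add_zero] at e5
  have hc2 := sq_zero e5
  rw [hc2] at e4
  have hd0 : d 0 = 0 := sq_zero (by linear_combination e4)
  refine ⟨⟨hc1, hc2, hc3⟩, ?_⟩
  funext j
  fin_cases j
  exacts [hd0, hd1, hd2, hd3]

end K816.Const
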