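import Groth.Agent.Surf.K816.Main
import Groth.Agent.CurvSt.K898.HZeroOne
import Groth.Agent.S0843

/-!
# The global functions
-/

set_option autoImplicit false
set_option linter.unusedSectionVars false

universe u

open CategoryTheory CategoryTheory.Limits AlgebraicGeometry TopologicalSpace Opposite

namespace K816.Glob

open K816.Geo K816.Plane K816.Real K816.Lat K816.Cov K816.Surface K816.Mods K816.Ideals K816.Ses K816.MidLat
open K816.SeqOne K816.Geom K816.Num K816.Amp K816.Main Groth.Agent.Ega1.QCohLoc Groth.Agent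

section plane

variable (K : Type u) [Field K]

theorem finrank_S : Module.finrank K (Coh.HH (S K) (Coh.structureModule (S K)) 0) = 1 := by
  obtain ⟨e⟩ := Groth.Agent.Sga67.SerreVB.nonempty_twist_zero 2 K
  obtain ⟨c⟩ := Groth.Agent.S0843.result K 2 0
  have h1 := c.finrank_eq
  rw [K581.HomDim.finrank_homogeneous] at h1
  have h2 := (Fga.PicMon.hmapEquiv K (CohB1.ProjSpace 2 K) e 0).finrank_eq
  exact h2.symm.trans (h1.trans (by norm_num))

theorem cst_surjective : Function.Surjective (cst K) :=
  (K898.HZeroOne.bijective_gl_of_finrank K (S K) (finrank_S K)).2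

/-- An element lying in the three chart rings is a constant. -/
theorem exists_const_of_mem {z : E K} (h : ∀ i, z ∈ (pf K).A i) : ∃ c : K, z = algebraMap K (E K) c := by
  choose s hs using fun i => exists_gm K (h i)
  obtain ⟨a, ha, -⟩ := (S K).sheaf.existsUnique_gluing' (fun i : Fin 3 => U K i) ⊤ (fun i => homOfLE le_top)
    (iSup_U K).ge s (by
      intro i j
      apply gm_injective K (U K i ⊓ U K j)
      exact (gm_ores K inf_le_left (s i)).trans (((hs i).trans (hs j).symm).trans (gm_ores K inf_le_right (s j)).symm))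
  obtain ⟨c, hc⟩ := cst_surjective K a
  refine ⟨c, ?_⟩
  have h1 : gm K ⊤ a = z := (gm_ores K (le_top : U K 0 ≤ ⊤) a).symm.trans ((congrArg (gm K (U K 0)) (ha 0)).trans (hs 0))
  rw [algebraMap_eq_top, hc, h1]

end plane

variable {K : Type u} [Field K] [CharP K 2] {L : Type u} [Field L] [Algebra (E K) L] {κ : Type} [Fintype κ]
  [DecidableEq κ]

/-- The constants on the cover. -/
noncomputable def cstY (c : K) : Γ(Y K L, ⊤) := (p K L).app ⊤ (cst K c)

theorem res_cstY (c : K) : resO (le_top : TY K L ≤ ⊤) (cstY (L := L) c) = pT L (resO (le_top : T K ≤ ⊤) (cst K c)) := by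
  have h := (p K L).naturality (homOfLE (le_top : T K ≤ ⊤)).op
  exact (congr($(h) (cst K c))).symm

theorem eT_cstY (c : K) : eT K L (resO (le_top : TY K L ≤ ⊤) (cstY (L := L) c)) =
    algebraMap (E K) L (algebraMap K (E K) c) := by
  rw [res_cstY, eT_pT, gm_resO, ← algebraMap_eq_top]

theorem res_injective : Function.Injective (resO (le_top : TY K L ≤ ⊤)) :=
  map_injective_of_isIntegral (Y K L) (homOfLE (le_top : TY K L ≤ ⊤))

theorem cstY_surjective (C : Cov (pf K) L κ)
    (hc : ∀ x : L, (∃ c : K, x ^ 2 = algebraMap (E K) L (algebraMap K (E K) c)) → ∃ y : E K, x = algebraMap (E K) L y) :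
    Function.Surjective (cstY (K := K) (L := L)) := by
  intro s
  have h1 : ∀ i, eT K L (resO (le_top : TY K L ≤ ⊤) s) = e K L i (resO le_top s) := fun i => by
    rw [← eT_res, resO_resO]
  obtain ⟨a, -, ha⟩ := e_mem C 0 (resO le_top s)
  have h2 : ∀ i, a ∈ (pf K).A i := fun i => by
    obtain ⟨b, hb, h3⟩ := e_mem C i (resO le_top s)
    rw [← h1] at ha h3
    rw [(algebraMap (E K) L).injective (ha.symm.trans h3)]
    exact hb
  obtain ⟨c, rfl⟩ := exists_const_of_mem K h2
  obtain ⟨y, hy⟩ := hc _ ⟨c, ha⟩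
  have h4 : y ^ 2 = algebraMap K (E K) c := by
    apply (algebraMap (E K) L).injective
    rw [map_pow, ← hy, ha]
  obtain ⟨d, rfl⟩ := exists_const_of_mem K (z := y) fun i => (pf K).rc i y (by rw [h4]; exact (pf K).map_mem i c)
  refine ⟨d, res_injective ?_⟩
  apply eT_injective
  rw [eT_cstY, h1 0, hy]

theorem isIso_fY (C : Cov (pf K) L κ)
    (hc : ∀ x : L, (∃ c : K, x ^ 2 = algebraMap (E K) L (algebraMap K (E K) c)) → ∃ y : E K, x = algebraMap (E K) L y) :
    IsIso (fY K L).appTop := by
  have h0 : Nontrivial Γ(Y K L, ⊤) := by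
    have : Nonempty (⊤ : (Y K L).Opens) := ⟨⟨(nonempty_TY K L).some.1, trivial⟩⟩
    infer_instance
  have h4 : Function.Bijective (Scheme.ΓSpecIso (CommRingCat.of K)).inv.hom :=
    ConcreteCategory.bijective_of_isIso (Scheme.ΓSpecIso (CommRingCat.of K)).inv
  have h5 : ∀ c : K, (fY K L).appTop.hom ((Scheme.ΓSpecIso (CommRingCat.of K)).inv.hom c) = cstY c := fun c => rfl
  have h3 : Function.Bijective (fY K L).appTop.hom := by
    refine (Function.Bijective.of_comp_iff _ h4).mp ⟨?_, ?_⟩
    · exact ((fY K L).appTop.hom.comp (Scheme.ΓSpecIso (CommRingCat.of K)).inv.hom).injective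
    · intro s
      obtain ⟨c, hc⟩ := cstY_surjective C hc s
      exact ⟨c, (h5 c).trans hc⟩
  exact (ConcreteCategory.isIso_iff_bijective (fY K L).appTop).mpr h3

end K816.Glob
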