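import Groth.Agent.Surf.K816.Cov

/-!
# The cover of degree 8

`M = L(t)`, `t² = a₀ + x₁`.  `tt i` is the good coordinate over the chart `i`: `tt i ^ 2 = T i`.
`covTwo : Cov F M (Fin 4 ⊕ Fin 4)`; `cf : M → L` is the coefficient of `t`.
-/

set_option autoImplicit false
set_option linter.unusedSimpArgs false
set_option linter.unusedSectionVars false
set_option linter.dupNamespace false

universe u

open MvPolynomial

namespace K816.CovTwo

open K816.Alg K816.Fld K816.Geo K816.Lat K816.Cov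

variable {K E : Type u} [Field K] [Field E] [Algebra K E]
variable {L : Type u} [Field L] [Algebra E L] [CharP E 2] {F : PF K E} {w : Par K}
variable {M : Type u} [Field M] [Algebra E M] [Algebra L M] [IsScalarTower E L M]

local notation "ι" => algebraMap E L
local notation "ι₂" => algebraMap E M
local notation "jj" => algebraMap L M

/-- A square root of `a₀ + x₁`. -/
structure Rt2 (F : PF K E) (w : Par K) (M : Type u) [Field M] [Algebra E M] where
  t : M
  ht : t ^ 2 = algebraMap E M (aE w 0 + F.x 1)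

/-- The correction terms. -/
noncomputable def sc (ρ : Rt F w L) : Fin 3 → L
  | 0 => 0
  | 1 => ι (F.u 1) * ρ.α
  | 2 => ι (F.u 2) * ρ.β

/-- The squares of the good coordinates. -/
noncomputable def T (F : PF K E) (w : Par K) : Fin 3 → E
  | 0 => aE w 0 + F.x 1
  | 1 => aE w 0 + aE w 1 * F.u 1 ^ 2 + F.u 1 * F.c 1 1
  | 2 => aE w 0 + aE w 2 * F.u 2 ^ 2 + aE w 3 * (F.u 2 * F.c 2 1)

theorem T_mem (i : Fin 3) : T F w i ∈ F.A i := by
  fin_cases i
  · exact Subalgebra.add_mem _ (aE_mem F w 0 0) (x1_mem F)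
  · exact Subalgebra.add_mem _ (Subalgebra.add_mem _ (aE_mem F w 0 1) (Subalgebra.mul_mem _ (aE_mem F w 1 1)
      (Subalgebra.pow_mem _ (F.u_mem 1) 2))) (Subalgebra.mul_mem _ (F.u_mem 1) (F.c_mem 1 1))
  · exact Subalgebra.add_mem _ (Subalgebra.add_mem _ (aE_mem F w 0 2) (Subalgebra.mul_mem _ (aE_mem F w 2 2)
      (Subalgebra.pow_mem _ (F.u_mem 2) 2))) (Subalgebra.mul_mem _ (aE_mem F w 3 2)
      (Subalgebra.mul_mem _ (F.u_mem 2) (F.c_mem 2 1)))

theorem D_T (i : Fin 3) : F.D w 0 (T F w i) = 1 := by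
  have h0 : F.D w 0 (aE w 0 : E) = 1 := F.D_a w 0 0
  have h1 : F.D w 0 (aE w 1 : E) = 0 := F.D_a w 0 1
  have h2 : F.D w 0 (aE w 2 : E) = 0 := F.D_a w 0 2
  have h3 : F.D w 0 (aE w 3 : E) = 0 := F.D_a w 0 3
  fin_cases i
  · change F.D w 0 (aE w 0 + F.x 1) = 1
    rw [map_add, h0, F.D_x, add_zero]
  · change F.D w 0 (aE w 0 + aE w 1 * F.u 1 ^ 2 + F.u 1 * F.c 1 1) = 1
    simp only [map_add, Derivation.leibniz, der_sq, F.D_u, F.D_c, h0, h1, smul_zero, add_zero]
  · change F.D w 0 (aE w 0 + aE w 2 * F.u 2 ^ 2 + aE w 3 * (F.u 2 * F.c 2 1)) = 1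
    simp only [map_add, Derivation.leibniz, der_sq, F.D_u, F.D_c, h0, h2, h3, smul_zero, add_zero]

variable (ρ : Rt F w L) (σ : Rt2 F w M)

/-- The good coordinate. -/
noncomputable def tt (i : Fin 3) : M := σ.t + jj (sc ρ i)

include σ in
theorem two_M : (2 : M) = 0 := by
  rw [← map_ofNat (algebraMap E M) 2, two_eq_zero, map_zero]

theorem sc_sq (i : Fin 3) : sc ρ i ^ 2 = ι (T F w i - T F w 0) := by
  have two := two_eq_zero (E := E)
  fin_cases i
  · change (0 : L) ^ 2 = ι (T F w 0 - T F w 0)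
    rw [sub_self, map_zero]
    ring
  · change (ι (F.u 1) * ρ.α) ^ 2 = ι (T F w 1 - T F w 0)
    rw [mul_pow, ρ.hα, ← map_pow, ← map_mul]
    congr 1
    have := F.ne 1
    simp only [T, pp, F.u_eq, F.c11]
    field_simp
    linear_combination (F.x 1 ^ 3) * two
  · change (ι (F.u 2) * ρ.β) ^ 2 = ι (T F w 2 - T F w 0)
    rw [mul_pow, ρ.hβ, ← map_pow, ← map_mul]
    congr 1
    have := F.ne 2
    simp only [T, rr, F.u_eq, F.c21]
    field_simp
    linear_combination (F.x 1 * F.x 2 ^ 2) * two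

theorem tt_sq (i : Fin 3) : tt ρ σ i ^ 2 = ι₂ (T F w i) := by
  have two := two_M σ
  have h1 : jj (sc ρ i) ^ 2 = ι₂ (T F w i) - ι₂ (T F w 0) := by
    rw [← map_pow, sc_sq, ← IsScalarTower.algebraMap_apply, map_sub]
  have h2 : σ.t ^ 2 = ι₂ (T F w 0) := σ.ht
  rw [tt]
  linear_combination h1 + h2 + σ.t * jj (sc ρ i) * two

/-- The squares of `L` lie in `E` and are killed by `D_0`. -/
theorem sqE (hsp : ∀ x : L, ∃ d, x = el ρ 0 d) (x : L) : ∃ s : E, x ^ 2 = ι s ∧ F.D w 0 s = 0 := by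
  obtain ⟨d, rfl⟩ := hsp x
  refine ⟨_, el_sq ρ 0 d, ?_⟩
  have h1 : F.D w 0 (pp F w 0) = 0 := D_pp0 F w 0
  have h2 : F.D w 0 (rr F w 0) = 0 := D_rr0 F w 0
  rw [q, map_add, map_add, map_add, der_sq, der_sq_mul, der_sq_mul, der_sq_mul, Derivation.leibniz,
    Derivation.leibniz, Derivation.leibniz, h1, h2, F.D_u]
  simp

variable (hsp : ∀ x : L, ∃ d, x = el ρ 0 d) (hsp2 : ∀ x : M, ∃ y z : L, x = algebraMap L M y + algebraMap L M z * σ.t)

include hsp hsp2

theorem exists_yz (i : Fin 3) (x : M) : ∃ y z : L, x = jj y + jj z * tt ρ σ i := by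
  obtain ⟨y, z, rfl⟩ := hsp2 x
  refine ⟨y - z * sc ρ i, z, ?_⟩
  rw [tt, map_sub, map_mul]
  ring

omit hsp2 in
theorem eq_zero_of {i : Fin 3} {y z : L} (h : jj y + jj z * tt ρ σ i = 0) : y = 0 ∧ z = 0 := by
  have two := two_M σ
  obtain ⟨s, hs, hs0⟩ := sqE ρ hsp y
  obtain ⟨r, hr, hr0⟩ := sqE ρ hsp z
  have h1 : jj y ^ 2 + jj z ^ 2 * tt ρ σ i ^ 2 = 0 := by
    linear_combination (jj y + jj z * tt ρ σ i) * h - (jj y * (jj z * tt ρ σ i)) * two
  rw [tt_sq, ← map_pow, ← map_pow, hs, hr, ← IsScalarTower.algebraMap_apply, ← IsScalarTower.algebraMap_apply,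
    ← map_mul, ← map_add, map_eq_zero_iff _ (algebraMap E M).injective] at h1
  have h2 := congrArg (F.D w 0) h1
  rw [map_add, Derivation.leibniz, hs0, hr0, D_T, map_zero, smul_zero, add_zero, zero_add, smul_eq_mul, mul_one] at h2
  have hz : z = 0 := by
    have : z ^ 2 = 0 := by rw [hr, h2, map_zero]
    exact pow_eq_zero_iff (two_ne_zero) |>.1 this
  refine ⟨?_, hz⟩
  rw [hz, map_zero, zero_mul, add_zero] at h
  exact (map_eq_zero_iff _ (algebraMap L M).injective).1 h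

theorem existsUnique_cf (x : M) : ∃! z : L, ∃ y : L, x = jj y + jj z * σ.t := by
  obtain ⟨y, z, rfl⟩ := hsp2 x
  refine ⟨z, ⟨y, rfl⟩, ?_⟩
  rintro z' ⟨y', h⟩
  have h1 : jj (y' - y) + jj (z' - z) * tt ρ σ 0 = 0 := by
    have : tt ρ σ 0 = σ.t := by
      rw [tt]
      change σ.t + jj 0 = _
      rw [map_zero, add_zero]
    rw [this, map_sub, map_sub]
    linear_combination -h
  exact sub_eq_zero.1 (eq_zero_of ρ σ hsp h1).2

/-- The coefficient of `t`. -/
noncomputable def cf : M →ₗ[L] L where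
  toFun x := (existsUnique_cf ρ σ hsp hsp2 x).choose
  map_add' x y := by
    symm
    refine (existsUnique_cf ρ σ hsp hsp2 (x + y)).choose_spec.2 _ ?_
    obtain ⟨y1, h1⟩ := (existsUnique_cf ρ σ hsp hsp2 x).choose_spec.1
    obtain ⟨y2, h2⟩ := (existsUnique_cf ρ σ hsp hsp2 y).choose_spec.1
    refine ⟨y1 + y2, ?_⟩
    rw [map_add, map_add]
    linear_combination h1 + h2
  map_smul' r x := by
    symm
    refine (existsUnique_cf ρ σ hsp hsp2 (r • x)).choose_spec.2 _ ?_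
    obtain ⟨y1, h1⟩ := (existsUnique_cf ρ σ hsp hsp2 x).choose_spec.1
    refine ⟨r * y1, ?_⟩
    rw [RingHom.id_apply, Algebra.smul_def, smul_eq_mul, map_mul, map_mul]
    linear_combination jj r * h1

theorem cf_eq (i : Fin 3) (y z : L) : cf ρ σ hsp hsp2 (jj y + jj z * tt ρ σ i) = z := by
  symm
  refine (existsUnique_cf ρ σ hsp hsp2 _).choose_spec.2 _ ⟨y + z * sc ρ i, ?_⟩
  rw [tt, map_add, map_mul]
  ring

/-- The restriction of scalars of `cf`. -/
noncomputable def cfE : M →ₗ[E] L := (cf ρ σ hsp hsp2).restrictScalars E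

theorem cfE_eq (i : Fin 3) (y z : L) : cfE ρ σ hsp hsp2 (jj y + jj z * tt ρ σ i) = z := cf_eq ρ σ hsp hsp2 i y z

theorem cfE_jj (y : L) : cfE ρ σ hsp hsp2 (jj y) = 0 := by
  have := cfE_eq ρ σ hsp hsp2 0 y 0
  rwa [map_zero, zero_mul, add_zero] at this

theorem cfE_mul (i : Fin 3) (z : L) : cfE ρ σ hsp hsp2 (jj z * tt ρ σ i) = z := by
  have := cfE_eq ρ σ hsp hsp2 i 0 z
  rwa [map_zero, zero_add] at this

omit hsp hsp2 in
theorem sq_yz (i : Fin 3) (y z : L) : (jj y + jj z * tt ρ σ i) ^ 2 = jj (y ^ 2) + jj (z ^ 2) * ι₂ (T F w i) := by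
  have two := two_M σ
  rw [← tt_sq ρ σ, map_pow, map_pow]
  linear_combination (jj y * (jj z * tt ρ σ i)) * two

omit hsp2 in
/-- The components of an element with square in a subring stable under `D_0`. -/
theorem comp_mem {i : Fin 3} {y z : L} {s : E} (h : (jj y + jj z * tt ρ σ i) ^ 2 = ι₂ s) :
    z ^ 2 = ι (F.D w 0 s) ∧ y ^ 2 = ι (s - F.D w 0 s * T F w i) := by
  obtain ⟨sy, hy, hy0⟩ := sqE ρ hsp y
  obtain ⟨sz, hz, hz0⟩ := sqE ρ hsp z
  rw [sq_yz, hy, hz, ← IsScalarTower.algebraMap_apply, ← IsScalarTower.algebraMap_apply,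
    ← map_mul, ← map_add] at h
  have h1 := (algebraMap E M).injective h
  have h2 := congrArg (F.D w 0) h1
  rw [map_add, Derivation.leibniz, hy0, hz0, D_T, smul_zero, add_zero, zero_add, smul_eq_mul, mul_one] at h2
  refine ⟨by rw [hz, h2], ?_⟩
  rw [hy, ← h2]
  congr 1
  linear_combination h1

/-- The cover of degree 8. -/
noncomputable def covTwo : Cov F M (Fin 4 ⊕ Fin 4) where
  b i := Sum.elim (fun k => jj ((covOne ρ hsp).b i k)) (fun k => jj ((covOne ρ hsp).b i k) * tt ρ σ i)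
  bs i := Sum.elim (fun k => jj ((covOne ρ hsp).bs i k) * tt ρ σ i) (fun k => jj ((covOne ρ hsp).bs i k))
  τ := (covOne ρ hsp).τ.comp (cfE ρ σ hsp hsp2)
  orth i j k := by
    rcases j with j | j <;> rcases k with k | k
    · simp only [Sum.elim_inl, LinearMap.comp_apply, Sum.inl.injEq]
      rw [← mul_assoc, ← map_mul, cfE_mul, (covOne ρ hsp).orth]
    · simp only [Sum.elim_inl, Sum.elim_inr, LinearMap.comp_apply, reduceCtorEq, if_false]
      rw [← map_mul, cfE_jj, map_zero]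
    · simp only [Sum.elim_inl, Sum.elim_inr, LinearMap.comp_apply, reduceCtorEq, if_false]
      have : jj ((covOne ρ hsp).b i j) * tt ρ σ i * (jj ((covOne ρ hsp).bs i k) * tt ρ σ i) =
          jj ((covOne ρ hsp).b i j * (covOne ρ hsp).bs i k * ι (T F w i)) := by
        rw [map_mul, map_mul, ← IsScalarTower.algebraMap_apply, ← tt_sq ρ σ]
        ring
      rw [this, cfE_jj, map_zero]
    · simp only [Sum.elim_inr, LinearMap.comp_apply, Sum.inr.injEq]
      rw [mul_right_comm, ← map_mul, cfE_mul, (covOne ρ hsp).orth]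
  spanE i x := by
    obtain ⟨y, z, rfl⟩ := exists_yz ρ σ hsp hsp2 i x
    obtain ⟨c, hc⟩ := (covOne ρ hsp).spanE i y
    obtain ⟨d, hd⟩ := (covOne ρ hsp).spanE i z
    refine ⟨Sum.elim c d, ?_⟩
    rw [Fintype.sum_sum_type]
    simp only [Sum.elim_inl, Sum.elim_inr]
    have h1 : jj y = ∑ k, ι₂ (c k) * jj ((covOne ρ hsp).b i k) := by
      rw [hc, map_sum]
      exact Finset.sum_congr rfl fun k _ => by rw [map_mul, ← IsScalarTower.algebraMap_apply]
    have h2 : jj z = ∑ k, ι₂ (d k) * jj ((covOne ρ hsp).b i k) := by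
      rw [hd, map_sum]
      exact Finset.sum_congr rfl fun k _ => by rw [map_mul, ← IsScalarTower.algebraMap_apply]
    rw [h1, h2, Finset.sum_mul]
    simp only [mul_assoc]
  b_sq i k := by
    rcases k with k | k
    · obtain ⟨s, hs, h⟩ := (covOne ρ hsp).b_sq i k
      exact ⟨s, hs, by rw [Sum.elim_inl, ← map_pow, h, ← IsScalarTower.algebraMap_apply]⟩
    · obtain ⟨s, hs, h⟩ := (covOne ρ hsp).b_sq i k
      exact ⟨s * T F w i, Subalgebra.mul_mem _ hs (T_mem i), by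
        rw [Sum.elim_inr, mul_pow, ← map_pow, h, ← IsScalarTower.algebraMap_apply, tt_sq, map_mul]⟩
  mem i x := by
    rintro ⟨s, hs, hx⟩
    obtain ⟨y, z, rfl⟩ := exists_yz ρ σ hsp hsp2 i x
    obtain ⟨h1, h2⟩ := comp_mem ρ σ hsp hx
    have h3 := F.st_D w 0 i _ hs
    obtain ⟨c, hc, hy⟩ := (covOne ρ hsp).mem i y ⟨_, Subalgebra.sub_mem _ hs (Subalgebra.mul_mem _ h3 (T_mem i)), h2⟩
    obtain ⟨d, hd, hz⟩ := (covOne ρ hsp).mem i z ⟨_, h3, h1⟩
    refine ⟨Sum.elim c d, fun k => by rcases k with k | k; exacts [hc k, hd k], ?_⟩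
    rw [Fintype.sum_sum_type]
    simp only [Sum.elim_inl, Sum.elim_inr]
    have h1 : jj y = ∑ k, ι₂ (c k) * jj ((covOne ρ hsp).b i k) := by
      rw [hy, map_sum]
      exact Finset.sum_congr rfl fun k _ => by rw [map_mul, ← IsScalarTower.algebraMap_apply]
    have h2 : jj z = ∑ k, ι₂ (d k) * jj ((covOne ρ hsp).b i k) := by
      rw [hz, map_sum]
      exact Finset.sum_congr rfl fun k _ => by rw [map_mul, ← IsScalarTower.algebraMap_apply]
    rw [h1, h2, Finset.sum_mul]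
    simp only [mul_assoc]
  bs_sq i k := by
    rcases k with k | k
    · obtain ⟨s, hs, h⟩ := (covOne ρ hsp).bs_sq i k
      refine ⟨s * T F w i, Subalgebra.mul_mem _ hs (T_mem i), ?_⟩
      rw [Sum.elim_inl, ← mul_assoc, mul_pow, IsScalarTower.algebraMap_apply E L M, ← map_mul, ← map_pow, h,
        tt_sq, ← IsScalarTower.algebraMap_apply, ← map_mul]
      congr 1
      ring
    · obtain ⟨s, hs, h⟩ := (covOne ρ hsp).bs_sq i k
      refine ⟨s, hs, ?_⟩
      rw [Sum.elim_inr, IsScalarTower.algebraMap_apply E L M, ← map_mul, ← map_pow, h,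
        ← IsScalarTower.algebraMap_apply]
  τ_mem i x := by
    rintro ⟨s, hs, hx⟩
    obtain ⟨y, z, rfl⟩ := exists_yz ρ σ hsp hsp2 i x
    obtain ⟨h1, -⟩ := comp_mem ρ σ hsp hx
    rw [LinearMap.comp_apply, cfE_eq]
    refine (covOne ρ hsp).τ_mem i z ⟨F.D w 0 s, F.st_D w 0 i _ hs, ?_⟩
    rw [h1, Derivation.leibniz, F.D_u, smul_zero, add_zero, smul_eq_mul]
  uni i := by
    obtain ⟨n, p, q, hp, hq, h⟩ := (covOne ρ hsp).uni i
    refine ⟨n, fun j => jj (p j), fun j => jj (q j), fun j => ?_, fun j => ?_, ?_⟩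
    · obtain ⟨s, hs, h⟩ := hp j
      exact ⟨s, hs, by rw [← map_pow, h, ← IsScalarTower.algebraMap_apply]⟩
    · obtain ⟨s, hs, h⟩ := hq j
      exact ⟨s, hs, by rw [← map_pow, h, ← IsScalarTower.algebraMap_apply]⟩
    · rw [IsScalarTower.algebraMap_apply E L M, ← h, map_sum]
      exact Finset.sum_congr rfl fun k _ => (map_mul _ _ _).symm

end K816.CovTwo
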