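import Groth.Agent.Surf.K816.Num
import Groth.Agent.Surf.K816.CovTwo

/-!
# The Euler characteristics for the cover of degree 8
-/

set_option autoImplicit false
set_option linter.unusedSectionVars false

universe u

open CategoryTheory CategoryTheory.Limits AlgebraicGeometry TopologicalSpace Opposite

namespace K816.NumTwo

open K816.Geo K816.Plane K816.Real K816.Lat K816.Cov K816.CovTwo K816.Surface K816.Mods K816.Ideals K816.Ses
open K816.SeqOne K816.Geom K816.Num Groth.Agent.Ega1.QCohLoc Groth.Agent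

variable {K : Type u} [Field K] [CharP K 2] {L : Type u} [Field L] [Algebra (E K) L]
variable {M : Type u} [Field M] [Algebra (E K) M] [Algebra L M] [IsScalarTower (E K) L M]
variable {w : Par K} (ρ : Rt (pf K) w L) (σ : Rt2 (pf K) w M) (hsp : ∀ x : L, ∃ d, x = el ρ 0 d)
  (hsp2 : ∀ x : M, ∃ y z : L, x = algebraMap L M y + algebraMap L M z * σ.t)

theorem tt_zero : tt ρ σ 0 = σ.t := by
  rw [tt]
  change σ.t + algebraMap L M 0 = _
  rw [map_zero, add_zero]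

include hsp hsp2 in
/-- The extension of the direct images. -/
theorem exists_ext (J : (Y K L).IdealSheafData) (J' : (Y K M).IdealSheafData) (P : Fin 3 → L → Prop)
    (Q : Fin 3 → M → Prop) (hP : ∀ i s, P i ((RY J).w i s)) (hP' : ∀ i z, P i z → ∃ s, (RY J).w i s = z)
    (hQ : ∀ i s, Q i ((RY J').w i s)) (hQ' : ∀ i z, Q i z → ∃ s, (RY J').w i s = z)
    (h1 : ∀ i z, P i z → Q i (algebraMap L M z)) (h2 : ∀ i x, Q i x → P i (cfE ρ σ hsp hsp2 x))
    (h3 : ∀ i y, Q i (algebraMap L M y) → P i y) (h4 : ∀ i z, P i z → Q i (algebraMap L M z * tt ρ σ i)) :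
    ∃ (φ : pF (ClSub.idealMod J) ⟶ pF (ClSub.idealMod J')) (ψ : pF (ClSub.idealMod J') ⟶ pF (ClSub.idealMod J))
      (w : φ ≫ ψ = 0), (ShortComplex.mk φ ψ w).ShortExact := by
  refine exists_ses (RY J) (RY J') (RY J) (isQCoh_idY J) (isQCoh_idY J') (isQCoh_idY J)
    (IsScalarTower.toAlgHom (E K) L M).toLinearMap (cfE ρ σ hsp hsp2) ?_ ?_ ?_ ?_ ?_ ?_
  · intro i s
    exact hQ' i _ (h1 i _ (hP i s))
  · intro i s
    exact hP' i _ (h2 i _ (hQ i s))
  · intro x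
    exact cfE_jj ρ σ hsp hsp2 x
  · exact (algebraMap L M).injective
  · intro i s hs
    obtain ⟨y, z, hyz⟩ := exists_yz ρ σ hsp hsp2 0 ((RY J').w i s)
    have h5 : z = 0 := by
      rw [← hs, hyz, cfE_eq]
    rw [h5, map_zero, zero_mul, add_zero] at hyz
    obtain ⟨t, ht⟩ := hP' i y (h3 i y (hyz ▸ hQ i s))
    exact ⟨t, by rw [hyz, ht]; rfl⟩
  · intro i t
    obtain ⟨s, hs⟩ := hQ' i _ (h4 i _ (hP i t))
    exact ⟨s, by rw [hs, cfE_mul]⟩

theorem euler_ext (C : Cov (pf K) L (Fin 4)) (C' : Cov (pf K) M (Fin 4 ⊕ Fin 4)) (J : (Y K L).IdealSheafData)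
    (J' : (Y K M).IdealSheafData)
    (h : ∃ (φ : pF (ClSub.idealMod J) ⟶ pF (ClSub.idealMod J')) (ψ : pF (ClSub.idealMod J') ⟶ pF (ClSub.idealMod J))
      (w : φ ≫ ψ = 0), (ShortComplex.mk φ ψ w).ShortExact) :
    Curv2.euler K (S K) (pF (ClSub.idealMod J')) = 2 * Curv2.euler K (S K) (pF (ClSub.idealMod J)) := by
  obtain ⟨φ, ψ, w, hS⟩ := h
  have h3 := Groth.Agent.S1524.result K (S K) _ hS (isCoh_idY C J) (isCoh_idY C' J') (isCoh_idY C J)
  linarith

omit [CharP K 2] in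
theorem jj_inB {i : Fin 3} {z : L} (h : InB (pf K) L i z) : InB (pf K) M i (algebraMap L M z) := by
  obtain ⟨s, hs, h⟩ := h
  exact ⟨s, hs, by rw [← map_pow, h, ← IsScalarTower.algebraMap_apply]⟩

omit [CharP K 2] in
theorem jj_inB' {i : Fin 3} {z : L} (h : InB (pf K) M i (algebraMap L M z)) : InB (pf K) L i z := by
  obtain ⟨s, hs, h⟩ := h
  refine ⟨s, hs, (algebraMap L M).injective ?_⟩
  rw [map_pow, h, ← IsScalarTower.algebraMap_apply]

omit [CharP K 2] in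
theorem jj_inI {i : Fin 3} {z : L} (h : InI (pf K) L i z) : InI (pf K) M i (algebraMap L M z) := by
  obtain ⟨s, hs, h⟩ := h
  exact ⟨s, hs, by rw [← map_pow, h, ← IsScalarTower.algebraMap_apply]⟩

omit [CharP K 2] in
theorem jj_inI' {i : Fin 3} {z : L} (h : InI (pf K) M i (algebraMap L M z)) : InI (pf K) L i z := by
  obtain ⟨s, hs, h⟩ := h
  refine ⟨s, hs, (algebraMap L M).injective ?_⟩
  rw [map_pow, h, ← IsScalarTower.algebraMap_apply]

theorem tt_inB {i : Fin 3} {z : L} (h : InB (pf K) L i z) : InB (pf K) M i (algebraMap L M z * tt ρ σ i) := by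
  obtain ⟨s, hs, h⟩ := h
  exact ⟨s * T (pf K) w i, Subalgebra.mul_mem _ hs (T_mem i), by
    rw [mul_pow, ← map_pow, h, ← IsScalarTower.algebraMap_apply, tt_sq, map_mul]⟩

theorem tt_inI {i : Fin 3} {z : L} (h : InI (pf K) L i z) : InI (pf K) M i (algebraMap L M z * tt ρ σ i) := by
  obtain ⟨s, hs, h⟩ := h
  exact ⟨s * T (pf K) w i, Subalgebra.mul_mem _ hs (T_mem i), by
    rw [mul_pow, ← map_pow, h, ← IsScalarTower.algebraMap_apply, tt_sq, ← map_mul, mul_assoc]⟩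

theorem cf_inB {i : Fin 3} {x : M} (h : InB (pf K) M i x) : InB (pf K) L i (cfE ρ σ hsp hsp2 x) := by
  obtain ⟨s, hs, h⟩ := h
  obtain ⟨y, z, rfl⟩ := exists_yz ρ σ hsp hsp2 i x
  obtain ⟨h1, -⟩ := comp_mem ρ σ hsp h
  rw [cfE_eq]
  exact ⟨_, (pf K).st_D w 0 i _ hs, h1⟩

theorem cf_inI {i : Fin 3} {x : M} (h : InI (pf K) M i x) : InI (pf K) L i (cfE ρ σ hsp hsp2 x) := by
  obtain ⟨s, hs, h⟩ := h
  obtain ⟨y, z, rfl⟩ := exists_yz ρ σ hsp hsp2 i x
  obtain ⟨h1, -⟩ := comp_mem ρ σ hsp h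
  rw [cfE_eq]
  refine ⟨_, (pf K).st_D w 0 i _ hs, ?_⟩
  rw [h1, Derivation.leibniz, (pf K).D_u, smul_zero, add_zero, smul_eq_mul]

include hsp hsp2 in
theorem nums_two : Nums K M 2 := by
  let C := covOne ρ hsp
  let C' := covTwo ρ σ hsp hsp2
  have hn := nums_one ρ hsp
  have hT := exists_ext ρ σ hsp hsp2 (⊤ : (Y K L).IdealSheafData) (⊤ : (Y K M).IdealSheafData)
    (InB (pf K) L) (InB (pf K) M) (top_w C) (fun i z hz => top_exists i hz) (top_w C')
    (fun i z hz => top_exists i hz) (fun i z hz => jj_inB hz) (fun i z hz => cf_inB ρ σ hsp hsp2 hz)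
    (fun i z hz => jj_inB' hz) (fun i z hz => tt_inB ρ σ hz)
  have hC := exists_ext ρ σ hsp hsp2 (Cc K L) (Cc K M)
    (InI (pf K) L) (InI (pf K) M) (Cc_w C) (fun i z hz => Cc_exists C i hz) (Cc_w C')
    (fun i z hz => Cc_exists C' i hz) (fun i z hz => jj_inI hz) (fun i z hz => cf_inI ρ σ hsp hsp2 hz)
    (fun i z hz => jj_inI' hz) (fun i z hz => tt_inI ρ σ hz)
  have hH := exists_ext ρ σ hsp hsp2 (H0 K L) (H0 K M)
    (fun i z => ∃ y, InB (pf K) L i y ∧ z = algebraMap (E K) L ((pf K).u i) * y)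
    (fun i z => ∃ y, InB (pf K) M i y ∧ z = algebraMap (E K) M ((pf K).u i) * y)
    (H0_w C) (fun i z hz => by
      obtain ⟨y, hy, rfl⟩ := hz
      exact H0_exists i hy) (H0_w C')
    (fun i z hz => by
      obtain ⟨y, hy, rfl⟩ := hz
      exact H0_exists i hy) (fun i z hz => by
      obtain ⟨y, hy, rfl⟩ := hz
      exact ⟨_, jj_inB hy, by rw [map_mul, ← IsScalarTower.algebraMap_apply]⟩)
    (fun i z hz => by
      obtain ⟨y, hy, rfl⟩ := hz
      refine ⟨_, cf_inB ρ σ hsp hsp2 hy, ?_⟩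
      rw [← Algebra.smul_def, map_smul, Algebra.smul_def])
    (fun i z hz => by
      obtain ⟨y, hy, h⟩ := hz
      have hu : algebraMap (E K) L ((pf K).u i) ≠ 0 := by simpa using (pf K).u_ne i
      have hu' : algebraMap (E K) M ((pf K).u i) ≠ 0 := by simpa using (pf K).u_ne i
      refine ⟨(algebraMap (E K) L ((pf K).u i))⁻¹ * z, jj_inB' (M := M) ?_, by rw [mul_inv_cancel_left₀ hu]⟩
      rw [map_mul, map_inv₀, ← IsScalarTower.algebraMap_apply, h, inv_mul_cancel_left₀ hu']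
      exact hy)
    (fun i z hz => by
      obtain ⟨y, hy, rfl⟩ := hz
      refine ⟨_, tt_inB ρ σ hy, ?_⟩
      rw [map_mul, ← IsScalarTower.algebraMap_apply, mul_assoc])
  refine ⟨?_, ?_, ?_, ?_⟩
  · rw [euler_ext C C' _ _ hT, hn.e0, mul_zero]
  · rw [euler_ext C C' _ _ hC, hn.e1, mul_zero]
  · rw [euler_ext C C' _ _ hH, hn.e2, mul_one]
  · obtain ⟨φ, ψ, w, hS⟩ := hT
    exact Fga.HShift.subsingleton₂ hS 2 hn.h2 hn.h2

end K816.NumTwo
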