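import Mathlib.RingTheory.Derivation.Basic
import Mathlib.Algebra.CharP.Two
import Mathlib.Tactic.LinearCombination
import Mathlib.Tactic.Ring
import Mathlib.Algebra.Algebra.Subalgebra.Basic

/-!
# Square roots and derivations in characteristic two

`E` a field of characteristic two, `A ⊆ E` a subalgebra closed under square roots and under some derivations.
For the three charts of the surface, a sum `c₀² + c₁² u P + c₂² u R + c₃² P R` in `A` has all `c_k` in `A`.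
-/

set_option autoImplicit false
set_option linter.unusedSimpArgs false

universe u

namespace K816.Alg

variable {K E : Type u} [Field K] [Field E] [Algebra K E] [CharP E 2]

theorem two_eq_zero : (2 : E) = 0 := CharTwo.two_eq_zero

theorem der_sq (D : Derivation ℤ E E) (c : E) : D (c ^ 2) = 0 := by
  rw [pow_two, Derivation.leibniz, smul_eq_mul, ← two_mul, two_eq_zero (E := E), zero_mul]

theorem der_sq_mul (D : Derivation ℤ E E) (c x : E) : D (c ^ 2 * x) = c ^ 2 * D x := by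
  rw [Derivation.leibniz, der_sq, smul_zero, add_zero, smul_eq_mul]

theorem der_cube (D : Derivation ℤ E E) (c : E) : D (c ^ 3) = c ^ 2 * D c := by
  rw [pow_succ, der_sq_mul]

/-- Closed under square roots. -/
def RC (A : Subalgebra K E) : Prop := ∀ c : E, c ^ 2 ∈ A → c ∈ A

/-- Stable under a derivation. -/
def St (D : Derivation ℤ E E) (A : Subalgebra K E) : Prop := ∀ x ∈ A, D x ∈ A

variable {A : Subalgebra K E}

section chart0

variable {P R : E} (hA : RC A) {D₁ D₂ : Derivation ℤ E E} (h1 : St D₁ A) (h2 : St D₂ A)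
  (hP : P ∈ A) (hR : R ∈ A) (h1P : D₁ P = 1) (h1R : D₁ R = 0) (h2P : D₂ P = 0) (h2R : D₂ R = 1)

include hA h1 h2 hP hR h1P h1R h2P h2R in
/-- Chart with `u = 1`. -/
theorem mem_of_chart0 {c₀ c₁ c₂ c₃ : E}
    (h : c₀ ^ 2 + c₁ ^ 2 * P + c₂ ^ 2 * R + c₃ ^ 2 * (P * R) ∈ A) :
    c₀ ∈ A ∧ c₁ ∈ A ∧ c₂ ∈ A ∧ c₃ ∈ A := by
  have e1 := h1 _ h
  simp only [map_add, der_sq, Derivation.leibniz, smul_eq_mul, h1P, h1R] at e1
  have e1' : c₁ ^ 2 + c₃ ^ 2 * R ∈ A := by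
    convert e1 using 1
    ring
  have e2 := h2 _ e1'
  simp only [map_add, der_sq_mul, der_sq, h2R] at e2
  have h3 : c₃ ∈ A := hA _ (by simpa using e2)
  have h4 : c₁ ∈ A := hA _ (by
    have := A.sub_mem e1' (A.mul_mem (A.pow_mem h3 2) hR)
    simpa using this)
  have e3 := h2 _ h
  simp only [map_add, der_sq, Derivation.leibniz, smul_eq_mul, h2P, h2R] at e3
  have e3' : c₂ ^ 2 + c₃ ^ 2 * P ∈ A := by
    convert e3 using 1
    ring
  have h5 : c₂ ∈ A := hA _ (by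
    have := A.sub_mem e3' (A.mul_mem (A.pow_mem h3 2) hP)
    simpa using this)
  refine ⟨hA _ ?_, h4, h5, h3⟩
  have := A.sub_mem h (A.add_mem (A.add_mem (A.mul_mem (A.pow_mem h4 2) hP) (A.mul_mem (A.pow_mem h5 2) hR))
    (A.mul_mem (A.pow_mem h3 2) (A.mul_mem hP hR)))
  convert this using 1
  ring

end chart0

section chart1

variable {u v a₁ a₂ a₃ : E} (hA : RC A) {D₁ D₂ D₃ δu δv : Derivation ℤ E E}
  (h1 : St D₁ A) (h2 : St D₂ A) (h3 : St D₃ A) (hdu : St δu A) (hdv : St δv A)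
  (hu : u ∈ A) (hv : v ∈ A) (ha₁ : a₁ ∈ A) (ha₂ : a₂ ∈ A) (ha₃ : a₃ ∈ A)
  (d1u : D₁ u = 0) (d1v : D₁ v = 0) (d1a₁ : D₁ a₁ = 1) (d1a₂ : D₁ a₂ = 0) (d1a₃ : D₁ a₃ = 0)
  (d2u : D₂ u = 0) (d2v : D₂ v = 0) (d2a₁ : D₂ a₁ = 0) (d2a₂ : D₂ a₂ = 1) (d2a₃ : D₂ a₃ = 0)
  (d3u : D₃ u = 0) (d3v : D₃ v = 0) (d3a₁ : D₃ a₁ = 0) (d3a₂ : D₃ a₂ = 0) (d3a₃ : D₃ a₃ = 1)
  (duu : δu u = 1) (duv : δu v = 0) (dua₁ : δu a₁ = 0) (dua₂ : δu a₂ = 0) (dua₃ : δu a₃ = 0)
  (dvu : δv u = 0) (dvv : δv v = 1) (dva₁ : δv a₁ = 0) (dva₂ : δv a₂ = 0) (dva₃ : δv a₃ = 0)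

/-- `P` in the chart `x₁ ≠ 0`. -/
def P1 (u v a₁ : E) : E := 1 + a₁ * u ^ 3 + u ^ 2 * v

/-- `R` in the chart `x₁ ≠ 0`. -/
def R1 (u v a₁ a₂ a₃ : E) : E := a₂ * u + a₃ + a₁ * (u * v ^ 2) + v ^ 3

include hA h3 hdu hdv hu hv ha₁ ha₂ ha₃ d3u d3v d3a₁ d3a₂ d3a₃ duu duv dua₁ dvu dvv dva₁ in
/-- The chart `x₁ ≠ 0`. -/
theorem mem_of_chart1 {c₀ c₁ c₂ c₃ : E}
    (h : c₀ ^ 2 + c₁ ^ 2 * (u * P1 u v a₁) + c₂ ^ 2 * (u * R1 u v a₁ a₂ a₃) +
      c₃ ^ 2 * (P1 u v a₁ * R1 u v a₁ a₂ a₃) ∈ A) :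
    c₀ ∈ A ∧ c₁ ∈ A ∧ c₂ ∈ A ∧ c₃ ∈ A := by
  have two := two_eq_zero (E := E)
  have hP : P1 u v a₁ ∈ A := A.add_mem (A.add_mem A.one_mem (A.mul_mem ha₁ (A.pow_mem hu 3)))
    (A.mul_mem (A.pow_mem hu 2) hv)
  have hR : R1 u v a₁ a₂ a₃ ∈ A := A.add_mem (A.add_mem (A.add_mem (A.mul_mem ha₂ hu) ha₃)
    (A.mul_mem ha₁ (A.mul_mem hu (A.pow_mem hv 2)))) (A.pow_mem hv 3)
  have h3P : D₃ (P1 u v a₁) = 0 := by
    simp only [P1, map_add, Derivation.map_one_eq_zero, Derivation.leibniz, der_cube, der_sq, d3u, d3v,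
      d3a₁, smul_zero, mul_zero, add_zero]
  have h3R : D₃ (R1 u v a₁ a₂ a₃) = 1 := by
    simp only [R1, map_add, Derivation.leibniz, der_cube, der_sq, d3u, d3v,
      d3a₁, d3a₂, d3a₃, smul_zero, mul_zero, add_zero, zero_add]
  have huP : δu (P1 u v a₁) = a₁ * u ^ 2 := by
    simp only [P1, map_add, Derivation.map_one_eq_zero, Derivation.leibniz, der_cube, der_sq, duu, duv,
      dua₁, smul_zero, smul_eq_mul, mul_zero, add_zero, zero_add, mul_one]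
  have hvP : δv (P1 u v a₁) = u ^ 2 := by
    simp only [P1, map_add, Derivation.map_one_eq_zero, Derivation.leibniz, der_cube, der_sq, dvu, dvv,
      dva₁, smul_zero, smul_eq_mul, mul_zero, add_zero, zero_add, mul_one]
  have e1 : c₂ ^ 2 * u + c₃ ^ 2 * P1 u v a₁ ∈ A := by
    have := h3 _ h
    simp only [map_add, der_sq_mul, der_sq, Derivation.leibniz, smul_eq_mul, h3P, h3R, d3u, mul_zero, add_zero,
      zero_add, mul_one] at this
    exact this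
  have e2 : c₂ ^ 2 + c₃ ^ 2 * (a₁ * u ^ 2) ∈ A := by
    have := hdu _ e1
    simp only [map_add, der_sq_mul, duu, huP, mul_one] at this
    exact this
  have e3 : c₃ ^ 2 * (1 + u ^ 2 * v) ∈ A := by
    have := A.add_mem e1 (A.mul_mem hu e2)
    convert this using 1
    rw [P1]
    linear_combination (-c₂ ^ 2 * u - c₃ ^ 2 * a₁ * u ^ 3) * two
  have e4 : c₃ ^ 2 * u ^ 2 ∈ A := by
    have := hdv _ e3
    simp only [map_add, der_sq_mul, Derivation.map_one_eq_zero, dvv, zero_add, mul_one] at this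
    exact this
  have m3 : c₃ ∈ A := hA _ (by
    have := A.add_mem e3 (A.mul_mem e4 hv)
    convert this using 1
    linear_combination (-c₃ ^ 2 * u ^ 2 * v) * two)
  have m2 : c₂ ∈ A := hA _ (by
    have := A.sub_mem e2 (A.mul_mem (A.pow_mem m3 2) (A.mul_mem ha₁ (A.pow_mem hu 2)))
    convert this using 1
    ring)
  have e5 : c₀ ^ 2 + c₁ ^ 2 * (u * P1 u v a₁) ∈ A := by
    have := A.sub_mem h (A.add_mem (A.mul_mem (A.pow_mem m2 2) (A.mul_mem hu hR))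
      (A.mul_mem (A.pow_mem m3 2) (A.mul_mem hP hR)))
    convert this using 1
    ring
  have e6 : c₁ ^ 2 * (1 + u ^ 2 * v) ∈ A := by
    have := hdu _ e5
    simp only [map_add, der_sq_mul, der_sq, Derivation.leibniz, smul_eq_mul, duu, huP, mul_one, zero_add] at this
    convert this using 1
    rw [P1]
    linear_combination (-c₁ ^ 2 * a₁ * u ^ 3) * two
  have e7 : c₁ ^ 2 * u ^ 2 ∈ A := by
    have := hdv _ e6
    simp only [map_add, der_sq_mul, Derivation.map_one_eq_zero, dvv, zero_add, mul_one] at this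
    exact this
  have m1 : c₁ ∈ A := hA _ (by
    have := A.add_mem e6 (A.mul_mem e7 hv)
    convert this using 1
    linear_combination (-c₁ ^ 2 * u ^ 2 * v) * two)
  refine ⟨hA _ ?_, m1, m2, m3⟩
  have := A.sub_mem e5 (A.mul_mem (A.pow_mem m1 2) (A.mul_mem hu hP))
  convert this using 1
  ring

/-- `P` in the chart `x₂ ≠ 0`. -/
def P2 (u v a₂ a₃ : E) : E := v + a₂ * u ^ 3 + a₃ * (u ^ 2 * v)

/-- `R` in the chart `x₂ ≠ 0`. -/
def R2 (u v a₁ a₂ a₃ : E) : E := 1 + a₁ * u + a₂ * (u * v ^ 2) + a₃ * v ^ 3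

include hA h1 h3 hdu hdv hu hv ha₁ ha₂ ha₃ d1u d1v d1a₁ d1a₂ d1a₃ d3u d3v d3a₃ duu duv dua₁ dua₂ dua₃ dvu dvv
  dva₁ dva₂ dva₃ in
/-- The chart `x₂ ≠ 0`. -/
theorem mem_of_chart2 {c₀ c₁ c₂ c₃ : E}
    (h : c₀ ^ 2 + c₁ ^ 2 * (u * P2 u v a₂ a₃) + c₂ ^ 2 * (u * R2 u v a₁ a₂ a₃) +
      c₃ ^ 2 * (P2 u v a₂ a₃ * R2 u v a₁ a₂ a₃) ∈ A) :
    c₀ ∈ A ∧ c₁ ∈ A ∧ c₂ ∈ A ∧ c₃ ∈ A := by
  have two := two_eq_zero (E := E)
  have hP : P2 u v a₂ a₃ ∈ A := A.add_mem (A.add_mem hv (A.mul_mem ha₂ (A.pow_mem hu 3)))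
    (A.mul_mem ha₃ (A.mul_mem (A.pow_mem hu 2) hv))
  have hR : R2 u v a₁ a₂ a₃ ∈ A := A.add_mem (A.add_mem (A.add_mem A.one_mem (A.mul_mem ha₁ hu))
    (A.mul_mem ha₂ (A.mul_mem hu (A.pow_mem hv 2)))) (A.mul_mem ha₃ (A.pow_mem hv 3))
  have h1P : D₁ (P2 u v a₂ a₃) = 0 := by
    simp only [P2, map_add, Derivation.leibniz, der_cube, der_sq, d1u, d1v, d1a₂, d1a₃,
      smul_zero, mul_zero, add_zero]
  have h1R : D₁ (R2 u v a₁ a₂ a₃) = u := by
    simp only [R2, map_add, Derivation.map_one_eq_zero, Derivation.leibniz, der_cube, der_sq, d1u, d1v, d1a₁,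
      d1a₂, d1a₃, smul_zero, mul_zero, add_zero, zero_add, smul_eq_mul, mul_one]
  have huP : δu (P2 u v a₂ a₃) = a₂ * u ^ 2 := by
    simp only [P2, map_add, Derivation.leibniz, der_cube, der_sq, duu, duv,
      dua₂, dua₃, smul_zero, smul_eq_mul, mul_zero, add_zero, zero_add, mul_one]
  have huR : δu (R2 u v a₁ a₂ a₃) = a₁ + a₂ * v ^ 2 := by
    simp only [R2, map_add, Derivation.map_one_eq_zero, Derivation.leibniz, der_cube, der_sq, duu, duv,
      dua₁, dua₂, dua₃, smul_zero, smul_eq_mul, mul_zero, add_zero, zero_add, mul_one]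
  have e1 : c₂ ^ 2 * u ^ 2 + c₃ ^ 2 * (u * P2 u v a₂ a₃) ∈ A := by
    have := h1 _ h
    simp only [map_add, der_sq_mul, der_sq, Derivation.leibniz, smul_eq_mul, h1P, h1R, d1u, mul_zero, add_zero,
      zero_add] at this
    convert this using 1
    ring
  have e2 : c₃ ^ 2 * (v * (1 + a₃ * u ^ 2)) ∈ A := by
    have := hdu _ e1
    simp only [map_add, der_sq_mul, der_sq, Derivation.leibniz, smul_eq_mul, duu, huP, mul_one, mul_zero,
      zero_add] at this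
    convert this using 1
    rw [P2]
    linear_combination (-c₃ ^ 2 * a₂ * u ^ 3) * two
  have e3 : c₃ ^ 2 * (1 + a₃ * u ^ 2) ∈ A := by
    have := hdv _ e2
    simp only [map_add, der_sq_mul, der_sq, Derivation.map_one_eq_zero, Derivation.leibniz, smul_eq_mul,
      dva₃, dvv, mul_zero, zero_add, mul_one, add_zero] at this
    exact this
  have e4 : c₃ ^ 2 * u ^ 2 ∈ A := by
    have := h3 _ e3
    simp only [map_add, der_sq_mul, der_sq, Derivation.map_one_eq_zero, Derivation.leibniz, smul_eq_mul,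
      d3a₃, mul_zero, zero_add, mul_one, add_zero] at this
    exact this
  have m3 : c₃ ∈ A := hA _ (by
    have := A.add_mem e3 (A.mul_mem ha₃ e4)
    convert this using 1
    linear_combination (-c₃ ^ 2 * a₃ * u ^ 2) * two)
  have e5 : c₀ ^ 2 + c₁ ^ 2 * (u * P2 u v a₂ a₃) + c₂ ^ 2 * (u * R2 u v a₁ a₂ a₃) ∈ A := by
    have := A.sub_mem h (A.mul_mem (A.pow_mem m3 2) (A.mul_mem hP hR))
    convert this using 1
    ring
  have e6 : c₁ ^ 2 * (v * (1 + a₃ * u ^ 2)) + c₂ ^ 2 * (1 + a₃ * v ^ 3) ∈ A := by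
    have := hdu _ e5
    simp only [map_add, der_sq_mul, der_sq, Derivation.leibniz, smul_eq_mul, duu, huP, huR, mul_one, mul_zero,
      zero_add] at this
    convert this using 1
    rw [P2, R2]
    linear_combination (-c₁ ^ 2 * a₂ * u ^ 3 - c₂ ^ 2 * (a₁ * u + a₂ * u * v ^ 2)) * two
  have e7 : c₁ ^ 2 * (1 + a₃ * u ^ 2) + c₂ ^ 2 * (a₃ * v ^ 2) ∈ A := by
    have := hdv _ e6
    simp only [map_add, der_sq_mul, der_sq, der_cube, Derivation.map_one_eq_zero, Derivation.leibniz, smul_eq_mul,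
      dva₃, dvv, mul_zero, zero_add, mul_one, add_zero] at this
    exact this
  have e8 : c₁ ^ 2 * u ^ 2 + c₂ ^ 2 * v ^ 2 ∈ A := by
    have := h3 _ e7
    simp only [map_add, der_sq_mul, der_sq, Derivation.map_one_eq_zero, Derivation.leibniz, smul_eq_mul,
      d3a₃, mul_zero, zero_add, mul_one, add_zero] at this
    exact this
  have m1 : c₁ ∈ A := hA _ (by
    have := A.add_mem e7 (A.mul_mem ha₃ e8)
    convert this using 1
    linear_combination (-c₁ ^ 2 * a₃ * u ^ 2 - c₂ ^ 2 * a₃ * v ^ 2) * two)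
  have e9 : c₂ ^ 2 * (1 + a₃ * v ^ 3) ∈ A := by
    have := A.sub_mem e6 (A.mul_mem (A.pow_mem m1 2) (A.mul_mem hv (A.add_mem A.one_mem
      (A.mul_mem ha₃ (A.pow_mem hu 2)))))
    convert this using 1
    ring
  have e10 : c₂ ^ 2 * v ^ 3 ∈ A := by
    have := h3 _ e9
    simp only [map_add, der_sq, der_cube, Derivation.map_one_eq_zero, Derivation.leibniz, smul_eq_mul,
      d3a₃, d3v, mul_zero, zero_add, mul_one, add_zero] at this
    exact this
  have m2 : c₂ ∈ A := hA _ (by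
    have := A.add_mem e9 (A.mul_mem ha₃ e10)
    convert this using 1
    linear_combination (-c₂ ^ 2 * a₃ * v ^ 3) * two)
  refine ⟨hA _ ?_, m1, m2, m3⟩
  have := A.sub_mem e5 (A.add_mem (A.mul_mem (A.pow_mem m1 2) (A.mul_mem hu hP))
    (A.mul_mem (A.pow_mem m2 2) (A.mul_mem hu hR)))
  convert this using 1
  ring

end chart1

end K816.Alg
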