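import Groth.Agent.Surf.K816.Num
import Groth.Agent.S10962
import Groth.Agent.S2327
import Groth.Agent.Sga5.AmpleFib
import Groth.Agent.CalgB.ProjField
import Groth.Agent.Sga67.SerreVB
import Groth.Agent.Ega2.AmpleAff

/-!
# The anticanonical module is ample
-/

set_option autoImplicit false
set_option linter.unusedSectionVars false

universe u

open CategoryTheory CategoryTheory.Limits AlgebraicGeometry TopologicalSpace Opposite

namespace K816.Amp

open K816.Geo K816.Plane K816.Real K816.Lat K816.Cov K816.Surface K816.Mods K816.Ideals K816.Ses K816.MidLat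
open K816.SeqOne K816.Geom K816.Num Groth.Agent.Ega1.QCohLoc Groth.Agent Groth.Agent.Grpsch.PicGrp
open Groth.Agent.Dix.IdealModCartier Groth.Agent.Divis.EffCartier Groth.Agent.Fdesc.LocGen

theorem isInvertible_of_iso {X : Scheme.{u}} {L L' : X.Modules} (e : L ≅ L') (h : PicF.IsInvertible L) :
    PicF.IsInvertible L' := by
  intro x
  obtain ⟨U, hx, ⟨f⟩⟩ := h x
  exact ⟨U, hx, ⟨(Scheme.Modules.restrictFunctor U.ι).mapIso e.symm ≪≫ f⟩⟩

section plane

variable (K : Type u) [Field K]

theorem isInvertible_twist (d : ℤ) : PicF.IsInvertible (Twist.twistProjSpace 2 K d) :=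
  Groth.Agent.Sga67.SerreVB.isInvertible_twist 2 K d

/-- The ideal of the line. -/
noncomputable abbrev ell : (CohB1.ProjSpace 2 K).IdealSheafData := LefPen.hypIdeal (f0 K 1)

theorem isEff_line : BlowUp.IsEffCartierIdeal (ell K) := by
  refine isEffCartierIdeal_of_isInvertible ?_
  obtain ⟨e⟩ := nonempty_iso_twist K 1
  exact isInvertible_of_iso e.symm (isInvertible_twist K _)

theorem mk_twist : mk (Twist.twistProjSpace 2 K 1) (isInvertible_twist K 1) = (K464.Base.ic (ell K) (isEff_line K))⁻¹ := by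
  rw [eq_inv_iff_mul_eq_one]
  obtain ⟨e⟩ := nonempty_iso_twist K 1
  have h1 : K464.Base.ic (ell K) (isEff_line K) =
      mk (Twist.twistProjSpace 2 K (-((1 : ℕ) : ℤ))) (isInvertible_twist K _) := mk_congr e
  rw [h1, mk_mul_mk, mk_eq_one_iff]
  obtain ⟨e1⟩ := Groth.Agent.Sga67.SerreVB.nonempty_twist_mul 2 K 1 (-((1 : ℕ) : ℤ))
  obtain ⟨e2⟩ := Groth.Agent.Sga67.SerreVB.nonempty_twist_zero 2 K
  have h2 : (1 : ℤ) + (-((1 : ℕ) : ℤ)) = 0 := by norm_num
  rw [h2] at e1
  exact ⟨e1 ≪≫ e2⟩

/-- `O(1)`. -/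
noncomputable def twS : (S K).Modules := Twist.twistProjSpace 2 K 1

theorem isInvertible_twS : PicF.IsInvertible (twS K) := isInvertible_twist K 1

theorem isEff_ic : BlowUp.IsEffCartierIdeal (ic K 1) := isEff_line K

theorem mk_twS : mk (twS K) (isInvertible_twS K) = (K464.Base.ic (ic K 1) (isEff_ic K))⁻¹ := mk_twist K

theorem isAmple_twS : CohB1.IsAmple (twS K) := Groth.Agent.S10962.isAmple_of_pos K 2 (by norm_num)

end plane

variable {K : Type u} [Field K] [CharP K 2] {L : Type u} [Field L] [Algebra (E K) L] {κ : Type} [Fintype κ]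
  [DecidableEq κ]

theorem pull_ell : pull (p K L) (K464.Base.ic (ic K 1) (isEff_ic K)) = K464.Base.ic (H0 K L) isEff_H0 := by
  obtain ⟨e⟩ := pullback_idealMod (p K L) (D := ic K 1) (isEff_ic K) (isEff_H0 (K := K) (L := L))
  exact mk_congr e

/-- The canonical module. -/
noncomputable def om (K : Type u) [Field K] (L : Type u) [Field L] [Algebra (E K) L] : (Y K L).Modules :=
  ClSub.idealMod (Cc K L)

theorem isInvertible_om (C : Cov (pf K) L κ) : PicF.IsInvertible (om K L) := isInvertible_idealMod (isEff_Cc C)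

theorem mk_om_sq (C : Cov (pf K) L κ) :
    mk (om K L) (isInvertible_om C) * mk (om K L) (isInvertible_om C) = K464.Base.ic (H0 K L) isEff_H0 := by
  have h := K464.Base.ic_mul (isEff_Cc C) (isEff_Cc C)
  rw [K464.Base.ic_congr _ isEff_H0 (Cc_mul_Cc C)] at h
  exact h.symm

/-- The inverse of the canonical module is ample. -/
theorem exists_ample (C : Cov (pf K) L κ) : ∃ M : (Y K L).Modules, PicF.IsInvertible M ∧
    Nonempty (CohB1.tensorMod M (om K L) ≅ Coh.structureModule (Y K L)) ∧ CohB1.IsAmple M := by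
  obtain ⟨M, hM, h⟩ := exists_mk (mk (om K L) (isInvertible_om C))⁻¹
  have h1 : mk M hM * mk (om K L) (isInvertible_om C) = 1 := by rw [← h, inv_mul_cancel]
  refine ⟨M, hM, ?_, ?_⟩
  · rw [mk_mul_mk, mk_eq_one_iff] at h1
    exact h1
  · have h2 : mk (CohB1.tensorPow M 2) (isInvertible_tensorPow hM 2) =
        mk ((Scheme.Modules.pullback (p K L)).obj (twS K)) (isInvertible_pullback (p K L) (isInvertible_twS K)) := by
      rw [← pull_mk (p K L) (isInvertible_twS K), mk_twS, map_inv, pull_ell, ← mk_om_sq C, mk_tensorPow hM, ← h,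
        inv_pow, pow_two]
    rw [mk_eq_iff] at h2
    obtain ⟨e⟩ := h2
    have hp := isProper_fY C
    have hs : (Y K L).IsSeparated := by
      have h4 : IsSeparated (fY K L ≫ Limits.terminal.from _) := inferInstance
      constructor
      convert h4
      exact Subsingleton.elim _ _
    have hc : CompactSpace (Y K L) := (quasiCompact_iff_compactSpace (fY K L)).mp inferInstance
    rw [Groth.Agent.S2327.result (Y K L) M hM 2 (by norm_num)]
    exact Groth.Agent.Ega2.Weight.isAmple_of_iso e.symm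
      (Groth.Agent.Sga5.AmpleFib.isAmple_pullback (p K L) (isAmple_twS K))

theorem projective (C : Cov (pf K) L κ) : ∃ (n : ℕ) (ι : Y K L ⟶ CohB1.ProjSpace n K), IsClosedImmersion ι ∧
    ι ≫ CohB1.ProjSpace.toSpec n K = fY K L := by
  have hp := isProper_fY C
  obtain ⟨M, -, -, h⟩ := exists_ample C
  exact Groth.Agent.CalgB.ProjField.exists_closedImmersion_projSpace (fY K L) ⟨M, h⟩

end K816.Amp
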