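import Groth.Agent.Surf.K816.Lat

/-!
# Inseparable covers of the plane with dual frames

`Cov F L κ`: frames `b i`, dual frames `bs i` with respect to a trace form `τ`, for the lattices
`{x | x² ∈ A i}` and `{x | x² ∈ u_i (A i)}` of `L`.  `covOne`: the cover of degree 4.
-/

set_option autoImplicit false
set_option linter.unusedSimpArgs false
set_option linter.unusedSectionVars false
set_option linter.dupNamespace false

universe u

open MvPolynomial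

namespace K816.Cov

open K816.Alg K816.Fld K816.Geo K816.Lat

variable {K E : Type u} [Field K] [Field E] [Algebra K E]

/-- `x² ∈ A i` -/
def InB (F : PF K E) (L : Type u) [Field L] [Algebra E L] (i : Fin 3) (x : L) : Prop :=
  ∃ s ∈ F.A i, x ^ 2 = algebraMap E L s

/-- `x² ∈ u_i (A i)` -/
def InI (F : PF K E) (L : Type u) [Field L] [Algebra E L] (i : Fin 3) (x : L) : Prop :=
  ∃ s ∈ F.A i, x ^ 2 = algebraMap E L (F.u i * s)

/-- Frames and dual frames. -/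
structure Cov (F : PF K E) (L : Type u) [Field L] [Algebra E L] (κ : Type) [Fintype κ] [DecidableEq κ] where
  b : Fin 3 → κ → L
  bs : Fin 3 → κ → L
  τ : L →ₗ[E] E
  orth : ∀ i j k, τ (b i j * bs i k) = if j = k then 1 else 0
  spanE : ∀ i (x : L), ∃ c : κ → E, x = ∑ k, algebraMap E L (c k) * b i k
  b_sq : ∀ i k, InB F L i (b i k)
  mem : ∀ i (x : L), InB F L i x → ∃ c : κ → E, (∀ k, c k ∈ F.A i) ∧ x = ∑ k, algebraMap E L (c k) * b i k
  bs_sq : ∀ i k, InI F L i (algebraMap E L (F.u i ^ 3) * bs i k)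
  τ_mem : ∀ i (x : L), InI F L i x → ∃ r ∈ F.A i, τ x = F.u i ^ 3 * r
  uni : ∀ i, ∃ (n : ℕ) (p q : Fin n → L), (∀ j, InI F L i (p j)) ∧ (∀ j, InI F L i (q j)) ∧
    ∑ j, p j * q j = algebraMap E L (F.u i)

section one

variable {L : Type u} [Field L] [Algebra E L] [CharP E 2] {F : PF K E} {w : Par K}

local notation "ι" => algebraMap E L

theorem dvd_of_mul_unit {A : Subalgebra K E} {u z m s : E} (hz : z ∈ A) (hm : m ∈ A)
    (hs : s ∈ A) (h : z * (1 + u * m) = u * s) : ∃ t ∈ A, z = u * t :=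
  ⟨s - z * m, Subalgebra.sub_mem _ hs (Subalgebra.mul_mem _ hz hm), by linear_combination h⟩

/-- The elements with square in `u A` have `c₀, c₃ ∈ u A`. -/
theorem dvd_of_q {i : Fin 3} {c : Fin 4 → E} (hc : ∀ k, c k ∈ F.A i) {s : E} (hs : s ∈ F.A i)
    (h : q F w i c = F.u i * s) : (∃ r ∈ F.A i, c 0 = F.u i * r) ∧ ∃ r ∈ F.A i, c 3 = F.u i * r := by
  -- it is enough to find `r` for `c 3`
  have hP := pp_mem F w i
  have hR := rr_mem F w i
  have hu := F.u_mem i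
  have two := two_eq_zero (E := E)
  suffices h3 : ∃ r ∈ F.A i, c 3 ^ 2 = F.u i * r by
    obtain ⟨r, hr, hr2⟩ := F.dvd_u (hc 3) h3
    refine ⟨F.dvd_u (hc 0) ?_, r, hr, hr2⟩
    refine ⟨s - c 1 ^ 2 * pp F w i - c 2 ^ 2 * rr F w i - F.u i * r ^ 2 * (pp F w i * rr F w i), ?_, ?_⟩
    · exact Subalgebra.sub_mem _ (Subalgebra.sub_mem _ (Subalgebra.sub_mem _ hs (Subalgebra.mul_mem _
        (Subalgebra.pow_mem _ (hc 1) 2) hP)) (Subalgebra.mul_mem _ (Subalgebra.pow_mem _ (hc 2) 2) hR))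
        (Subalgebra.mul_mem _ (Subalgebra.mul_mem _ hu (Subalgebra.pow_mem _ hr 2)) (Subalgebra.mul_mem _ hP hR))
    · rw [q, hr2] at h
      linear_combination h
  fin_cases i
  · exact ⟨c 3 ^ 2, Subalgebra.pow_mem _ (hc 3) 2, by change _ = F.u 0 * _; rw [F.u_zero, one_mul]⟩
  · -- `D_3`
    change ∃ r ∈ F.A 1, c 3 ^ 2 = F.u 1 * r
    change ∀ k, c k ∈ F.A 1 at hc
    change s ∈ F.A 1 at hs
    change q F w 1 c = F.u 1 * s at h
    change pp F w 1 ∈ F.A 1 at hP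
    have hu1 : F.u 1 ∈ F.A 1 := hu
    have hv1 : F.c 1 1 ∈ F.A 1 := F.c_mem 1 1
    have e1 := congrArg (F.D w 3) h
    have dP : F.D w 3 (pp F w 1) = 0 := by
      change F.D w 3 (1 + aE w 1 * F.u 1 ^ 3 + F.u 1 ^ 2 * F.c 1 1) = 0
      have h1 : F.D w 3 (aE w 1 : E) = 0 := F.D_a w 3 1
      simp only [map_add, Derivation.leibniz, Derivation.leibniz_pow, Derivation.map_one_eq_zero, F.D_u, F.D_c, h1,
        smul_zero, add_zero]
    have dR : F.D w 3 (rr F w 1) = 1 := by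
      change F.D w 3 (aE w 2 * F.u 1 + aE w 3 + aE w 1 * (F.u 1 * F.c 1 1 ^ 2) + F.c 1 1 ^ 3) = 1
      have h1 : F.D w 3 (aE w 1 : E) = 0 := F.D_a w 3 1
      have h2 : F.D w 3 (aE w 2 : E) = 0 := F.D_a w 3 2
      have h3 : F.D w 3 (aE w 3 : E) = 1 := F.D_a w 3 3
      simp only [map_add, Derivation.leibniz, Derivation.leibniz_pow, Derivation.map_one_eq_zero, F.D_u, F.D_c, h1, h2,
        h3, smul_zero, add_zero, zero_add]
    have e2 : c 1 ^ 2 * 0 + c 2 ^ 2 * F.u 1 + c 3 ^ 2 * pp F w 1 = F.u 1 * F.D w 3 s := by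
      rw [q, map_add, map_add, map_add, der_sq, der_sq_mul, der_sq_mul, der_sq_mul] at e1
      simp only [Derivation.leibniz, F.D_u, dP, dR, smul_eq_mul, mul_zero, mul_one, add_zero, zero_add] at e1
      linear_combination e1
    have hDs : F.D w 3 s ∈ F.A 1 := F.st_D w 3 1 _ hs
    refine dvd_of_mul_unit (Subalgebra.pow_mem _ (hc 3) 2)
      (m := F.u 1 * (aE w 1 * F.u 1 + F.c 1 1)) (s := F.D w 3 s - c 2 ^ 2) ?_ ?_ ?_
    · exact Subalgebra.mul_mem _ hu1 (Subalgebra.add_mem _ (Subalgebra.mul_mem _ (aE_mem F w 1 1) hu1) hv1)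
    · exact Subalgebra.sub_mem _ hDs (Subalgebra.pow_mem _ (hc 2) 2)
    · have e3 : pp F w 1 = 1 + aE w 1 * F.u 1 ^ 3 + F.u 1 ^ 2 * F.c 1 1 := rfl
      rw [e3] at e2
      linear_combination e2
  · -- `∂_v`
    change ∃ r ∈ F.A 2, c 3 ^ 2 = F.u 2 * r
    change ∀ k, c k ∈ F.A 2 at hc
    change s ∈ F.A 2 at hs
    change q F w 2 c = F.u 2 * s at h
    have hu1 : F.u 2 ∈ F.A 2 := hu
    have hv1 : F.c 2 1 ∈ F.A 2 := F.c_mem 2 1
    have e1 := congrArg (F.pd 2 1) h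
    have du : F.pd 2 1 (F.u 2) = 0 := F.pd_c 2 1 0
    have dv : F.pd 2 1 (F.c 2 1) = 1 := F.pd_c 2 1 1
    have da : ∀ j, F.pd 2 1 (aE w j : E) = 0 := fun j => F.pd_map 2 1 _
    have dP : F.pd 2 1 (pp F w 2) = 1 + aE w 3 * F.u 2 ^ 2 := by
      change F.pd 2 1 (F.c 2 1 + aE w 2 * F.u 2 ^ 3 + aE w 3 * (F.u 2 ^ 2 * F.c 2 1)) = _
      simp only [map_add, Derivation.leibniz, Derivation.leibniz_pow, Derivation.map_one_eq_zero, du, dv, da,
        smul_zero, add_zero, zero_add, smul_eq_mul, mul_one, mul_zero]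
    have dR : F.pd 2 1 (rr F w 2) = aE w 3 * F.c 2 1 ^ 2 := by
      change F.pd 2 1 (1 + aE w 1 * F.u 2 + aE w 2 * (F.u 2 * F.c 2 1 ^ 2) + aE w 3 * F.c 2 1 ^ 3) = _
      simp only [map_add, Derivation.leibniz, der_sq, der_cube, Derivation.map_one_eq_zero, du, dv, da,
        smul_zero, add_zero, zero_add, smul_eq_mul, mul_one, mul_zero]
    have e2 : c 1 ^ 2 * (F.u 2 * (1 + aE w 3 * F.u 2 ^ 2)) + c 2 ^ 2 * (F.u 2 * (aE w 3 * F.c 2 1 ^ 2)) +
        c 3 ^ 2 * ((1 + aE w 3 * F.u 2 ^ 2) * rr F w 2 + pp F w 2 * (aE w 3 * F.c 2 1 ^ 2)) =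
        F.u 2 * F.pd 2 1 s := by
      rw [q, map_add, map_add, map_add, der_sq, der_sq_mul, der_sq_mul, der_sq_mul] at e1
      simp only [Derivation.leibniz, du, dP, dR, smul_eq_mul, mul_zero, mul_one, add_zero, zero_add] at e1
      linear_combination e1
    have hDs : F.pd 2 1 s ∈ F.A 2 := F.st_pd 2 1 _ hs
    have ha : ∀ j, (aE w j : E) ∈ F.A 2 := fun j => aE_mem F w j 2
    have e3 : pp F w 2 = F.c 2 1 + aE w 2 * F.u 2 ^ 3 + aE w 3 * (F.u 2 ^ 2 * F.c 2 1) := rfl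
    have e4 : rr F w 2 = 1 + aE w 1 * F.u 2 + aE w 2 * (F.u 2 * F.c 2 1 ^ 2) + aE w 3 * F.c 2 1 ^ 3 := rfl
    have hR2 : rr F w 2 ∈ F.A 2 := hR
    refine dvd_of_mul_unit (Subalgebra.pow_mem _ (hc 3) 2)
      (m := aE w 1 + aE w 2 * F.c 2 1 ^ 2 + aE w 3 * F.u 2 * rr F w 2 +
        (aE w 2 * F.u 2 ^ 2 + aE w 3 * (F.u 2 * F.c 2 1)) * (aE w 3 * F.c 2 1 ^ 2))
      (s := F.pd 2 1 s - c 1 ^ 2 * (1 + aE w 3 * F.u 2 ^ 2) - c 2 ^ 2 * (aE w 3 * F.c 2 1 ^ 2)) ?_ ?_ ?_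
    · have h1 := ha 1
      have h2 := ha 2
      have h3 := ha 3
      repeat' first
        | assumption
        | apply Subalgebra.add_mem
        | apply Subalgebra.mul_mem
        | apply Subalgebra.pow_mem
    · have h1 := ha 1
      have h2 := ha 2
      have h3 := ha 3
      have hc1 := hc 1
      have hc2 := hc 2
      have h11 : (1 : E) ∈ F.A 2 := Subalgebra.one_mem _
      repeat' first
        | assumption
        | apply Subalgebra.sub_mem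
        | apply Subalgebra.add_mem
        | apply Subalgebra.mul_mem
        | apply Subalgebra.pow_mem
    · rw [e3, e4] at e2
      rw [e4]
      linear_combination e2 - (c 3 ^ 2 * aE w 3 * F.c 2 1 ^ 3) * two

/-- The product of two elements. -/
theorem el_mul (ρ : Rt F w L) (i : Fin 3) (c d : Fin 4 → E) : el ρ i c * el ρ i d = el ρ i
    ![c 0 * d 0 + c 1 * d 1 * (F.u i * pp F w i) + c 2 * d 2 * (F.u i * rr F w i) + c 3 * d 3 * (pp F w i * rr F w i),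
      c 0 * d 1 + c 1 * d 0 + (c 2 * d 3 + c 3 * d 2) * rr F w i,
      c 0 * d 2 + c 2 * d 0 + (c 1 * d 3 + c 3 * d 1) * pp F w i,
      c 0 * d 3 + c 3 * d 0 + (c 1 * d 2 + c 2 * d 1) * F.u i] := by
  have h1 := e_sq ρ i
  have h2 := f_sq ρ i
  have h3 := g_sq ρ i
  have h4 := e_mul_f ρ i
  have h5 := e_mul_g ρ i
  have h6 := f_mul_g ρ i
  simp only [el, Matrix.cons_val_zero, Matrix.cons_val_one, Matrix.cons_val, map_add, map_mul] at h1 h2 h3 h4 h5 h6 ⊢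
  linear_combination ι (c 1) * ι (d 1) * h1 + ι (c 2) * ι (d 2) * h2 + ι (c 3) * ι (d 3) * h3 +
    (ι (c 1) * ι (d 2) + ι (c 2) * ι (d 1)) * h4 + (ι (c 1) * ι (d 3) + ι (c 3) * ι (d 1)) * h5 +
    (ι (c 2) * ι (d 3) + ι (c 3) * ι (d 2)) * h6

variable (ρ : Rt F w L) (hsp : ∀ x : L, ∃ d, x = el ρ 0 d)

include hsp in
theorem exists_el (i : Fin 3) (x : L) : ∃ c, x = el ρ i c := by
  obtain ⟨d, rfl⟩ := hsp x
  exact ⟨_, (el_fr ρ d i).symm⟩

/-- The coordinates. -/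
noncomputable def elE (i : Fin 3) : (Fin 4 → E) ≃ₗ[E] L :=
  LinearEquiv.ofBijective
    { toFun := el ρ i
      map_add' := el_add ρ i
      map_smul' := fun r c => by rw [el_smul, RingHom.id_apply, Algebra.smul_def] }
    ⟨fun c d h => (el_eq_iff ρ).1 h, fun x => by
      obtain ⟨c, hc⟩ := exists_el ρ hsp i x
      exact ⟨c, hc.symm⟩⟩

theorem elE_apply (i : Fin 3) (c : Fin 4 → E) : elE ρ hsp i c = el ρ i c := rfl

/-- The trace form. -/
noncomputable def tau : L →ₗ[E] E := (LinearMap.proj (R := E) (φ := fun _ : Fin 4 => E) 3).comp (elE ρ hsp 0).symm.toLinearMap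

theorem tau_zero (d : Fin 4 → E) : tau ρ hsp (el ρ 0 d) = d 3 := by
  change (elE ρ hsp 0).symm (el ρ 0 d) 3 = _
  rw [← elE_apply ρ hsp, LinearEquiv.symm_apply_apply]

theorem tau_el (i : Fin 3) (c : Fin 4 → E) : tau ρ hsp (el ρ i c) = F.u i ^ 2 * c 3 := by
  obtain ⟨d, hd⟩ := hsp (el ρ i c)
  have h1 := hd.trans (el_fr ρ d i).symm
  have h2 := (el_eq_iff ρ).1 h1
  rw [hd, tau_zero, h2]
  fin_cases i
  · change d 3 = F.u 0 ^ 2 * d 3
    rw [F.u_zero, one_pow, one_mul]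
  · have := F.ne 1
    change d 3 = F.u 1 ^ 2 * (d 3 * F.x 1 ^ 2)
    rw [F.u_eq]
    field_simp
  · have := F.ne 2
    change d 3 = F.u 2 ^ 2 * (d 3 * F.x 2 ^ 2)
    rw [F.u_eq]
    field_simp

/-- The frame in coordinates. -/
noncomputable def bC (_ : Fin 3) (k : Fin 4) : Fin 4 → E := Pi.single k 1

/-- The dual frame in coordinates. -/
noncomputable def bsC (F : PF K E) (i : Fin 3) : Fin 4 → Fin 4 → E :=
  ![![0, 0, 0, (F.u i ^ 2)⁻¹], ![0, 0, (F.u i ^ 3)⁻¹, 0], ![0, (F.u i ^ 3)⁻¹, 0, 0], ![(F.u i ^ 2)⁻¹, 0, 0, 0]]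

theorem el_bC (i : Fin 3) (k : Fin 4) : el ρ i (bC i k) = ![1, e ρ i, f ρ i, g ρ i] k := by
  fin_cases k <;> simp [el, bC, Pi.single_apply]

theorem sum_bC (i : Fin 3) (c : Fin 4 → E) : el ρ i c = ∑ k, ι (c k) * el ρ i (bC i k) := by
  rw [Fin.sum_univ_four, el_bC, el_bC, el_bC, el_bC, el]
  simp only [Matrix.cons_val_zero, Matrix.cons_val_one, Matrix.cons_val, mul_one]

include hsp in
/-- The unimodularity of the ideal. -/
theorem exists_uni (i : Fin 3) : ∃ (n : ℕ) (p q : Fin n → L), (∀ j, InI F L i (p j)) ∧ (∀ j, InI F L i (q j)) ∧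
    ∑ j, p j * q j = ι (F.u i) := by
  have two := two_L ρ
  have hP := pp_mem F w i
  have hR := rr_mem F w i
  have hu := F.u_mem i
  have h1 : ∀ i, InI F L i (e ρ i) := fun i => ⟨_, pp_mem F w i, e_sq ρ i⟩
  have h2 : ∀ i, InI F L i (f ρ i) := fun i => ⟨_, rr_mem F w i, f_sq ρ i⟩
  have h3 : ∀ (i : Fin 3) (m : E), m ∈ F.A i → InI F L i (ι (F.u i * m)) := fun i m hm =>
    ⟨F.u i * m ^ 2, Subalgebra.mul_mem _ (F.u_mem i) (Subalgebra.pow_mem _ hm 2), by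
      rw [← map_pow]; congr 1; ring⟩
  have h4 : ∀ (i : Fin 3) (m : E), m ∈ F.A i → InI F L i (ι m * e ρ i) := fun i m hm =>
    ⟨m ^ 2 * pp F w i, Subalgebra.mul_mem _ (Subalgebra.pow_mem _ hm 2) (pp_mem F w i), by
      rw [mul_pow, e_sq, ← map_pow, ← map_mul]; congr 1; ring⟩
  fin_cases i
  · refine ⟨1, ![1], ![1], ?_, ?_, ?_⟩
    · intro j
      refine ⟨1, Subalgebra.one_mem _, ?_⟩
      fin_cases j
      change (1 : L) ^ 2 = ι (F.u 0 * 1)
      rw [F.u_zero]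
      simp
    · intro j
      refine ⟨1, Subalgebra.one_mem _, ?_⟩
      fin_cases j
      change (1 : L) ^ 2 = ι (F.u 0 * 1)
      rw [F.u_zero]
      simp
    · change _ = ι (F.u 0)
      rw [F.u_zero]
      simp
  · refine ⟨2, ![e ρ 1, ι (F.u 1 * 1)], ![e ρ 1, ι (F.u 1 * (F.u 1 * (aE w 1 * F.u 1 + F.c 1 1)))], ?_, ?_, ?_⟩
    · intro j
      fin_cases j
      · exact h1 1
      · exact h3 1 _ (Subalgebra.one_mem _)
    · intro j
      fin_cases j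
      · exact h1 1
      · exact h3 1 _ (Subalgebra.mul_mem _ (F.u_mem 1) (Subalgebra.add_mem _ (Subalgebra.mul_mem _
          (aE_mem F w 1 1) (F.u_mem 1)) (F.c_mem 1 1)))
    · rw [Fin.sum_univ_two]
      change e ρ 1 * e ρ 1 + ι (F.u 1 * 1) * ι (F.u 1 * (F.u 1 * (aE w 1 * F.u 1 + F.c 1 1))) = ι (F.u 1)
      rw [← pow_two, e_sq, ← map_mul, ← map_add]
      congr 1
      change F.u 1 * (1 + aE w 1 * F.u 1 ^ 3 + F.u 1 ^ 2 * F.c 1 1) + _ = _
      linear_combination (aE w 1 * F.u 1 ^ 4 + F.u 1 ^ 3 * F.c 1 1) * two_eq_zero (E := E)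
  · refine ⟨3, ![f ρ 2, ι (aE w 3 * F.c 2 1 ^ 2) * e ρ 2, ι (F.u 2 * 1)],
      ![f ρ 2, ι 1 * e ρ 2, ι (F.u 2 * (aE w 1 + aE w 2 * F.c 2 1 ^ 2 + aE w 3 * F.c 2 1 ^ 2 *
        (aE w 2 * F.u 2 ^ 2 + aE w 3 * (F.u 2 * F.c 2 1))))], ?_, ?_, ?_⟩
    · intro j
      fin_cases j
      · exact h2 2
      · exact h4 2 _ (Subalgebra.mul_mem _ (aE_mem F w 3 2) (Subalgebra.pow_mem _ (F.c_mem 2 1) 2))
      · exact h3 2 _ (Subalgebra.one_mem _)
    · intro j
      fin_cases j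
      · exact h2 2
      · exact h4 2 _ (Subalgebra.one_mem _)
      · refine h3 2 _ ?_
        have g1 := aE_mem F w 1 2
        have g2 := aE_mem F w 2 2
        have g3 := aE_mem F w 3 2
        have g4 := F.u_mem 2
        have g5 := F.c_mem 2 1
        repeat' first
          | assumption
          | apply Subalgebra.add_mem
          | apply Subalgebra.mul_mem
          | apply Subalgebra.pow_mem
    · rw [Fin.sum_univ_three]
      change f ρ 2 * f ρ 2 + ι (aE w 3 * F.c 2 1 ^ 2) * e ρ 2 * (ι 1 * e ρ 2) + ι (F.u 2 * 1) * ι (F.u 2 *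
        (aE w 1 + aE w 2 * F.c 2 1 ^ 2 + aE w 3 * F.c 2 1 ^ 2 *
        (aE w 2 * F.u 2 ^ 2 + aE w 3 * (F.u 2 * F.c 2 1)))) = ι (F.u 2)
      have h5 : ι (aE w 3 * F.c 2 1 ^ 2) * e ρ 2 * (ι 1 * e ρ 2) =
          ι (aE w 3 * F.c 2 1 ^ 2) * (e ρ 2 ^ 2) := by
        rw [map_one]
        ring
      rw [h5, ← pow_two, e_sq, f_sq, ← map_mul, ← map_mul, ← map_add, ← map_add]
      congr 1
      change F.u 2 * (1 + aE w 1 * F.u 2 + aE w 2 * (F.u 2 * F.c 2 1 ^ 2) + aE w 3 * F.c 2 1 ^ 3) +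
        aE w 3 * F.c 2 1 ^ 2 * (F.u 2 * (F.c 2 1 + aE w 2 * F.u 2 ^ 3 + aE w 3 * (F.u 2 ^ 2 * F.c 2 1))) + _ = _
      linear_combination (aE w 1 * F.u 2 ^ 2 + aE w 2 * F.u 2 ^ 2 * F.c 2 1 ^ 2 + F.u 2 * aE w 3 * F.c 2 1 ^ 3 +
        aE w 3 * F.c 2 1 ^ 2 * F.u 2 ^ 4 * aE w 2 + aE w 3 ^ 2 * F.c 2 1 ^ 3 * F.u 2 ^ 3) * two_eq_zero (E := E)

/-- The cover of degree 4. -/
noncomputable def covOne : Cov F L (Fin 4) where
  b i k := el ρ i (bC i k)
  bs i k := el ρ i (bsC F i k)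
  τ := tau ρ hsp
  orth i j k := by
    have h := F.u_ne i
    have h2 : F.u i ^ 2 * (F.u i ^ 2)⁻¹ = 1 := mul_inv_cancel₀ (pow_ne_zero _ h)
    have h3 : F.u i ^ 3 * (F.u i ^ 3)⁻¹ = 1 := mul_inv_cancel₀ (pow_ne_zero _ h)
    rw [el_mul, tau_el]
    fin_cases j <;> fin_cases k <;> simp [bC, bsC, Pi.single_apply] <;>
      first
        | exact h2
        | linear_combination h3
  spanE i x := by
    obtain ⟨c, rfl⟩ := exists_el ρ hsp i x
    exact ⟨c, sum_bC ρ i c⟩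
  b_sq i k := by
    have hP := pp_mem F w i
    have hR := rr_mem F w i
    have hu := F.u_mem i
    rw [el_bC]
    fin_cases k
    · exact ⟨1, Subalgebra.one_mem _, by simp⟩
    · exact ⟨_, Subalgebra.mul_mem _ hu hP, e_sq ρ i⟩
    · exact ⟨_, Subalgebra.mul_mem _ hu hR, f_sq ρ i⟩
    · exact ⟨_, Subalgebra.mul_mem _ hP hR, g_sq ρ i⟩
  mem i x := by
    rintro ⟨s, hs, hx⟩
    obtain ⟨c, rfl⟩ := exists_el ρ hsp i x
    exact ⟨c, mem_of_sq ρ hs hx, sum_bC ρ i c⟩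
  bs_sq i k := by
    have hP := pp_mem F w i
    have hR := rr_mem F w i
    have hu := F.u_mem i
    have h := F.u_ne i
    rw [← el_smul]
    fin_cases k
    · refine ⟨F.u i * (pp F w i * rr F w i), Subalgebra.mul_mem _ hu (Subalgebra.mul_mem _ hP hR), ?_⟩
      rw [el_sq]
      congr 1
      simp [q, bsC]
      field_simp
    · refine ⟨rr F w i, hR, ?_⟩
      rw [el_sq]
      congr 1
      simp [q, bsC]
      field_simp
    · refine ⟨pp F w i, hP, ?_⟩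
      rw [el_sq]
      congr 1
      simp [q, bsC]
      field_simp
    · refine ⟨F.u i, hu, ?_⟩
      rw [el_sq]
      congr 1
      simp [q, bsC]
      field_simp
  τ_mem i x := by
    rintro ⟨s, hs, hx⟩
    obtain ⟨c, rfl⟩ := exists_el ρ hsp i x
    have hc := mem_of_sq ρ (Subalgebra.mul_mem _ (F.u_mem i) hs) hx
    rw [el_sq] at hx
    obtain ⟨-, r, hr, h3⟩ := dvd_of_q hc hs ((algebraMap E L).injective hx)
    exact ⟨r, hr, by rw [tau_el, h3]; ring⟩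
  uni := exists_uni ρ hsp

end one

end K816.Cov
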