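import Groth.Agent.Surf.K816.Num

/-!
# Duality for the cover: the algebraic part

`exists_phi`: for `G` quasi-coherent on `Y` and `θ : p_* G ⟶ O(-3)` there is exactly one `φ : G ⟶ I_C` with
`p_* φ ≫ τ = θ`.
-/

set_option autoImplicit false
set_option linter.unusedSectionVars false

universe u

open CategoryTheory CategoryTheory.Limits AlgebraicGeometry TopologicalSpace Opposite

namespace K816.Dual

open K816.Geo K816.Plane K816.Real K816.Lat K816.Cov K816.Surface K816.Mods K816.Ideals K816.Ses K816.MidLat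
open K816.SeqOne K816.Geom K816.Num Groth.Agent.Ega1.QCohLoc Groth.Agent Groth.Agent.Dix.IdealModCartier

section frame

variable {K E L : Type u} [Field K] [Field E] [Algebra K E] [Field L] [Algebra E L] {F : PF K E}
  {κ : Type} [Fintype κ] [DecidableEq κ] (C : Cov F L κ)

/-- The trace form is nondegenerate. -/
theorem eq_zero_of_tau {i : Fin 3} {z : L} (h : ∀ k, C.τ (C.b i k * z) = 0) : z = 0 := by
  have h1 : ∀ x : L, C.τ (x * z) = 0 := by
    intro x
    obtain ⟨c, rfl⟩ := C.spanE i x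
    rw [Finset.sum_mul, map_sum]
    refine Finset.sum_eq_zero fun k _ => ?_
    rw [mul_assoc, ← Algebra.smul_def, map_smul, h, smul_zero]
  by_contra hz
  have h2 : ∀ y : L, C.τ y = 0 := fun y => by
    have := h1 (y * z⁻¹)
    rwa [inv_mul_cancel_right₀ hz] at this
  obtain ⟨c, hc⟩ := C.spanE i 1
  have hne : Nonempty κ := by
    by_contra hk
    rw [not_nonempty_iff] at hk
    rw [Finset.univ_eq_empty, Finset.sum_empty] at hc
    exact one_ne_zero hc
  obtain ⟨k⟩ := hne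
  have h3 := C.orth i k k
  rw [h2, if_pos rfl] at h3
  exact zero_ne_one h3

/-- The expansion in the dual frame. -/
theorem dual_sum (i : Fin 3) (z : L) : z = ∑ k, algebraMap E L (C.τ (C.b i k * z)) * C.bs i k := by
  rw [← sub_eq_zero]
  refine eq_zero_of_tau C (i := i) fun j => ?_
  rw [mul_sub, map_sub, Finset.mul_sum, map_sum, sub_eq_zero]
  have h : ∀ k, C.τ (C.b i j * (algebraMap E L (C.τ (C.b i k * z)) * C.bs i k)) =
      if j = k then C.τ (C.b i k * z) else 0 := fun k => by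
    rw [mul_left_comm, ← Algebra.smul_def, map_smul, C.orth, smul_eq_mul]
    split_ifs
    · rw [mul_one]
    · rw [mul_zero]
  rw [Finset.sum_congr rfl fun k _ => h k, Finset.sum_ite_eq]
  simp

theorem InI_zero (F : PF K E) (L : Type u) [Field L] [Algebra E L] (i : Fin 3) : InI F L i 0 :=
  ⟨0, Subalgebra.zero_mem _, by rw [mul_zero, map_zero]; ring⟩

theorem InI_add [CharP E 2] {i : Fin 3} {x y : L} (hx : InI F L i x) (hy : InI F L i y) : InI F L i (x + y) := by
  obtain ⟨s, hs, h1⟩ := hx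
  obtain ⟨t, ht, h2⟩ := hy
  have : CharP L 2 := charP_of_injective_algebraMap (algebraMap E L).injective 2
  exact ⟨s + t, Subalgebra.add_mem _ hs ht, by rw [CharTwo.add_sq, h1, h2, ← map_add, mul_add]⟩

theorem InI_smul {i : Fin 3} {r : E} (hr : r ∈ F.A i) {x : L} (hx : InI F L i x) :
    InI F L i (algebraMap E L r * x) := by
  obtain ⟨s, hs, h1⟩ := hx
  exact ⟨r ^ 2 * s, Subalgebra.mul_mem _ (Subalgebra.pow_mem _ hr 2) hs, by
    rw [mul_pow, h1, ← map_pow, ← map_mul]; congr 1; ring⟩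

theorem InI_sum [CharP E 2] {i : Fin 3} {x : κ → L} (h : ∀ k, InI F L i (x k)) : InI F L i (∑ k, x k) :=
  Finset.sum_induction x (InI F L i) (fun _ _ => InI_add) (InI_zero F L i) fun k _ => h k

end frame

section scheme

variable {K : Type u} [Field K] [CharP K 2] {L : Type u} [Field L] [Algebra (E K) L] {κ : Type} [Fintype κ]
  [DecidableEq κ] (C : Cov (pf K) L κ)

/-- The trace on the direct image. -/
theorem exists_tr : ∃ τ' : pF (ClSub.idealMod (Cc K L)) ⟶ O K 3, ∀ s : Γ(pF (ClSub.idealMod (Cc K L)), T K),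
    (RO K 3).v (τ'.app (T K) s) = C.τ ((RY (Cc K L)).v s) := by
  refine exists_hom (RY (Cc K L)) (RO K 3) (isQCoh_idY _) C.τ fun i s => ?_
  obtain ⟨r, hr, h⟩ := C.τ_mem i _ (Cc_w C i s)
  obtain ⟨t, ht⟩ := RO_exists K 3 i ⟨r, hr, rfl⟩
  exact ⟨t, by rw [ht, h]⟩

variable {G : (Y K L).Modules} (θ : pF G ⟶ O K 3)

/-- The values of `θ`. -/
noncomputable def th (m : Γ(G, TY K L)) : E K := (RO K 3).v (θ.app (T K) (ofT m))

theorem th_add (m n : Γ(G, TY K L)) : th θ (m + n) = th θ m + th θ n := by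
  change (RO K 3).v (θ.app (T K) (ofT m + ofT n)) = _
  rw [app_add, map_add]
  rfl

theorem th_zero : th θ (0 : Γ(G, TY K L)) = 0 := by
  change (RO K 3).v (θ.app (T K) 0) = 0
  rw [map_zero, map_zero]

theorem th_smul (a : Γ(S K, T K)) (m : Γ(G, TY K L)) : th θ (pT L a • m) = gm K (T K) a * th θ m := by
  change (RO K 3).v (θ.app (T K) (a • ofT m)) = _
  rw [Scheme.Modules.Hom.app_smul, (RO K 3).smul]
  rfl

theorem th_sum {ι : Type*} (s : Finset ι) (m : ι → Γ(G, TY K L)) : th θ (∑ k ∈ s, m k) = ∑ k ∈ s, th θ (m k) := by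
  classical
  induction s using Finset.induction_on with
  | empty => simp [th_zero]
  | insert a s ha ih => rw [Finset.sum_insert ha, Finset.sum_insert ha, th_add, ih]

theorem th_res {i : Fin 3} (s : Γ(G, UY K L i)) :
    th θ (res G (TY_le K L i) s) = (RO K 3).w i (θ.app (U K i) (ofY s)) := by
  rw [Real.w_apply, ← res_app]
  rfl

theorem th_mem {i : Fin 3} (s : Γ(G, UY K L i)) : Ul (pf K) i 3 (th θ (res G (TY_le K L i) s)) := by
  rw [th_res]
  exact RO_mem K 3 i _

/-- The frame as functions. -/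
noncomputable def bY (i : Fin 3) (k : κ) : Γ(Y K L, UY K L i) := (exists_e i (C.b_sq i k)).choose

theorem e_bY (i : Fin 3) (k : κ) : e K L i (bY C i k) = C.b i k := (exists_e i (C.b_sq i k)).choose_spec

/-- The value of the lift. -/
noncomputable def Ph (i : Fin 3) (m : Γ(G, TY K L)) : L :=
  ∑ k, algebraMap (E K) L (th θ (resO (TY_le K L i) (bY C i k) • m)) * C.bs i k

theorem tau_b_Ph (i : Fin 3) (m : Γ(G, TY K L)) (k : κ) :
    C.τ (C.b i k * Ph C θ i m) = th θ (resO (TY_le K L i) (bY C i k) • m) := by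
  rw [Ph, Finset.mul_sum, map_sum]
  have h : ∀ j, C.τ (C.b i k * (algebraMap (E K) L (th θ (resO (TY_le K L i) (bY C i j) • m)) * C.bs i j)) =
      if k = j then th θ (resO (TY_le K L i) (bY C i j) • m) else 0 := fun j => by
    rw [mul_left_comm, ← Algebra.smul_def, map_smul, C.orth, smul_eq_mul]
    split_ifs
    · rw [mul_one]
    · rw [mul_zero]
  rw [Finset.sum_congr rfl fun j _ => h j, Finset.sum_ite_eq]
  simp

theorem resO_pi (i : Fin 3) (a : Γ(S K, U K i)) :
    resO (TY_le K L i) (pi L i a) = pT L (resO (T_le K i) a) := by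
  apply eT_injective
  rw [eT_res, e_pi, eT_pT, gm_resO]

theorem tau_e_Ph (i : Fin 3) (m : Γ(G, TY K L)) (x : Γ(Y K L, UY K L i)) :
    C.τ (e K L i x * Ph C θ i m) = th θ (resO (TY_le K L i) x • m) := by
  obtain ⟨c, hc, hx⟩ := C.mem i _ (e_mem C i x)
  choose a ha using fun k => exists_gm K (hc k)
  have h1 : x = ∑ k, pi L i (a k) * bY C i k := by
    apply e_injective
    rw [hx, map_sum]
    exact Finset.sum_congr rfl fun k _ => by rw [map_mul, e_pi, ha, e_bY]
  rw [hx, Finset.sum_mul, map_sum, h1, map_sum, Finset.sum_smul, th_sum]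
  refine Finset.sum_congr rfl fun k _ => ?_
  rw [mul_assoc, ← Algebra.smul_def, map_smul, tau_b_Ph, map_mul, mul_smul, resO_pi, th_smul, gm_resO, ha,
    smul_eq_mul]

theorem TY_eq (i : Fin 3) : TY K L = (Y K L).basicOpen (pi L i (fT K i)) := by
  have h : (p K L) ⁻¹ᵁ ((S K).basicOpen (fT K i)) = (Y K L).basicOpen (pi L i (fT K i)) :=
    Scheme.preimage_basicOpen (p K L) (fT K i)
  rw [← h, ← T_eq K i]
  rfl

theorem gm_fT_ne (i : Fin 3) : gm K (U K i) (fT K i) ≠ 0 := by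
  rw [fT, map_mul, map_mul, gm_rat, gm_rat, gm_rat]
  have h := xx_ne K
  exact mul_ne_zero (mul_ne_zero (div_ne_zero (h _) (h _)) (div_ne_zero (h _) (h _))) (div_ne_zero (h _) (h _))

/-- Sections over `TY` come from the charts. -/
theorem exists_lift (hG : Coh.IsQCoh G) (i : Fin 3) (m : Γ(G, TY K L)) : ∃ (n : ℕ) (s : Γ(G, UY K L i)),
    res G (TY_le K L i) s = resO (TY_le K L i) (pi L i (fT K i)) ^ n • m :=
  (isLocAt_of_isQCoh hG (isAffineOpen_UY i) (pi L i (fT K i))).surj' (TY_eq i) (TY_le K L i) m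

theorem exists_liftO (i : Fin 3) (x : Γ(Y K L, TY K L)) : ∃ (n : ℕ) (y : Γ(Y K L, UY K L i)),
    resO (TY_le K L i) y = resO (TY_le K L i) (pi L i (fT K i)) ^ n * x := by
  have h := isLocAt_of_isQCoh (CurvesB.UnitCoh.isCoh_structureModule (Y K L)).1 (isAffineOpen_UY i)
    (pi L i (fT K i))
  exact h.surj' (TY_eq i) (TY_le K L i) (show Γ(Coh.structureModule (Y K L), TY K L) from x)

theorem tau_Ph (i : Fin 3) (m : Γ(G, TY K L)) (x : Γ(Y K L, TY K L)) :
    C.τ (eT K L x * Ph C θ i m) = th θ (x • m) := by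
  obtain ⟨n, y, hy⟩ := exists_liftO i x
  have h1 := tau_e_Ph C θ i m y
  have h2 : e K L i y = algebraMap (E K) L (gm K (U K i) (fT K i) ^ n) * eT K L x := by
    rw [← eT_res, hy, map_mul, map_pow, resO_pi, eT_pT, gm_resO, map_pow]
  have h3 : th θ (resO (TY_le K L i) y • m) = gm K (U K i) (fT K i) ^ n * th θ (x • m) := by
    rw [hy, mul_smul, resO_pi, ← map_pow, th_smul, map_pow, gm_resO]
  rw [h2, h3, mul_assoc, ← Algebra.smul_def, map_smul, smul_eq_mul] at h1
  exact mul_left_cancel₀ (pow_ne_zero n (gm_fT_ne i)) h1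

theorem Ph_eq (i j : Fin 3) (m : Γ(G, TY K L)) : Ph C θ i m = Ph C θ j m := by
  rw [← sub_eq_zero]
  refine eq_zero_of_tau C (i := i) fun k => ?_
  rw [mul_sub, map_sub, ← e_bY C i k, ← eT_res, tau_Ph, tau_Ph, sub_self]

theorem eq_of_tau {z z' : L} (h : ∀ x : Γ(Y K L, TY K L), C.τ (eT K L x * z) = C.τ (eT K L x * z')) : z = z' := by
  rw [← sub_eq_zero]
  refine eq_zero_of_tau C (i := 0) fun k => ?_
  rw [mul_sub, map_sub, ← e_bY C 0 k, ← eT_res, h, sub_self]

theorem Ph_mem (i : Fin 3) (s : Γ(G, UY K L i)) : InI (pf K) L i (Ph C θ i (res G (TY_le K L i) s)) := by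
  refine InI_sum fun k => ?_
  rw [← res_smul]
  obtain ⟨r, hr, h⟩ := th_mem θ (bY C i k • s)
  rw [h, mul_comm ((pf K).u i ^ 3), map_mul, mul_assoc]
  exact InI_smul hr (C.bs_sq i k)

theorem Ph_smul (m : Γ(G, TY K L)) (x : Γ(Y K L, TY K L)) : Ph C θ 0 (x • m) = eT K L x * Ph C θ 0 m := by
  refine eq_of_tau C fun y => ?_
  rw [tau_Ph, ← mul_assoc, ← map_mul, tau_Ph, mul_smul]

theorem Ph_add (m n : Γ(G, TY K L)) : Ph C θ 0 (m + n) = Ph C θ 0 m + Ph C θ 0 n := by
  refine eq_of_tau C fun y => ?_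
  rw [tau_Ph, mul_add, map_add, tau_Ph, tau_Ph, smul_add, th_add]

/-- The value over `TY`. -/
theorem exists_T (hG : Coh.IsQCoh G) (m : Γ(G, TY K L)) :
    ∃ t : Γ(ClSub.idealMod (Cc K L), TY K L), eT K L (val _ t) = Ph C θ 0 m := by
  obtain ⟨n, s, hs⟩ := exists_lift hG 0 m
  have h1 := Ph_mem C θ 0 s
  obtain ⟨a, ha⟩ := exists_e (K := K) 0 (InI.inB h1)
  obtain ⟨r, hr⟩ := exists_val_eq (Cc K L) (aY L 0) ((mem_Cc C 0 a).2 (ha.symm ▸ h1))
  have hu : IsUnit (resO (TY_le K L 0) (pi L 0 (fT K 0))) :=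
    Groth.Agent.LoccohA.HomDense.isUnit_resO' (pi L 0 (fT K 0)) (TY_eq 0) (TY_le K L 0)
  obtain ⟨g, hg⟩ := (hu.pow n).exists_left_inv
  have hr' : e K L 0 (val (Cc K L) r) = Ph C θ 0 (res G (TY_le K L 0) s) := (congrArg (e K L 0) hr).trans ha
  have h2 : val (Cc K L) (res _ (TY_le K L 0) r) = resO (TY_le K L 0) (val (Cc K L) r) :=
    val_res (Cc K L) (TY_le K L 0) r
  refine ⟨g • res _ (TY_le K L 0) r, ?_⟩
  rw [val_smul, map_mul, h2, eT_res, hr', hs, Ph_smul, ← mul_assoc, ← map_mul, hg, map_one, one_mul]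

theorem iSup_UY_ULift : (⨆ i : ULift.{u} (Fin 3), UY K L i.down) = ⊤ := by
  rw [eq_top_iff, ← iSup_UY (K := K) (L := L)]
  exact iSup_le fun j => le_iSup (fun i : ULift.{u} (Fin 3) => UY K L i.down) ⟨j⟩

theorem isAffineOpen_inf_UY (i j : Fin 3) : IsAffineOpen (UY K L i ⊓ UY K L j) :=
  (isAffineOpen_inf K i j).preimage (p K L)

variable {θ} in
/-- The characterization of the lift. -/
theorem val_eq_Ph {τ' : pF (ClSub.idealMod (Cc K L)) ⟶ O K 3}
    (hτ' : ∀ s : Γ(pF (ClSub.idealMod (Cc K L)), T K), (RO K 3).v (τ'.app (T K) s) = C.τ ((RY (Cc K L)).v s))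
    {φ : G ⟶ ClSub.idealMod (Cc K L)} (h : (Scheme.Modules.pushforward (p K L)).map φ ≫ τ' = θ)
    (m : Γ(G, TY K L)) : eT K L (val (Cc K L) (φ.app (TY K L) m)) = Ph C θ 0 m := by
  refine eq_of_tau C fun x => ?_
  have h1 : ∀ n : Γ(G, TY K L), C.τ (eT K L (val (Cc K L) (φ.app (TY K L) n))) = th θ n := fun n => by
    rw [th, ← h]
    exact (hτ' (ofT (φ.app (TY K L) n))).symm
  rw [tau_Ph, ← h1, ← map_mul, Scheme.Modules.Hom.app_smul, val_smul]

theorem exists_phi (hG : Coh.IsQCoh G) {τ' : pF (ClSub.idealMod (Cc K L)) ⟶ O K 3}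
    (hτ' : ∀ s : Γ(pF (ClSub.idealMod (Cc K L)), T K), (RO K 3).v (τ'.app (T K) s) = C.τ ((RY (Cc K L)).v s))
    (θ : pF G ⟶ O K 3) :
    ∃! φ : G ⟶ ClSub.idealMod (Cc K L), (Scheme.Modules.pushforward (p K L)).map φ ≫ τ' = θ := by
  choose t ht using exists_T C θ hG
  have hinj : ∀ {s s' : Γ(ClSub.idealMod (Cc K L), TY K L)}, eT K L (val (Cc K L) s) = eT K L (val (Cc K L) s') →
      s = s' := fun h => val_injective (Cc K L) (eT_injective K L h)
  let l : Γ(G, TY K L) →ₗ[Γ(Y K L, TY K L)] Γ(ClSub.idealMod (Cc K L), TY K L) :=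
    { toFun := t
      map_add' := fun a b => by
        apply hinj
        rw [val_add, map_add, ht, ht, ht, Ph_add]
      map_smul' := fun r a => by
        apply hinj
        rw [RingHom.id_apply, val_smul, map_mul, ht, ht, Ph_smul] }
  obtain ⟨φ, hφ⟩ := Groth.Agent.LoccohA.HomDense.exists_hom_of_dense (N := ClSub.idealMod (Cc K L)) hG
    (fun i : ULift.{u} (Fin 3) => UY K L i.down) iSup_UY_ULift
    (fun i => isAffineOpen_UY i.down) (fun i j => isAffineOpen_inf_UY i.down j.down) (TY K L)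
    (fun i => TY_le K L i.down) (fun i => ⟨_, TY_eq i.down⟩) (fun i j => res_idealMod_injective (Cc K L) _) l (by
      intro i s
      have h1 := Ph_mem C θ i.down s
      obtain ⟨a, ha⟩ := exists_e (K := K) i.down (InI.inB h1)
      obtain ⟨r, hr⟩ := exists_val_eq (Cc K L) (aY L i.down) ((mem_Cc C i.down a).2 (ha.symm ▸ h1))
      refine ⟨r, hinj ?_⟩
      have h2 : val (Cc K L) (res _ (TY_le K L i.down) r) = resO (TY_le K L i.down) (val (Cc K L) r) :=
        val_res (Cc K L) (TY_le K L i.down) r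
      have hr' : e K L i.down (val (Cc K L) r) = Ph C θ i.down (res G (TY_le K L i.down) s) :=
        (congrArg (e K L i.down) hr).trans ha
      rw [h2, eT_res, hr']
      change _ = eT K L (val (Cc K L) (t _))
      rw [ht, Ph_eq C θ 0 i.down])
  have hφ' : ∀ s : Γ(G, TY K L), eT K L (val (Cc K L) (φ.app (TY K L) s)) = Ph C θ 0 s := fun s => by
    rw [hφ]
    exact ht s
  refine ⟨φ, ?_, ?_⟩
  · refine hom_ext (RO K 3) (isQCoh_pF G hG) _ _ fun s => ?_
    rw [app_comp, hτ', RY_v]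
    have h1 : C.τ (eT K L (val (Cc K L) (φ.app (TY K L) (toT s)))) = th θ (toT s) := by
      rw [hφ']
      have := tau_Ph C θ 0 (toT s) 1
      rwa [map_one, one_mul, one_smul] at this
    exact h1
  · intro φ' h'
    refine Groth.Agent.LoccohA.HomDense.hom_ext_of_dense hG (fun i : ULift.{u} (Fin 3) => UY K L i.down)
      iSup_UY_ULift (fun i => isAffineOpen_UY i.down) (TY K L) (fun i => TY_le K L i.down)
      (fun i => res_idealMod_injective (Cc K L) _) φ' φ fun s => hinj ?_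
    rw [hφ', val_eq_Ph C hτ' h']

end scheme

end K816.Dual
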