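import Groth.Agent.CurvesC.CurveNum
import Groth.Agent.FormalA.HHLin

/-!
# Cohomology of the direct image by a morphism which is a closed embedding of topological spaces
-/

set_option autoImplicit false
set_option linter.unusedSectionVars false

universe u

open CategoryTheory CategoryTheory.Limits AlgebraicGeometry TopologicalSpace Opposite Abelian

namespace K816.Push

open Groth.Agent.CohtopA Groth.Agent.FormalA Groth.Agent.CurvesC.CurveNum

variable {Z X : Scheme.{u}} (i : Z ⟶ X) [PreservesFiniteColimits (CohTop.push i.base)]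

/-- `H^n(Z, F) ≃+ H^n(X, i_* F)` for abelian sheaves. -/
noncomputable def abPush (F : CohTop.Ab Z) (n : ℕ) :
    CohTop.H F n ≃+ CohTop.H ((CohTop.push i.base).obj F) n :=
  PushClosed.HPushEquiv i.base F n

theorem abPush_map {F G : CohTop.Ab Z} (φ : F ⟶ G) (n : ℕ) (x : CohTop.H F n) :
    abPush i G n (Sheaf.H.map φ n x) =
      Sheaf.H.map ((CohTop.push i.base).map φ) n (abPush i F n x) := by
  have := ExtAdj.extOfHom_comp (CohTop.push i.base) (PushClosed.constHom i.base) x (Ext.mk₀ φ) (add_zero n)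
  rw [Ext.mapExactFunctor_mk₀] at this
  exact this

/-- `H^n(Z, M) ≃+ H^n(X, i_* M)` for modules. -/
noncomputable def hhPush (M : Z.Modules) (n : ℕ) :
    Coh.HH Z M n ≃+ Coh.HH X ((Scheme.Modules.pushforward i).obj M) n :=
  abPush i (Coh.toAb M) n

theorem hhPush_smul (M : Z.Modules) (n : ℕ) (r : Coh.Γtop X) (x : Coh.HH Z M n) :
    hhPush i M n (topMap i r • x) = r • hhPush i M n x := by
  have h := abPush_map i (Coh.smulAb M (topMap i r)) n x
  rw [push_smulAb] at h
  exact h

section Linear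

variable (k : Type u) [CommRing k] [X.Over (Spec (CommRingCat.of k))]
  [Z.Over (Spec (CommRingCat.of k))]

/-- `H^n(Z, M) ≃ H^n(X, i_* M)`, linearly over the base ring. -/
noncomputable def hhPushₗ (hi : i ≫ (X ↘ Spec (CommRingCat.of k)) = Z ↘ Spec (CommRingCat.of k))
    (M : Z.Modules) (n : ℕ) :
    Coh.HH Z M n ≃ₗ[k] Coh.HH X ((Scheme.Modules.pushforward i).obj M) n where
  __ := hhPush i M n
  map_smul' r x := by
    have h1 : Coh.toGlobal (Z ↘ Spec (CommRingCat.of k)) r =
        topMap i (Coh.toGlobal (X ↘ Spec (CommRingCat.of k)) r) := by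
      rw [← hi]; exact toGlobal_comp i _ r
    change hhPush i M n (Coh.toGlobal (Z ↘ Spec (CommRingCat.of k)) r • x) =
      Coh.toGlobal (X ↘ Spec (CommRingCat.of k)) r • hhPush i M n x
    rw [h1]
    exact hhPush_smul i M n _ x

theorem hhPushₗ_map (hi : i ≫ (X ↘ Spec (CommRingCat.of k)) = Z ↘ Spec (CommRingCat.of k))
    {M N : Z.Modules} (φ : M ⟶ N) (n : ℕ) (x : Coh.HH Z M n) :
    hhPushₗ i k hi N n (HHLin.HHmap k φ n x) =
      HHLin.HHmap k ((Scheme.Modules.pushforward i).map φ) n (hhPushₗ i k hi M n x) :=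
  abPush_map i ((SheafOfModules.toSheaf Z.ringCatSheaf).map φ) n x

/-- The comparison, in the form used below. -/
theorem exists_push (hi : i ≫ (X ↘ Spec (CommRingCat.of k)) = Z ↘ Spec (CommRingCat.of k)) (n : ℕ) :
    ∃ e : ∀ M : Z.Modules, Coh.HH Z M n ≃ₗ[k] Coh.HH X ((Scheme.Modules.pushforward i).obj M) n,
      ∀ (M N : Z.Modules) (φ : M ⟶ N) (x : Coh.HH Z M n),
        e N (HHLin.HHmap k φ n x) = HHLin.HHmap k ((Scheme.Modules.pushforward i).map φ) n (e M x) :=
  ⟨fun M => hhPushₗ i k hi M n, fun _ _ φ x => hhPushₗ_map i k hi φ n x⟩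

end Linear

end K816.Push
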