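import Groth.Agent.Surf.K816.Dual
import Groth.Agent.Surf.K816.Push
import Groth.Agent.S11314

/-!
# Duality for the cover
-/

set_option autoImplicit false
set_option linter.unusedSectionVars false

universe u

open CategoryTheory CategoryTheory.Limits AlgebraicGeometry TopologicalSpace Opposite

namespace K816.DualB

open K816.Geo K816.Plane K816.Real K816.Lat K816.Cov K816.Surface K816.Mods K816.Ideals K816.Ses K816.MidLat
open K816.SeqOne K816.Geom K816.Num K816.Dual Groth.Agent.Ega1.QCohLoc Groth.Agent Groth.Agent.FormalA.HHLin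

section plane

variable (K : Type u) [Field K]

theorem duality_aux (W : (CohB1.ProjSpace 2 K).Modules)
    (e : W ≅ Twist.twistProjSpace 2 K (-(((2 : ℕ) : ℤ) + 1))) :
    ∃ t : Coh.HH (CohB1.ProjSpace 2 K) W 2 →ₗ[K] K,
      ∀ F : (CohB1.ProjSpace 2 K).Modules, Coh.IsCoh F → ∀ ψ : Coh.HH (CohB1.ProjSpace 2 K) F 2 →ₗ[K] K,
        ∃! φ : F ⟶ W, ∀ x, ψ x = t (HHmap K φ 2 x) := by
  obtain ⟨t, ht⟩ := Groth.Agent.S11314.result K 2
  refine ⟨t.comp (HHmap K e.hom 2), fun F hF ψ => ?_⟩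
  obtain ⟨φ, hφ, huni⟩ := ht F hF ψ
  refine ⟨φ ≫ e.inv, ?_, ?_⟩
  · intro x
    rw [LinearMap.comp_apply, HHmap_comp_apply, Category.assoc, e.inv_hom_id, Category.comp_id]
    exact hφ x
  · intro φ' h'
    have h1 : φ' ≫ e.hom = φ := huni _ fun x => by
      have := h' x
      rw [LinearMap.comp_apply, HHmap_comp_apply] at this
      exact this
    rw [← h1, Category.assoc, e.hom_inv_id, Category.comp_id]

theorem duality_S : ∃ t : Coh.HH (S K) (O K 3) 2 →ₗ[K] K,
      ∀ F : (S K).Modules, Coh.IsCoh F → ∀ ψ : Coh.HH (S K) F 2 →ₗ[K] K,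
        ∃! φ : F ⟶ O K 3, ∀ x, ψ x = t (HHmap K φ 2 x) := by
  obtain ⟨e⟩ := iso_O K 3
  have h : -(((3 : ℕ) : ℤ)) = -(((2 : ℕ) : ℤ) + 1) := by norm_num
  rw [h] at e
  exact duality_aux K _ e

end plane

variable {K : Type u} [Field K] [CharP K 2] {L : Type u} [Field L] [Algebra (E K) L] {κ : Type} [Fintype κ]
  [DecidableEq κ]

theorem mem_basicOpen_iff (C : Cov (pf K) L κ) {x y : Y K L} (h : p K L x = p K L y) (i : Fin 3)
    (b : Γ(Y K L, UY K L i)) (hx : x ∈ (Y K L).basicOpen b) : y ∈ (Y K L).basicOpen b := by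
  obtain ⟨s, hs, h1⟩ := e_mem C i b
  obtain ⟨a, rfl⟩ := exists_gm K hs
  have h2 : b * b = pi L i a := by
    apply e_injective
    rw [map_mul, ← pow_two, h1, e_pi]
  have h3 : ∀ z : Y K L, z ∈ (Y K L).basicOpen b ↔ p K L z ∈ (S K).basicOpen a := fun z => by
    rw [← mem_basicOpen_pi (L := L), ← h2, Scheme.basicOpen_mul]
    exact ⟨fun h => ⟨h, h⟩, fun h => h.1⟩
  rw [h3] at hx ⊢
  rwa [← h]

theorem p_injective (C : Cov (pf K) L κ) : Function.Injective (p K L) := by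
  intro x y h
  have key : ∀ {x y : Y K L}, p K L x = p K L y → x ⤳ y := by
    intro x y h
    rw [specializes_iff_forall_open]
    intro W hW hy
    obtain ⟨i, hi⟩ := Opens.mem_iSup.1 (show y ∈ ⨆ i, UY K L i from iSup_UY (K := K) (L := L) ▸ trivial)
    obtain ⟨b, hb, hyb⟩ := (isAffineOpen_UY i).exists_basicOpen_le (V := ⟨W, hW⟩) ⟨y, hy⟩ hi
    exact hb (mem_basicOpen_iff C h.symm i b hyb)
  exact ((key h).antisymm (key h.symm)).eq

theorem isClosedEmbedding_p (C : Cov (pf K) L κ) : Topology.IsClosedEmbedding (p K L).base :=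
  Topology.IsClosedEmbedding.of_continuous_injective_isClosedMap (p K L).continuous (p_injective C)
    (p K L).isClosedMap

/-- **Duality for the cover.** -/
theorem duality_Y (C : Cov (pf K) L κ) :
    ∃ t : Coh.HH (Y K L) (ClSub.idealMod (Cc K L)) 2 →ₗ[K] K,
      ∀ G : (Y K L).Modules, Coh.IsCoh G → ∀ ψ : Coh.HH (Y K L) G 2 →ₗ[K] K,
        ∃! φ : G ⟶ ClSub.idealMod (Cc K L), ∀ x, ψ x = t (HHmap K φ 2 x) := by
  have hpfc : PreservesFiniteColimits (CohTop.push (p K L).base) :=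
    CohtopA.PushClosed.preservesFiniteColimits_push_of_isClosedEmbedding (p K L).base (isClosedEmbedding_p C)
  obtain ⟨c, hc⟩ := Push.exists_push (p K L) K (show p K L ≫ (S K ↘ Spec (CommRingCat.of K)) =
    Y K L ↘ Spec (CommRingCat.of K) from rfl) 2
  obtain ⟨t, ht⟩ := duality_S K
  obtain ⟨τ', hτ'⟩ := exists_tr C
  refine ⟨(t.comp (HHmap K τ' 2)).comp (c (ClSub.idealMod (Cc K L))).toLinearMap, fun G hG ψ => ?_⟩
  obtain ⟨θ, hθ, hθu⟩ := ht (pF G) (isCoh_pF C G hG) (ψ.comp (c G).symm.toLinearMap)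
  obtain ⟨φ, hφ, hφu⟩ := exists_phi C hG.1 hτ' θ
  have key : ∀ (φ : G ⟶ ClSub.idealMod (Cc K L)) (x : Coh.HH (Y K L) G 2),
      ((t.comp (HHmap K τ' 2)).comp (c (ClSub.idealMod (Cc K L))).toLinearMap) (HHmap K φ 2 x) =
        t (HHmap K ((Scheme.Modules.pushforward (p K L)).map φ ≫ τ') 2 (c G x)) := by
    intro φ x
    change t (HHmap K τ' 2 (c (ClSub.idealMod (Cc K L)) (HHmap K φ 2 x))) = _
    rw [hc, HHmap_comp_apply]
  refine ⟨φ, fun x => ?_, fun φ' h' => hφu φ' (hθu _ fun y => ?_)⟩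
  · rw [key, hφ]
    have h1 := hθ (c G x)
    change ψ ((c G).symm (c G x)) = _ at h1
    rw [LinearEquiv.symm_apply_apply] at h1
    exact h1
  · have h1 := h' ((c G).symm y)
    rw [key, LinearEquiv.apply_symm_apply] at h1
    exact h1

end K816.DualB
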