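import Groth.Agent.Surf.K816.Alg
import Mathlib.RingTheory.Polynomial.UniqueFactorization
import Mathlib.RingTheory.Localization.FractionRing
import Mathlib.RingTheory.IntegralClosure.IntegrallyClosed
import Mathlib.Algebra.TrivSqZeroExt.Basic
import Mathlib.Algebra.MvPolynomial.Division
import Mathlib.RingTheory.Polynomial.RationalRoot

/-!
# The function field of the plane, its three charts, and derivations

`PF K E` : the field `E` is the field of rational functions of the projective plane over `K`, with homogeneous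
coordinates `1, X, Y`; `F.A i` is the coordinate ring of the chart `x_i ≠ 0`.
-/

set_option autoImplicit false

universe u

open MvPolynomial

namespace K816.Fld

open K816.Alg

section extend

/-- Extension of a derivation to the field of fractions (elementary form). -/
theorem extend {P Q : Type u} [CommRing P] [Field Q] (φ : P →+* Q) (hfrac : ∀ q, ∃ a b, φ b ≠ 0 ∧ q * φ b = φ a)
    (D₁ : P →+ Q) (hD : ∀ a b, D₁ (a * b) = φ a * D₁ b + φ b * D₁ a) (hker : ∀ a, φ a = 0 → D₁ a = 0) :
    ∃ D : Derivation ℤ Q Q, ∀ a, D (φ a) = D₁ a := by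
  choose A B hB hAB using hfrac
  have key : ∀ (q : Q) (a b : P), φ b ≠ 0 → q * φ b = φ a →
      (D₁ (A q) - q * D₁ (B q)) / φ (B q) = (D₁ a - q * D₁ b) / φ b := by
    intro q a b hb hab
    have h0 : φ (A q * b - a * B q) = 0 := by
      rw [map_sub, map_mul, map_mul, ← hab, ← hAB]; ring
    have h1 := hker _ h0
    rw [map_sub, hD, hD, ← hab, ← hAB] at h1
    rw [div_eq_div_iff (hB q) hb]
    linear_combination h1
  have h1 : D₁ 1 = 0 := by
    have := hD 1 1
    rw [mul_one, φ.map_one, one_mul] at this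
    simpa using this
  let Dfun : Q →+ Q :=
    { toFun := fun q => (D₁ (A q) - q * D₁ (B q)) / φ (B q)
      map_zero' := by
        change (D₁ (A 0) - 0 * D₁ (B 0)) / φ (B 0) = 0
        rw [key 0 0 1 (by simp) (by simp)]
        simp
      map_add' := fun q q' => by
        change (D₁ (A (q + q')) - (q + q') * D₁ (B (q + q'))) / φ (B (q + q')) = _
        rw [key (q + q') (A q * B q' + A q' * B q) (B q * B q') (by rw [map_mul]; exact mul_ne_zero (hB q) (hB q'))
          (by rw [map_mul, map_add, map_mul, map_mul, ← hAB, ← hAB]; ring)]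
        rw [div_add_div _ _ (hB q) (hB q'), φ.map_mul, D₁.map_add, hD, hD, hD, ← hAB, ← hAB]
        congr 1
        ring }
  have hspec : ∀ (q : Q) (a b : P), φ b ≠ 0 → q * φ b = φ a → Dfun q = (D₁ a - q * D₁ b) / φ b := key
  refine ⟨⟨Dfun.toIntLinearMap, ?_, ?_⟩, fun a => ?_⟩
  · change Dfun 1 = 0
    rw [hspec 1 1 1 (by simp) (by simp), h1]; simp
  · intro q q'
    change Dfun (q * q') = q • Dfun q' + q' • Dfun q
    rw [hspec (q * q') (A q * A q') (B q * B q') (by rw [map_mul]; exact mul_ne_zero (hB q) (hB q'))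
      (by rw [map_mul, map_mul, ← hAB, ← hAB]; ring)]
    rw [hspec q (A q) (B q) (hB q) (hAB q), hspec q' (A q') (B q') (hB q') (hAB q')]
    rw [smul_eq_mul, smul_eq_mul, φ.map_mul, hD, hD, ← hAB, ← hAB]
    have := hB q
    have := hB q'
    field_simp
    ring
  · change Dfun (φ a) = D₁ a
    rw [hspec (φ a) a 1 (by simp) (by simp), h1]; simp

variable {K E : Type u} [Field K] [Field E] [Algebra K E]

/-- The ring homomorphism `c ↦ c + δ(c) ε`. -/
noncomputable def tszHom (δ : K →+ E) (hδ : ∀ a b, δ (a * b) = algebraMap K E a * δ b + algebraMap K E b * δ a) :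
    K →+* TrivSqZeroExt E E where
  toFun c := TrivSqZeroExt.inl (algebraMap K E c) + TrivSqZeroExt.inr (δ c)
  map_one' := by
    have h1 : δ 1 = 0 := by
      have := hδ 1 1
      simpa using this
    rw [h1, map_one, TrivSqZeroExt.inr_zero, add_zero, TrivSqZeroExt.inl_one]
  map_mul' a b := by
    ext
    · simp
    · simp [hδ, mul_comm]
  map_zero' := by simp
  map_add' a b := by
    ext <;> simp

/-- Derivations of the field of fractions of a polynomial ring in two variables. -/
theorem exists_der (c : Fin 2 → E) (hinj : Function.Injective (aeval c : MvPolynomial (Fin 2) K →ₐ[K] E))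
    (hfrac : ∀ z : E, ∃ p q : MvPolynomial (Fin 2) K, aeval c q ≠ 0 ∧ z * aeval c q = aeval c p)
    (δ : K →+ E) (hδ : ∀ a b, δ (a * b) = algebraMap K E a * δ b + algebraMap K E b * δ a) (c' : Fin 2 → E) :
    ∃ D : Derivation ℤ E E, (∀ a : K, D (algebraMap K E a) = δ a) ∧ ∀ l, D (c l) = c' l := by
  let ψ : MvPolynomial (Fin 2) K →+* TrivSqZeroExt E E :=
    eval₂Hom (tszHom δ hδ) (fun l => TrivSqZeroExt.inl (c l) + TrivSqZeroExt.inr (c' l))
  have hfst : ∀ p, (ψ p).fst = aeval c p := by
    intro p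
    have h : (TrivSqZeroExt.fstHom E E E).toRingHom.comp ψ = (aeval c : MvPolynomial (Fin 2) K →ₐ[K] E).toRingHom := by
      apply MvPolynomial.ringHom_ext
      · intro r
        change (ψ (C r)).fst = aeval c (C r)
        rw [coe_eval₂Hom, eval₂_C, aeval_C]
        simp [tszHom]
      · intro i
        change (ψ (X i)).fst = aeval c (X i)
        rw [coe_eval₂Hom, eval₂_X, aeval_X]
        simp
    exact congrArg (fun f : MvPolynomial (Fin 2) K →+* E => f p) h
  let D₁ : MvPolynomial (Fin 2) K →+ E :=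
    { toFun := fun p => (ψ p).snd
      map_zero' := by simp
      map_add' := fun a b => by simp }
  obtain ⟨D, hD⟩ := extend (aeval c : MvPolynomial (Fin 2) K →ₐ[K] E).toRingHom hfrac D₁ (by
      intro a b
      change (ψ (a * b)).snd = aeval c a * (ψ b).snd + aeval c b * (ψ a).snd
      rw [map_mul, TrivSqZeroExt.snd_mul, hfst, hfst]
      simp [mul_comm]) (by
      intro a ha
      have : a = 0 := hinj (by rw [map_zero]; exact ha)
      rw [this, map_zero])
  refine ⟨D, fun a => ?_, fun l => ?_⟩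
  · have := hD (C a)
    change D (aeval c (C a)) = (ψ (C a)).snd at this
    rw [aeval_C] at this
    rw [this, coe_eval₂Hom, eval₂_C]
    simp [tszHom]
  · have := hD (X l)
    change D (aeval c (X l)) = (ψ (X l)).snd at this
    rw [aeval_X] at this
    rw [this, coe_eval₂Hom, eval₂_X]
    simp

end extend

section poly

variable {K E : Type u} [Field K] [Field E] [Algebra K E]
  (c : Fin 2 → E) (hinj : Function.Injective (aeval c : MvPolynomial (Fin 2) K →ₐ[K] E))
  (hfrac : ∀ z : E, ∃ p q : MvPolynomial (Fin 2) K, aeval c q ≠ 0 ∧ z * aeval c q = aeval c p)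

include hinj hfrac in
/-- A polynomial ring is closed under square roots. -/
theorem rc_range : RC (aeval c : MvPolynomial (Fin 2) K →ₐ[K] E).range := by
  intro z hz
  let _ : Algebra (MvPolynomial (Fin 2) K) E := (aeval c : MvPolynomial (Fin 2) K →ₐ[K] E).toRingHom.toAlgebra
  have : FaithfulSMul (MvPolynomial (Fin 2) K) E := (faithfulSMul_iff_algebraMap_injective _ _).2 hinj
  have hfr : IsFractionRing (MvPolynomial (Fin 2) K) E := by
    refine IsFractionRing.of_field _ _ fun z => ?_
    obtain ⟨p, q, hq, h⟩ := hfrac z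
    exact ⟨p, q, (eq_div_iff hq).2 h⟩
  obtain ⟨p, hp⟩ := hz
  obtain ⟨y, hy⟩ := IsIntegrallyClosed.exists_algebraMap_eq_of_isIntegral_pow (R := MvPolynomial (Fin 2) K)
    (K := E) (x := z) (n := 2) two_pos (by
      rw [← hp]
      exact isIntegral_algebraMap (R := MvPolynomial (Fin 2) K) (A := E) (x := p))
  exact ⟨y, hy⟩

include hinj in
/-- The coordinates are prime elements. -/
theorem dvd_of_sq (l : Fin 2) {z : E} (hz : z ∈ (aeval c : MvPolynomial (Fin 2) K →ₐ[K] E).range)
    (h : ∃ w ∈ (aeval c : MvPolynomial (Fin 2) K →ₐ[K] E).range, z ^ 2 = c l * w) :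
    ∃ w ∈ (aeval c : MvPolynomial (Fin 2) K →ₐ[K] E).range, z = c l * w := by
  obtain ⟨p, rfl⟩ := hz
  obtain ⟨w, ⟨q, rfl⟩, hw⟩ := h
  have h1 : p ^ 2 = X l * q := hinj (by
    rw [map_pow, map_mul, aeval_X]
    exact hw)
  have h2 : (X l : MvPolynomial (Fin 2) K) ∣ p := (MvPolynomial.X_prime (i := l)).dvd_of_dvd_pow ⟨q, h1⟩
  obtain ⟨r, rfl⟩ := h2
  exact ⟨aeval c r, ⟨r, rfl⟩, by
    change aeval c (X l * r) = _
    rw [map_mul, aeval_X]⟩

/-- Stability under derivations. -/
theorem st_range (D : Derivation ℤ E E) (hK : ∀ a : K, D (algebraMap K E a) ∈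
    (aeval c : MvPolynomial (Fin 2) K →ₐ[K] E).range)
    (hc : ∀ l, D (c l) ∈ (aeval c : MvPolynomial (Fin 2) K →ₐ[K] E).range) :
    St D (aeval c : MvPolynomial (Fin 2) K →ₐ[K] E).range := by
  rintro x ⟨p, rfl⟩
  change D (aeval c p) ∈ _
  have hm : ∀ q : MvPolynomial (Fin 2) K, aeval c q ∈ (aeval c : MvPolynomial (Fin 2) K →ₐ[K] E).range :=
    fun q => ⟨q, rfl⟩
  induction p using MvPolynomial.induction_on with
  | C a => rw [aeval_C]; exact hK a
  | add p q hp hq => rw [map_add, map_add]; exact Subalgebra.add_mem _ hp hq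
  | mul_X p l hp =>
    rw [map_mul, Derivation.leibniz, aeval_X, smul_eq_mul, smul_eq_mul]
    exact Subalgebra.add_mem _ (Subalgebra.mul_mem _ (hm p) (hc l)) (Subalgebra.mul_mem _ ⟨X l, aeval_X c l⟩ hp)

end poly

end K816.Fld
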