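import Groth.Agent.Surf.K816.Fld

/-!
# The plane, the parameters and the three local models

* `PF K E`: `E` is the function field of the plane with homogeneous coordinates `x 0 = 1, x 1, x 2`.
* `Par K`: elements `a 0, …, a 3` of `K` and derivations `δ i` of `K` with `δ i (a j) = δ_ij`.
* `F.A i`: the ring of the chart `x_i ≠ 0`; `F.u i = x_0 / x_i`; `pp`, `rr`: the functions `P`, `R`; `mem_of_q`.
-/

set_option autoImplicit false
set_option linter.unusedSimpArgs false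

universe u

open MvPolynomial

namespace K816.Geo

open K816.Alg K816.Fld

/-- The function field of the plane. -/
structure PF (K E : Type u) [Field K] [Field E] [Algebra K E] where
  x : Fin 3 → E
  x0 : x 0 = 1
  ne : ∀ i, x i ≠ 0
  inj : ∀ i : Fin 3, Function.Injective
    (aeval (fun l : Fin 2 => x (i.succAbove l) / x i) : MvPolynomial (Fin 2) K →ₐ[K] E)
  frac : ∀ (i : Fin 3) (z : E), ∃ p q : MvPolynomial (Fin 2) K,
    aeval (fun l : Fin 2 => x (i.succAbove l) / x i) q ≠ 0 ∧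
      z * aeval (fun l : Fin 2 => x (i.succAbove l) / x i) q = aeval (fun l : Fin 2 => x (i.succAbove l) / x i) p

/-- Parameters. -/
structure Par (K : Type u) [Field K] where
  a : Fin 4 → K
  δ : Fin 4 → Derivation ℤ K K
  hδ : ∀ i j, δ i (a j) = if i = j then 1 else 0

variable {K E : Type u} [Field K] [Field E] [Algebra K E] (F : PF K E) (w : Par K)

namespace PF

/-- The coordinates of the chart. -/
def c (i : Fin 3) (l : Fin 2) : E := F.x (i.succAbove l) / F.x i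

/-- The ring of the chart. -/
noncomputable def A (i : Fin 3) : Subalgebra K E := (aeval (F.c i) : MvPolynomial (Fin 2) K →ₐ[K] E).range

/-- `x_0 / x_i`. -/
def u (i : Fin 3) : E := F.x 0 / F.x i

theorem c_mem (i : Fin 3) (l : Fin 2) : F.c i l ∈ F.A i := ⟨X l, aeval_X _ l⟩

theorem ratio_mem (i j : Fin 3) : F.x j / F.x i ∈ F.A i := by
  rcases eq_or_ne j i with rfl | h
  · rw [div_self (F.ne j)]
    exact Subalgebra.one_mem _
  · obtain ⟨l, rfl⟩ := Fin.exists_succAbove_eq h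
    exact F.c_mem i l

theorem u_mem (i : Fin 3) : F.u i ∈ F.A i := F.ratio_mem i 0

theorem u_ne (i : Fin 3) : F.u i ≠ 0 := div_ne_zero (F.ne 0) (F.ne i)

theorem u_zero : F.u 0 = 1 := div_self (F.ne 0)

theorem u_eq (i : Fin 3) : F.u i = (F.x i)⁻¹ := by rw [u, F.x0, one_div]

theorem rc (i : Fin 3) : RC (F.A i) := rc_range _ (F.inj i) (F.frac i)

theorem u_one : F.u 1 = F.c 1 0 := rfl

theorem u_two : F.u 2 = F.c 2 0 := rfl

theorem c00 : F.c 0 0 = F.x 1 := by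
  change F.x 1 / F.x 0 = _
  rw [F.x0, div_one]

theorem c01 : F.c 0 1 = F.x 2 := by
  change F.x 2 / F.x 0 = _
  rw [F.x0, div_one]

theorem c11 : F.c 1 1 = F.x 2 / F.x 1 := rfl

theorem c21 : F.c 2 1 = F.x 1 / F.x 2 := rfl

theorem map_mem (i : Fin 3) (r : K) : algebraMap K E r ∈ F.A i := Subalgebra.algebraMap_mem _ r

/-- `u` is prime. -/
theorem dvd_u {i : Fin 3} {z : E} (hz : z ∈ F.A i) (h : ∃ w ∈ F.A i, z ^ 2 = F.u i * w) :
    ∃ w ∈ F.A i, z = F.u i * w := by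
  fin_cases i
  · exact ⟨z, hz, by change z = F.u 0 * z; rw [F.u_zero, one_mul]⟩
  · exact dvd_of_sq (F.c 1) (F.inj 1) 0 hz h
  · exact dvd_of_sq (F.c 2) (F.inj 2) 0 hz h

/-- The derivations `∂ / ∂ a_j` of `E`. -/
theorem exists_D (j : Fin 4) : ∃ D : Derivation ℤ E E,
    (∀ r : K, D (algebraMap K E r) = algebraMap K E (w.δ j r)) ∧ ∀ i, D (F.x i) = 0 := by
  obtain ⟨D, h1, h2⟩ := exists_der (F.c 0) (F.inj 0) (F.frac 0)
    ((algebraMap K E).toAddMonoidHom.comp (w.δ j).toAddMonoidHom) (by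
      intro a b
      change algebraMap K E (w.δ j (a * b)) = _ * algebraMap K E (w.δ j b) + _ * algebraMap K E (w.δ j a)
      rw [Derivation.leibniz, map_add, smul_eq_mul, smul_eq_mul, map_mul, map_mul]) (fun _ => 0)
  refine ⟨D, h1, fun i => ?_⟩
  fin_cases i
  · change D (F.x 0) = 0
    rw [F.x0, D.map_one_eq_zero]
  · have := h2 0
    rwa [F.c00] at this
  · have := h2 1
    rwa [F.c01] at this

/-- `∂ / ∂ a_j`. -/
noncomputable def D (j : Fin 4) : Derivation ℤ E E := (F.exists_D w j).choose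

theorem D_map (j : Fin 4) (r : K) : F.D w j (algebraMap K E r) = algebraMap K E (w.δ j r) :=
  (F.exists_D w j).choose_spec.1 r

theorem D_x (j : Fin 4) (i : Fin 3) : F.D w j (F.x i) = 0 := (F.exists_D w j).choose_spec.2 i

theorem D_a (j l : Fin 4) : F.D w j (algebraMap K E (w.a l)) = if j = l then 1 else 0 := by
  rw [D_map, w.hδ]
  split_ifs <;> simp

theorem D_div (j : Fin 4) (i k : Fin 3) : F.D w j (F.x i / F.x k) = 0 := by
  rw [div_eq_mul_inv, Derivation.leibniz, D_x, smul_zero, add_zero, Derivation.leibniz_inv, D_x]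
  simp

theorem D_c (j : Fin 4) (i : Fin 3) (l : Fin 2) : F.D w j (F.c i l) = 0 := F.D_div w j _ _

theorem D_u (j : Fin 4) (i : Fin 3) : F.D w j (F.u i) = 0 := F.D_div w j _ _

theorem st_D (j : Fin 4) (i : Fin 3) : St (F.D w j) (F.A i) :=
  st_range (F.c i) _ (fun r => by rw [D_map]; exact F.map_mem i _) (fun l => by
    rw [D_c]; exact Subalgebra.zero_mem _)

/-- The partial derivatives in the chart. -/
theorem exists_p (i : Fin 3) (l : Fin 2) : ∃ D : Derivation ℤ E E,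
    (∀ r : K, D (algebraMap K E r) = 0) ∧ ∀ m, D (F.c i m) = if l = m then 1 else 0 :=
  exists_der (F.c i) (F.inj i) (F.frac i) 0 (by simp) _

/-- The partial derivatives in the chart. -/
noncomputable def pd (i : Fin 3) (l : Fin 2) : Derivation ℤ E E := (F.exists_p i l).choose

theorem pd_map (i : Fin 3) (l : Fin 2) (r : K) : F.pd i l (algebraMap K E r) = 0 :=
  (F.exists_p i l).choose_spec.1 r

theorem pd_c (i : Fin 3) (l m : Fin 2) : F.pd i l (F.c i m) = if l = m then 1 else 0 :=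
  (F.exists_p i l).choose_spec.2 m

theorem st_pd (i : Fin 3) (l : Fin 2) : St (F.pd i l) (F.A i) :=
  st_range (F.c i) _ (fun r => by rw [pd_map]; exact Subalgebra.zero_mem _) (fun m => by
    rw [pd_c]
    split_ifs
    exacts [Subalgebra.one_mem _, Subalgebra.zero_mem _])

end PF

/-- The parameter `a j` in `E`. -/
noncomputable def aE (j : Fin 4) : E := algebraMap K E (w.a j)

/-- The function `P` of the chart. -/
noncomputable def pp : Fin 3 → E
  | 0 => aE w 1 + F.x 2 + F.x 1 ^ 3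
  | 1 => P1 (F.u 1) (F.c 1 1) (aE w 1)
  | 2 => P2 (F.u 2) (F.c 2 1) (aE w 2) (aE w 3)

/-- The function `R` of the chart. -/
noncomputable def rr : Fin 3 → E
  | 0 => aE w 2 + aE w 3 * F.x 1 + F.x 2 ^ 2 * F.x 1
  | 1 => R1 (F.u 1) (F.c 1 1) (aE w 1) (aE w 2) (aE w 3)
  | 2 => R2 (F.u 2) (F.c 2 1) (aE w 1) (aE w 2) (aE w 3)

theorem aE_mem (j : Fin 4) (i : Fin 3) : (aE w j : E) ∈ F.A i := F.map_mem i _

theorem x1_mem : F.x 1 ∈ F.A 0 := by rw [← F.c00]; exact F.c_mem 0 0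
theorem x2_mem : F.x 2 ∈ F.A 0 := by rw [← F.c01]; exact F.c_mem 0 1

theorem pp_mem (i : Fin 3) : pp F w i ∈ F.A i := by
  fin_cases i
  · exact Subalgebra.add_mem _ (Subalgebra.add_mem _ (aE_mem F w 1 0) (x2_mem F))
      (Subalgebra.pow_mem _ (x1_mem F) 3)
  · exact Subalgebra.add_mem _ (Subalgebra.add_mem _ (Subalgebra.one_mem _) (Subalgebra.mul_mem _ (aE_mem F w 1 1)
      (Subalgebra.pow_mem _ (F.u_mem 1) 3))) (Subalgebra.mul_mem _ (Subalgebra.pow_mem _ (F.u_mem 1) 2) (F.c_mem 1 1))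
  · exact Subalgebra.add_mem _ (Subalgebra.add_mem _ (F.c_mem 2 1) (Subalgebra.mul_mem _ (aE_mem F w 2 2)
      (Subalgebra.pow_mem _ (F.u_mem 2) 3))) (Subalgebra.mul_mem _ (aE_mem F w 3 2)
      (Subalgebra.mul_mem _ (Subalgebra.pow_mem _ (F.u_mem 2) 2) (F.c_mem 2 1)))

theorem rr_mem (i : Fin 3) : rr F w i ∈ F.A i := by
  fin_cases i
  · exact Subalgebra.add_mem _ (Subalgebra.add_mem _ (aE_mem F w 2 0) (Subalgebra.mul_mem _ (aE_mem F w 3 0)
      (x1_mem F))) (Subalgebra.mul_mem _ (Subalgebra.pow_mem _ (x2_mem F) 2) (x1_mem F))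
  · exact Subalgebra.add_mem _ (Subalgebra.add_mem _ (Subalgebra.add_mem _ (Subalgebra.mul_mem _ (aE_mem F w 2 1)
      (F.u_mem 1)) (aE_mem F w 3 1)) (Subalgebra.mul_mem _ (aE_mem F w 1 1) (Subalgebra.mul_mem _ (F.u_mem 1)
      (Subalgebra.pow_mem _ (F.c_mem 1 1) 2)))) (Subalgebra.pow_mem _ (F.c_mem 1 1) 3)
  · exact Subalgebra.add_mem _ (Subalgebra.add_mem _ (Subalgebra.add_mem _ (Subalgebra.one_mem _)
      (Subalgebra.mul_mem _ (aE_mem F w 1 2) (F.u_mem 2))) (Subalgebra.mul_mem _ (aE_mem F w 2 2)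
      (Subalgebra.mul_mem _ (F.u_mem 2) (Subalgebra.pow_mem _ (F.c_mem 2 1) 2))))
      (Subalgebra.mul_mem _ (aE_mem F w 3 2) (Subalgebra.pow_mem _ (F.c_mem 2 1) 3))

/-- The square of `c₀ + c₁ e + c₂ f + c₃ g`. -/
noncomputable def q (i : Fin 3) (c : Fin 4 → E) : E :=
  c 0 ^ 2 + c 1 ^ 2 * (F.u i * pp F w i) + c 2 ^ 2 * (F.u i * rr F w i) + c 3 ^ 2 * (pp F w i * rr F w i)

theorem q_mem {i : Fin 3} {c : Fin 4 → E} (h : ∀ k, c k ∈ F.A i) : q F w i c ∈ F.A i := by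
  have hP := pp_mem F w i
  have hR := rr_mem F w i
  have hu := F.u_mem i
  exact Subalgebra.add_mem _ (Subalgebra.add_mem _ (Subalgebra.add_mem _ (Subalgebra.pow_mem _ (h 0) 2)
    (Subalgebra.mul_mem _ (Subalgebra.pow_mem _ (h 1) 2) (Subalgebra.mul_mem _ hu hP)))
    (Subalgebra.mul_mem _ (Subalgebra.pow_mem _ (h 2) 2) (Subalgebra.mul_mem _ hu hR)))
    (Subalgebra.mul_mem _ (Subalgebra.pow_mem _ (h 3) 2) (Subalgebra.mul_mem _ hP hR))

section derP

variable [CharP E 2]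

theorem D_pp0 (j : Fin 4) : F.D w j (pp F w 0) = if j = 1 then 1 else 0 := by
  change F.D w j (aE w 1 + F.x 2 + F.x 1 ^ 3) = _
  rw [map_add, map_add, der_cube, F.D_x, F.D_x, aE, F.D_a]
  simp

theorem D_rr0 (j : Fin 4) : F.D w j (rr F w 0) = if j = 2 then 1 else if j = 3 then F.x 1 else 0 := by
  change F.D w j (aE w 2 + aE w 3 * F.x 1 + F.x 2 ^ 2 * F.x 1) = _
  rw [map_add, map_add, der_sq_mul, Derivation.leibniz, F.D_x, aE, aE, F.D_a, F.D_a]
  fin_cases j <;> simp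

end derP

variable [CharP E 2]

/-- The ring of elements `c₀ + c₁ e + c₂ f + c₃ g` is closed under square roots. -/
theorem mem_of_q {i : Fin 3} {c : Fin 4 → E} (h : q F w i c ∈ F.A i) : ∀ k, c k ∈ F.A i := by
  suffices h' : c 0 ∈ F.A i ∧ c 1 ∈ F.A i ∧ c 2 ∈ F.A i ∧ c 3 ∈ F.A i by
    intro k
    fin_cases k
    exacts [h'.1, h'.2.1, h'.2.2.1, h'.2.2.2]
  fin_cases i
  · refine mem_of_chart0 (F.rc 0) (F.st_D w 1 0) (F.st_D w 2 0) (pp_mem F w 0) (rr_mem F w 0)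
      (by rw [D_pp0]; rfl) (by rw [D_rr0]; rfl) (by rw [D_pp0]; rfl) (by rw [D_rr0]; rfl) ?_
    have h2 : q F w 0 c ∈ F.A 0 := h
    rw [q, F.u_zero, one_mul, one_mul] at h2
    exact h2
  · exact mem_of_chart1 (F.rc 1) (F.st_D w 3 1) (F.st_pd 1 0) (F.st_pd 1 1) (F.u_mem 1) (F.c_mem 1 1)
      (aE_mem F w 1 1) (aE_mem F w 2 1) (aE_mem F w 3 1)
      (F.D_u w 3 1) (F.D_c w 3 1 1) (F.D_a w 3 1) (F.D_a w 3 2) (F.D_a w 3 3) (F.pd_c 1 0 0) (F.pd_c 1 0 1)
      (F.pd_map 1 0 _) (F.pd_c 1 1 0) (F.pd_c 1 1 1) (F.pd_map 1 1 _) h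
  · exact mem_of_chart2 (F.rc 2) (F.st_D w 1 2) (F.st_D w 3 2) (F.st_pd 2 0) (F.st_pd 2 1) (F.u_mem 2) (F.c_mem 2 1)
      (aE_mem F w 1 2) (aE_mem F w 2 2) (aE_mem F w 3 2)
      (F.D_u w 1 2) (F.D_c w 1 2 1) (F.D_a w 1 1) (F.D_a w 1 2) (F.D_a w 1 3)
      (F.D_u w 3 2) (F.D_c w 3 2 1) (F.D_a w 3 3) (F.pd_c 2 0 0) (F.pd_c 2 0 1)
      (F.pd_map 2 0 _) (F.pd_map 2 0 _) (F.pd_map 2 0 _) (F.pd_c 2 1 0) (F.pd_c 2 1 1)
      (F.pd_map 2 1 _) (F.pd_map 2 1 _) (F.pd_map 2 1 _) h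

end K816.Geo
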