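import Groth.Agent.Surf.K816.Ideals
import Groth.Agent.Pi1C.LefEtale
import Groth.Agent.Pi1C.LefReduce
import Groth.Agent.IntTh.K711.ProjDim
import Groth.Agent.IntMult.K304.DimBasic

/-!
# Geometry of the cover: finiteness, dimension, regularity
-/

set_option autoImplicit false
set_option linter.unusedSectionVars false

universe u

open CategoryTheory AlgebraicGeometry TopologicalSpace Opposite

namespace K816.Geom

open K816.Geo K816.Plane K816.Cov K816.RegOne K816.RegTwo K816.Norm K816.Real K816.Surface K816.Mods K816.Ideals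
open Groth.Agent.Ega1.QCohLoc

theorem isRegular_of_loc {X : Scheme.{u}} {U : X.Opens} (hU : IsAffineOpen U) {B : Type u} [CommRing B]
    (h : Γ(X, U) ≃+* B) (x : X) (hx : x ∈ U)
    (H : ∀ (p : Ideal B) [p.IsPrime], (∀ f : Γ(X, U), h f ∈ p ↔ x ∉ X.basicOpen f) →
      IsRegularLocalRing (Localization.AtPrime p)) : IsRegularLocalRing (X.presheaf.stalk x) := by
  let y := hU.primeIdealOf ⟨x, hx⟩
  let p : Ideal B := y.asIdeal.comap h.symm
  have hp : p.IsPrime := Ideal.comap_isPrime _ _
  have h1 : hU.fromSpec y = x := hU.fromSpec_primeIdealOf ⟨x, hx⟩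
  have hf : ∀ f : Γ(X, U), h f ∈ p ↔ x ∉ X.basicOpen f := by
    intro f
    have h2 : h f ∈ p ↔ f ∈ y.asIdeal := by
      rw [Ideal.mem_comap]
      simp
    have h3 : x ∈ X.basicOpen f ↔ y ∈ PrimeSpectrum.basicOpen f := by
      rw [← hU.fromSpec_preimage_basicOpen f, ← h1]
      rfl
    rw [h2, h3, PrimeSpectrum.mem_basicOpen, not_not]
  have hreg := H p hf
  let := TopCat.Presheaf.algebra_section_stalk X.presheaf (⟨x, hx⟩ : U)
  have hloc : IsLocalization.AtPrime (X.presheaf.stalk x) y.asIdeal := hU.isLocalization_stalk ⟨x, hx⟩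
  have hmap : Submonoid.map (h.symm : B →* Γ(X, U)) p.primeCompl = y.asIdeal.primeCompl := by
    ext z
    constructor
    · rintro ⟨b, hb, rfl⟩
      exact hb
    · intro hz
      exact ⟨h z, fun hb => hz (by simpa [p] using hb), h.symm_apply_apply z⟩
  exact IsRegularLocalRing.of_ringEquiv
    (IsLocalization.ringEquivOfRingEquiv (M := p.primeCompl) (T := y.asIdeal.primeCompl)
      (Localization.AtPrime p) (X.presheaf.stalk x) h.symm hmap)

variable {K : Type u} [Field K] {L : Type u} [Field L] [Algebra (E K) L] [CharP K 2] {κ : Type} [Fintype κ]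
  [DecidableEq κ]

theorem mem_basicOpen_pi (i : Fin 3) (a : Γ(S K, U K i)) (x : Y K L) :
    x ∈ (Y K L).basicOpen (pi L i a) ↔ p K L x ∈ (S K).basicOpen a := by
  have h : (p K L) ⁻¹ᵁ ((S K).basicOpen a) = (Y K L).basicOpen (pi L i a) := Scheme.preimage_basicOpen (p K L) a
  rw [← h]
  rfl

theorem isRegular_stalk (C : Cov (pf K) L κ) (hG : RegThree.Good (pf K) L) (x : Y K L) :
    IsRegularLocalRing ((Y K L).presheaf.stalk x) := by
  have key : ∀ (i j : Fin 3) (q : Ideal (Bs (pf K) L i))
      (_ : ∀ f : Γ(Y K L, UY K L i), RingEquiv.ofBijective (hB C i) (hB_bijective C i) f ∈ q ↔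
        x ∉ (Y K L).basicOpen f) (_ : x ∉ UY K L j)
      (h : (pf K).x j / (pf K).x i ∈ (pf K).A i), φA (pf K) L i ⟨(pf K).x j / (pf K).x i, h⟩ ∈ q := by
    intro i j q hq hj h
    have h1 := (hq (pi L i (rat K i j))).2 (by
      rw [mem_basicOpen_pi i _ x, basicOpen_rat]
      exact fun h2 => hj h2.2)
    have h2 := hB_app C i (rat K i j)
    have h3 : (⟨gm K (U K i) (rat K i j), gm_mem K i (rat K i j)⟩ : (pf K).A i) =
        ⟨(pf K).x j / (pf K).x i, h⟩ := Subtype.ext (gm_rat K i j)
    rw [h3] at h2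
    rw [← h2]
    exact h1
  by_cases h0 : x ∈ UY K L 0
  · exact isRegular_of_loc (isAffineOpen_UY 0) (RingEquiv.ofBijective (hB C 0) (hB_bijective C 0)) x h0
      fun p _ _ => hG.zero p
  by_cases h1 : x ∈ UY K L 1
  · exact isRegular_of_loc (isAffineOpen_UY 1) (RingEquiv.ofBijective (hB C 1) (hB_bijective C 1)) x h1
      fun p _ hp => hG.one p (key 1 0 p hp h0 _)
  · have h2 : x ∈ UY K L 2 := by
      obtain ⟨i, hi⟩ := Opens.mem_iSup.1 (show x ∈ ⨆ i, UY K L i from iSup_UY (K := K) (L := L) ▸ trivial)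
      fin_cases i
      exacts [absurd hi h0, absurd hi h1, hi]
    exact isRegular_of_loc (isAffineOpen_UY 2) (RingEquiv.ofBijective (hB C 2) (hB_bijective C 2)) x h2
      fun p _ hp => hG.two p (key 2 0 p hp h0 _) (key 2 1 p hp h1 _)

theorem finite_pi (C : Cov (pf K) L κ) (i : Fin 3) : (pi (K := K) L i).Finite := by
  let g : Γ(S K, U K i) →+* (pf K).A i :=
    { toFun := fun a => ⟨gm K (U K i) a, gm_mem K i a⟩
      map_one' := Subtype.ext (map_one _)
      map_zero' := Subtype.ext (map_zero _)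
      map_add' := fun a b => Subtype.ext (map_add _ a b)
      map_mul' := fun a b => Subtype.ext (map_mul _ a b) }
  have hg : Function.Surjective g := by
    rintro ⟨z, hz⟩
    obtain ⟨a, ha⟩ := exists_gm K hz
    exact ⟨a, Subtype.ext ha⟩
  have h1 : ((φA (pf K) L i).comp g).Finite := (finite_Bs C i).comp (RingHom.Finite.of_surjective g hg)
  let h := RingEquiv.ofBijective (hB C i) (hB_bijective C i)
  have h2 : pi (K := K) L i = (h.symm : Bs (pf K) L i →+* Γ(Y K L, UY K L i)).comp ((φA (pf K) L i).comp g) := by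
    ext a
    apply h.injective
    change h (pi L i a) = h (h.symm (φA (pf K) L i (g a)))
    rw [h.apply_symm_apply]
    exact hB_app C i a
  rw [h2]
  exact (RingHom.Finite.of_surjective (h.symm : Bs (pf K) L i →+* Γ(Y K L, UY K L i)) h.symm.surjective).comp h1

theorem isFinite_p (C : Cov (pf K) L κ) : IsFinite (p K L) :=
  Groth.Agent.Pi1C.LefEtale.isFinite_of_iSup (p K L) (U K) (iSup_U K) (isAffineOpen_U K) (finite_pi C)

theorem isDominant_p : IsDominant (p K L) := by
  have h1 : IsDominant (Norm.pt (S := S K) L) := by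
    constructor
    rw [DenseRange, dense_iff_inter_open]
    intro W hW hne
    obtain ⟨z⟩ : Nonempty (Spec (CommRingCat.of L)) := inferInstanceAs (Nonempty (PrimeSpectrum L))
    have : Nonempty (⟨W, hW⟩ : (S K).Opens) := by
      obtain ⟨x, hx⟩ := hne
      exact ⟨⟨x, hx⟩⟩
    have h2 := Norm.preimage_eq_top (S := S K) L ⟨W, hW⟩
    exact ⟨_, (show z ∈ Norm.pt (S := S K) L ⁻¹ᵁ ⟨W, hW⟩ from h2 ▸ trivial), ⟨z, rfl⟩⟩
  have h2 : Norm.toX (S := S K) L ≫ p K L = Norm.pt (S := S K) L := Norm.toX_π L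
  rw [← h2] at h1
  exact IsDominant.of_comp (Norm.toX (S := S K) L) (p K L)

theorem generic_p : p K L (genericPoint (Y K L)) = genericPoint (S K) := by
  have hd : IsDominant (p K L) := isDominant_p
  have h1 : IsGenericPoint (genericPoint (Y K L)) Set.univ := genericPoint_spec (Y K L)
  have h2 := h1.image (p K L).continuous
  rw [Set.image_univ, (p K L).denseRange.closure_range] at h2
  have h3 : IsGenericPoint (genericPoint (S K)) Set.univ := genericPoint_spec (S K)
  exact h2.eq h3

theorem dim_Y : topologicalKrullDim (Y K L) = 2 := by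
  have h := Groth.Agent.Pi1C.LefReduce.dim_closure_eq (p K L) (genericPoint (Y K L))
  rw [generic_p] at h
  have h1 : closure ({genericPoint (Y K L)} : Set (Y K L)) = Set.univ := genericPoint_spec (Y K L)
  have h2 : closure ({genericPoint (S K)} : Set (S K)) = Set.univ := genericPoint_spec (S K)
  rw [h1, h2, K304.DimBasic.topologicalKrullDim_univ,
    K304.DimBasic.topologicalKrullDim_univ] at h
  rw [h]
  exact K711.ProjDim.topologicalKrullDim_projSpace 2 K

variable (K L) in
/-- The structure morphism. -/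
noncomputable def fY : Y K L ⟶ Spec (CommRingCat.of K) := p K L ≫ CohB1.ProjSpace.toSpec 2 K

theorem isProper_fY (C : Cov (pf K) L κ) : IsProper (fY K L) := by
  have h1 := isFinite_p C
  have h2 : IsProper (CohB1.ProjSpace.toSpec 2 K) := Groth.Agent.Ega3B.ProjProper.isProper_toSpec 2 K
  have h3 : IsProper (p K L) := inferInstance
  exact MorphismProperty.comp_mem @IsProper (p K L) (CohB1.ProjSpace.toSpec 2 K) h3 h2

end K816.Geom
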