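import Groth.Agent.Surf.K816.Mods
import Groth.Agent.Divis.IdealComap

/-!
# The ideals of the line at infinity and of the curve `C`

* `ic K d`: the ideal of `x_0^d` on the plane, `idealMod (ic K d) ≅ O(-d)`.
* `H0 K L`: the inverse image of the line; `Cc K L`: its radical.
* `mem_Cc`, `Cc_mul_Cc : Cc * Cc = H0`, `isEff_Cc`.
-/

set_option autoImplicit false
set_option linter.unusedSectionVars false

universe u

open CategoryTheory AlgebraicGeometry TopologicalSpace Opposite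

namespace K816.Ideals

open K816.Geo K816.Plane K816.Cov K816.RegOne K816.Norm K816.Real K816.Surface K816.Mods
open Groth.Agent.Ega1.QCohLoc Groth.Agent.Dix.IdealModCartier Groth.Agent.Lefpen.H705.HypIdeal
open Groth.Agent.Lefpen.H705.ChartPoly

section plane

variable (K : Type u) [Field K]

/-- The form `x_0^d`. -/
noncomputable def f0 (d : ℕ) : LefPen.Form 2 K d :=
  ⟨MvPolynomial.X 0 ^ d, (MvPolynomial.mem_homogeneousSubmodule d _).2 (by
    have h := MvPolynomial.isHomogeneous_X_pow (R := K) (0 : Fin 3) d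
    exact h)⟩

/-- The ideal of `x_0^d`. -/
noncomputable def ic (d : ℕ) : (S K).IdealSheafData := LefPen.hypIdeal (f0 K d)

theorem dehom_f0 (d : ℕ) (i : Fin 3) : LefPen.dehom (f0 K d) i = ratio (k := K) i 0 ^ d := by
  rw [ratio, dehom_eq, dehom_eq, ← map_pow, ← map_pow]
  rfl

theorem ic_ideal (d : ℕ) (i : Fin 3) : idS (ic K d) i = Ideal.span {rat K i 0 ^ d} := by
  have h := hypIdeal_ideal_of_le (f0 K d) i (aS K i) le_rfl
  rw [dehom_f0] at h
  have h2 : Groth.Agent.Fdesc.LocGen.ores (le_refl (U K i)) (rat K i 0 ^ d) = rat K i 0 ^ d :=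
    Groth.Agent.Fdesc.LocGen.ores_refl _
  exact h.trans (congrArg (fun t => Ideal.span {t}) h2)

/-- Sections of the ideal of `x_0^d` on the charts. -/
theorem ic_mem (d : ℕ) (i : Fin 3) (s : Γ(ClSub.idealMod (ic K d), U K i)) :
    ∃ r ∈ (pf K).A i, (RS (ic K d)).w i s = (pf K).u i ^ d * r := by
  obtain ⟨a, ha, h⟩ := RS_mem (ic K d) i s
  rw [ic_ideal, Ideal.mem_span_singleton] at ha
  obtain ⟨b, rfl⟩ := ha
  exact ⟨gm K (U K i) b, gm_mem K i b, by rw [h, map_mul, map_pow, gm_u]⟩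

theorem ic_exists (d : ℕ) (i : Fin 3) {r : E K} (hr : r ∈ (pf K).A i) :
    ∃ s, (RS (ic K d)).w i s = (pf K).u i ^ d * r := by
  obtain ⟨b, rfl⟩ := exists_gm K hr
  have h : rat K i 0 ^ d * b ∈ idS (ic K d) i := by
    rw [ic_ideal]
    exact Ideal.mem_span_singleton.2 ⟨b, rfl⟩
  obtain ⟨s, hs⟩ := RS_exists (ic K d) i h
  exact ⟨s, by rw [hs, map_mul, map_pow, gm_u]⟩

/-- `idealMod (ic d) ≅ O(-d)` -/
theorem nonempty_iso_twist (d : ℕ) :
    Nonempty (ClSub.idealMod (LefPen.hypIdeal (f0 K d)) ≅ Twist.twistProjSpace 2 K (-(d : ℤ))) := by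
  obtain ⟨g, hg, hrel⟩ := Groth.Agent.Lefpen.H121.CurveForm.exists_gens (N := 2) (k := K) (-(d : ℤ))
  have hid : ∀ i : Fin 3, (LefPen.hypIdeal (f0 K d)).ideal ⟨LefPen.chart 2 K i, isAffineOpen_chart i⟩ =
      Ideal.span {ratio (k := K) i 0 ^ d} := fun i => ic_ideal K d i
  have hn : ∀ i : Fin 3, ∃ n : Γ(ClSub.idealMod (LefPen.hypIdeal (f0 K d)), LefPen.chart 2 K i),
      val (LefPen.hypIdeal (f0 K d)) n = ratio (k := K) i 0 ^ d := fun i =>
    exists_val_eq _ ⟨LefPen.chart 2 K i, isAffineOpen_chart i⟩ (by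
      rw [hid]; exact Ideal.mem_span_singleton_self _)
  choose n hn using hn
  have gn : ∀ i, Groth.Agent.Fdesc.LocGen.IsGen (n i) := fun i => isGen_of_genOn ((hn i).symm ▸
    genOn_of_affine (U := ⟨LefPen.chart 2 K i, isAffineOpen_chart i⟩) (by
      have hne : ratio (k := K) i 0 ^ d ≠ 0 := by
        intro h0
        have h1 : gm K (U K i) (rat K i 0 ^ d) = 0 := (congrArg (gm K (U K i)) h0).trans (map_zero _)
        rw [map_pow, gm_u] at h1
        exact (pf K).u_ne i (eq_zero_of_pow_eq_zero h1)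
      have : IsDomain Γ(CohB1.ProjSpace 2 K, LefPen.chart 2 K i) :=
        (gm_injective K (U K i)).isDomain (gm K (U K i))
      exact mem_nonZeroDivisors_of_ne_zero hne) (hid i))
  obtain ⟨φ, -⟩ := Groth.Agent.Picfga.LineHom.exists_iso (L := Twist.twistProjSpace 2 K (-(d : ℤ)))
    (N := ClSub.idealMod (LefPen.hypIdeal (f0 K d)))
    (iSup_chart (r := 2) (k := K)) (e := g) hg (n := n)
    (Groth.Agent.Picfga.LineHom.trans_of_inf hg (by
      intro i j
      refine ⟨Groth.Agent.Fdesc.LocGen.ores (inf_le_left : LefPen.chart 2 K i ⊓ LefPen.chart 2 K j ≤ _)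
        (ratio i j) ^ d, ?_, ?_⟩
      · have h1 := hrel i j
        have h2 : (-(d : ℤ)).toNat = 0 := Int.toNat_of_nonpos (by omega)
        have h3 : (- -(d : ℤ)).toNat = d := by simp
        rw [h2, h3, pow_zero, one_smul] at h1
        exact h1
      · apply val_injective
        rw [val_smul, val_res, val_res, hn, hn, ← dehom_f0, ← dehom_f0]
        exact ores_dehom (f0 K d) i j _ inf_le_left inf_le_right)) gn
  exact ⟨φ.symm⟩

end plane

section cover

variable (K : Type u) [Field K] (L : Type u) [Field L] [Algebra (E K) L]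

/-- The inverse image of the line at infinity. -/
noncomputable def H0 : (Y K L).IdealSheafData := (ic K 1).comap (p K L)

/-- The equation of the line. -/
noncomputable def hh (i : Fin 3) : Γ(Y K L, UY K L i) := pi L i (rat K i 0)

theorem e_hh (i : Fin 3) : e K L i (hh K L i) = algebraMap (E K) L ((pf K).u i) := by
  rw [hh, e_pi, gm_u]

theorem H0_ideal (i : Fin 3) : idY (H0 K L) i = Ideal.span {hh K L i} := by
  have h := Groth.Agent.Divis.IdealComap.ideal_comap (ic K 1) (p K L) (aS K i) (aY L i) le_rfl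
  have h1 : idY (H0 K L) i = (idS (ic K 1) i).map (pi L i) := by
    have h2 : (p K L).appLE (U K i) (p K L ⁻¹ᵁ U K i) le_rfl = (p K L).app (U K i) :=
      (Scheme.Hom.app_eq_appLE (f := p K L)).symm
    have h3 : (((p K L).appLE (U K i) (p K L ⁻¹ᵁ U K i) le_rfl).hom :
        Γ(S K, U K i) →+* Γ(Y K L, p K L ⁻¹ᵁ U K i)) = ((p K L).app (U K i)).hom := congrArg _ h2
    exact h.trans (congrArg (fun t : Γ(S K, U K i) →+* Γ(Y K L, UY K L i) => (idS (ic K 1) i).map t) h3)
  rw [h1, ic_ideal, Ideal.map_span, Set.image_singleton, pow_one]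
  rfl

/-- The curve at infinity. -/
noncomputable def Cc : (Y K L).IdealSheafData := (H0 K L).radical

theorem Cc_ideal (i : Fin 3) : idY (Cc K L) i = (Ideal.span {hh K L i}).radical := by
  rw [← H0_ideal]
  rfl

variable {K L} [CharP K 2] {κ : Type} [Fintype κ] [DecidableEq κ]

theorem exists_mul_of_pow {i : Fin 3} (m : ℕ) {z : E K} (hz : z ∈ (pf K).A i)
    (h : ∃ w ∈ (pf K).A i, z ^ 2 ^ m = (pf K).u i * w) : ∃ w ∈ (pf K).A i, z = (pf K).u i * w := by
  induction m with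
  | zero =>
    obtain ⟨w, hw, h⟩ := h
    exact ⟨w, hw, by rw [← h, pow_zero, pow_one]⟩
  | succ m ih =>
    apply ih
    apply (pf K).dvd_u (Subalgebra.pow_mem _ hz _)
    obtain ⟨w, hw, h⟩ := h
    exact ⟨w, hw, by rw [← h, ← pow_mul, pow_succ]⟩

/-- The functions in the ideal of `C`. -/
theorem mem_Cc (C : Cov (pf K) L κ) (i : Fin 3) (s : Γ(Y K L, UY K L i)) :
    s ∈ idY (Cc K L) i ↔ InI (pf K) L i (e K L i s) := by
  rw [Cc_ideal]
  constructor
  · rintro ⟨n, hn⟩
    obtain ⟨b, hb⟩ := Ideal.mem_span_singleton.1 hn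
    obtain ⟨a, ha, h1⟩ := e_mem C i s
    obtain ⟨c, hc, h2⟩ := e_mem C i b
    have h3 : a ^ n = (pf K).u i * ((pf K).u i * c) := by
      apply (algebraMap (E K) L).injective
      rw [map_pow, ← h1, map_mul, map_mul, ← h2, ← e_hh, ← pow_mul, mul_comm 2 n, pow_mul, ← map_pow, hb, map_mul]
      ring
    have h4 : ∃ w ∈ (pf K).A i, a ^ 2 ^ n = (pf K).u i * w := by
      refine ⟨((pf K).u i * c) * a ^ (2 ^ n - n), Subalgebra.mul_mem _ (Subalgebra.mul_mem _ ((pf K).u_mem i) hc)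
        (Subalgebra.pow_mem _ ha _), ?_⟩
      rw [← mul_assoc, ← h3, ← pow_add]
      congr 1
      have := Nat.lt_two_pow_self (n := n)
      omega
    obtain ⟨w, hw, h5⟩ := exists_mul_of_pow n ha h4
    exact ⟨w, hw, by rw [h1, h5]⟩
  · rintro ⟨r, hr, h⟩
    refine ⟨2, Ideal.mem_span_singleton.2 ?_⟩
    obtain ⟨b, rfl⟩ := exists_gm K hr
    refine ⟨pi L i b, e_injective K L i ?_⟩
    rw [map_pow, h, map_mul, map_mul, e_hh, e_pi]

/-- Sections of the ideal of `C` on the charts. -/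
theorem Cc_w (C : Cov (pf K) L κ) (i : Fin 3) (s : Γ(pF (ClSub.idealMod (Cc K L)), U K i)) :
    InI (pf K) L i ((RY (Cc K L)).w i s) := by
  obtain ⟨a, ha, h⟩ := RY_mem (Cc K L) i s
  rw [h]
  exact (mem_Cc C i a).1 ha

theorem InI.inB {i : Fin 3} {z : L} (hz : InI (pf K) L i z) : InB (pf K) L i z := by
  obtain ⟨s, hs, h⟩ := hz
  exact ⟨_, Subalgebra.mul_mem _ ((pf K).u_mem i) hs, h⟩

theorem Cc_exists (C : Cov (pf K) L κ) (i : Fin 3) {z : L} (hz : InI (pf K) L i z) :
    ∃ s, (RY (Cc K L)).w i s = z := by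
  obtain ⟨a, rfl⟩ := exists_e i (InI.inB hz)
  exact RY_exists (Cc K L) i ((mem_Cc C i a).2 hz)

/-- Sections of the ideal `H0` on the charts. -/
theorem H0_w (C : Cov (pf K) L κ) (i : Fin 3) (s : Γ(pF (ClSub.idealMod (H0 K L)), U K i)) :
    ∃ z, InB (pf K) L i z ∧ (RY (H0 K L)).w i s = algebraMap (E K) L ((pf K).u i) * z := by
  obtain ⟨a, ha, h⟩ := RY_mem (H0 K L) i s
  rw [H0_ideal, Ideal.mem_span_singleton] at ha
  obtain ⟨b, rfl⟩ := ha
  exact ⟨_, e_mem C i b, by rw [h, map_mul, e_hh]⟩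

theorem H0_exists (i : Fin 3) {z : L} (hz : InB (pf K) L i z) :
    ∃ s, (RY (H0 K L)).w i s = algebraMap (E K) L ((pf K).u i) * z := by
  obtain ⟨a, rfl⟩ := exists_e i hz
  have h : hh K L i * a ∈ idY (H0 K L) i := by
    rw [H0_ideal]
    exact Ideal.mem_span_singleton.2 ⟨a, rfl⟩
  obtain ⟨s, hs⟩ := RY_exists (H0 K L) i h
  exact ⟨s, by rw [hs, map_mul, e_hh]⟩

/-- Sections of the unit ideal on the charts. -/
theorem top_w (C : Cov (pf K) L κ) (i : Fin 3) (s : Γ(pF (ClSub.idealMod (⊤ : (Y K L).IdealSheafData)), U K i)) :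
    InB (pf K) L i ((RY (⊤ : (Y K L).IdealSheafData)).w i s) := by
  obtain ⟨a, -, h⟩ := RY_mem (⊤ : (Y K L).IdealSheafData) i s
  rw [h]
  exact e_mem C i a

theorem top_exists (i : Fin 3) {z : L} (hz : InB (pf K) L i z) :
    ∃ s, (RY (⊤ : (Y K L).IdealSheafData)).w i s = z := by
  obtain ⟨a, rfl⟩ := exists_e i hz
  exact RY_exists (⊤ : (Y K L).IdealSheafData) i trivial

theorem iSup_UY : ⨆ i, UY K L i = ⊤ := by
  rw [eq_top_iff]
  intro x _
  have h : p K L x ∈ ⨆ i, U K i := by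
    rw [iSup_U]
    trivial
  obtain ⟨i, hi⟩ := Opens.mem_iSup.1 h
  exact Opens.mem_iSup.2 ⟨i, hi⟩

theorem mul_mem_H0 (C : Cov (pf K) L κ) {i : Fin 3} {a b : Γ(Y K L, UY K L i)} (ha : a ∈ idY (Cc K L) i)
    (hb : b ∈ idY (Cc K L) i) : ∃ c, a * b = hh K L i * c := by
  obtain ⟨r, hr, h1⟩ := (mem_Cc C i a).1 ha
  obtain ⟨s, hs, h2⟩ := (mem_Cc C i b).1 hb
  have hu := (pf K).u_ne i
  have hu' : algebraMap (E K) L ((pf K).u i) ≠ 0 := by simpa using hu
  obtain ⟨c, hc⟩ := exists_e (K := K) (L := L) i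
    (z := e K L i a * e K L i b * (algebraMap (E K) L ((pf K).u i))⁻¹)
    ⟨r * s, Subalgebra.mul_mem _ hr hs, by
      rw [mul_pow, mul_pow, h1, h2, inv_pow, map_mul, map_mul, map_mul]
      field_simp⟩
  refine ⟨c, e_injective K L i ?_⟩
  rw [map_mul, map_mul, hc, e_hh]
  field_simp

theorem exists_uni (C : Cov (pf K) L κ) (i : Fin 3) : ∃ (n : ℕ) (a b : Fin n → Γ(Y K L, UY K L i)),
    (∀ j, a j ∈ idY (Cc K L) i) ∧ (∀ j, b j ∈ idY (Cc K L) i) ∧ ∑ j, a j * b j = hh K L i := by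
  obtain ⟨n, a, b, ha, hb, h⟩ := C.uni i
  choose a' ha' using fun j => exists_e (K := K) i (InI.inB (ha j))
  choose b' hb' using fun j => exists_e (K := K) i (InI.inB (hb j))
  refine ⟨n, a', b', fun j => (mem_Cc C i _).2 (ha' j ▸ ha j), fun j => (mem_Cc C i _).2 (hb' j ▸ hb j),
    e_injective K L i ?_⟩
  rw [map_sum, e_hh, ← h]
  exact Finset.sum_congr rfl fun j _ => by rw [map_mul, ha', hb']

theorem Cc_mul_Cc (C : Cov (pf K) L κ) : Cc K L * Cc K L = H0 K L := by
  refine Scheme.IdealSheafData.ext_of_iSup_eq_top (aY L) iSup_UY fun i => ?_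
  change idY (Cc K L) i * idY (Cc K L) i = idY (H0 K L) i
  apply le_antisymm
  · rw [Ideal.mul_le, H0_ideal]
    intro a ha b hb
    exact Ideal.mem_span_singleton.2 (mul_mem_H0 C ha hb)
  · rw [H0_ideal, Ideal.span_singleton_le_iff_mem]
    obtain ⟨n, a, b, ha, hb, h⟩ := exists_uni C i
    rw [← h]
    exact Ideal.sum_mem _ fun j _ => Ideal.mul_mem_mul (ha j) (hb j)

theorem isDomain_UY (i : Fin 3) : IsDomain Γ(Y K L, UY K L i) := (e_injective K L i).isDomain (e K L i)

theorem hh_ne (i : Fin 3) : hh K L i ≠ 0 := by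
  intro h
  have h1 := e_hh K L i
  rw [h, map_zero] at h1
  exact (pf K).u_ne i ((algebraMap (E K) L).injective (h1.symm.trans (map_zero _).symm))

theorem isEff_H0 : BlowUp.IsEffCartierIdeal (H0 K L) := by
  intro x
  obtain ⟨i, hi⟩ := Opens.mem_iSup.1 (show x ∈ ⨆ i, UY K L i from iSup_UY (K := K) (L := L) ▸ trivial)
  have := isDomain_UY (K := K) (L := L) i
  have h1 : hh K L i ∈ nonZeroDivisors Γ(Y K L, UY K L i) := mem_nonZeroDivisors_of_ne_zero (hh_ne i)
  exact ⟨aY L i, hi, hh K L i, h1, H0_ideal K L i⟩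

theorem isEff_Cc (C : Cov (pf K) L κ) : BlowUp.IsEffCartierIdeal (Cc K L) := by
  intro x
  obtain ⟨i, hi⟩ := Opens.mem_iSup.1 (show x ∈ ⨆ i, UY K L i from iSup_UY (K := K) (L := L) ▸ trivial)
  have hdom := isDomain_UY (K := K) (L := L) i
  obtain ⟨n, a, b, ha, hb, h⟩ := exists_uni C i
  choose c hc using fun j => mul_mem_H0 C (ha j) (hb j)
  have h1 : ∑ j, c j = 1 := by
    apply mul_left_cancel₀ (hh_ne (K := K) (L := L) i)
    rw [Finset.mul_sum, mul_one]
    exact (Finset.sum_congr rfl fun j _ => (hc j).symm).trans h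
  obtain ⟨j, hj⟩ : ∃ j, x ∈ (Y K L).basicOpen (c j) := by
    by_contra hne
    push Not at hne
    have h2 : ∀ j, (Y K L).presheaf.germ (UY K L i) x hi (c j) ∈
        IsLocalRing.maximalIdeal ((Y K L).presheaf.stalk x) := fun j => by
      rw [IsLocalRing.mem_maximalIdeal, mem_nonunits_iff]
      exact fun hu => hne j (((Y K L).mem_basicOpen _ x hi).2 hu)
    have h3 := Ideal.sum_mem _ fun j (_ : j ∈ Finset.univ) => h2 j
    have h4 : ∑ j, (Y K L).presheaf.germ (UY K L i) x hi (c j) = 1 := by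
      have h5 := congrArg ((Y K L).presheaf.germ (UY K L i) x hi).hom h1
      rw [map_sum, map_one] at h5
      exact h5
    rw [h4] at h3
    exact (Ideal.ne_top_iff_one _).1 (IsLocalRing.maximalIdeal.isMaximal _).ne_top h3
  have hle : (Y K L).basicOpen (c j) ≤ UY K L i := (Y K L).basicOpen_le _
  have haff : IsAffineOpen ((Y K L).basicOpen (c j)) := (isAffineOpen_UY i).basicOpen _
  have hne : Nonempty ((Y K L).basicOpen (c j)) := ⟨⟨x, hj⟩⟩
  have hu : IsUnit (resO hle (c j)) := Groth.Agent.LoccohA.HomDense.isUnit_resO (c j)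
  have ha0 : a j ≠ 0 := by
    intro h0
    have h2 := hc j
    rw [h0, zero_mul] at h2
    have h3 : c j = 0 := (mul_eq_zero.1 h2.symm).resolve_left (hh_ne i)
    have : Nontrivial Γ(Y K L, (Y K L).basicOpen (c j)) := inferInstance
    have h5 : resO hle (c j) = 0 := (congrArg (resO hle) h3).trans (map_zero _)
    exact hu.ne_zero h5
  have hinj : Function.Injective (resO hle : Γ(Y K L, UY K L i) →+* Γ(Y K L, (Y K L).basicOpen (c j))) :=
    map_injective_of_isIntegral (Y K L) (homOfLE hle)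
  refine ⟨⟨(Y K L).basicOpen (c j), haff⟩, hj, resO hle (a j), ?_, ?_⟩
  · apply mem_nonZeroDivisors_of_ne_zero
    intro h0
    exact ha0 (hinj (h0.trans (map_zero _).symm))
  · have h2 : (idY (Cc K L) i).map (resO hle : Γ(Y K L, UY K L i) →+* Γ(Y K L, (Y K L).basicOpen (c j))) =
        (Cc K L).ideal ⟨(Y K L).basicOpen (c j), haff⟩ :=
      (Cc K L).map_ideal (U := ⟨(Y K L).basicOpen (c j), haff⟩) (V := aY L i) hle
    rw [← h2]
    apply le_antisymm
    · rw [Ideal.map_le_iff_le_comap]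
      intro y hy
      rw [Ideal.mem_comap, Ideal.mem_span_singleton]
      obtain ⟨d, hd⟩ := mul_mem_H0 C hy (hb j)
      have h3 : y * c j = a j * d := by
        apply mul_left_cancel₀ (hh_ne (K := K) (L := L) i)
        linear_combination (-y) * hc j + a j * hd
      obtain ⟨v, hv⟩ := hu.exists_right_inv
      refine ⟨resO hle d * v, ?_⟩
      have h4 := congrArg (resO hle) h3
      rw [map_mul, map_mul] at h4
      linear_combination v * h4 - (resO hle y) * hv
    · rw [Ideal.span_singleton_le_iff_mem]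
      exact Ideal.mem_map_of_mem _ (ha j)

end cover

end K816.Ideals
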