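import Groth.Agent.Surf.K816.Geo
import Mathlib.Tactic.FieldSimp

/-!
# The frames `1, e, f, g` of the three charts

`L` a field over `E` with `α² = P`, `β² = R`.  `el i c = c₀ + c₁ e_i + c₂ f_i + c₃ g_i`.

* `el_sq`: `(el i c)² = q i c`; `mem_of_sq`; `el_inj`; `exists_frame`: change of frame.
-/

set_option autoImplicit false
set_option linter.unusedSimpArgs false
set_option linter.unusedSectionVars false

universe u

open MvPolynomial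

namespace K816.Lat

open K816.Alg K816.Fld K816.Geo

variable {K E L : Type u} [Field K] [Field E] [Algebra K E] [CharP E 2] [Field L] [Algebra E L]

/-- Square roots of `P` and `R`. -/
structure Rt (F : PF K E) (w : Par K) (L : Type u) [Field L] [Algebra E L] where
  α : L
  β : L
  hα : α ^ 2 = algebraMap E L (pp F w 0)
  hβ : β ^ 2 = algebraMap E L (rr F w 0)

variable (F : PF K E) (w : Par K) (ρ : Rt F w L)

/-- abbreviation -/
local notation "ι" => algebraMap E L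

section E

theorem pp1 : pp F w 1 = F.u 1 ^ 3 * pp F w 0 := by
  have h1 := F.ne 1
  simp only [pp, P1, F.u_eq, F.c11]
  field_simp
  ring

theorem rr1 : rr F w 1 = F.u 1 ^ 3 * (F.x 1 ^ 2 * rr F w 0 + F.x 2 ^ 2 * pp F w 0) := by
  have h1 := F.ne 1
  have two := two_eq_zero (E := E)
  simp only [pp, rr, R1, F.u_eq, F.c11]
  field_simp
  linear_combination (-F.x 1 ^ 3 * F.x 2 ^ 2) * two

theorem pp2 : pp F w 2 = F.u 2 ^ 3 * rr F w 0 := by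
  have h1 := F.ne 2
  simp only [pp, rr, P2, F.u_eq, F.c21]
  field_simp
  ring

theorem rr2 : rr F w 2 = F.u 2 ^ 3 * (F.x 1 ^ 2 * rr F w 0 + F.x 2 ^ 2 * pp F w 0) := by
  have h1 := F.ne 2
  have two := two_eq_zero (E := E)
  simp only [pp, rr, R2, F.u_eq, F.c21]
  field_simp
  linear_combination (-F.x 1 ^ 3 * F.x 2 ^ 2) * two

end E

variable {F w}

/-- `e` -/
noncomputable def e : Fin 3 → L
  | 0 => ρ.α
  | 1 => ι (F.u 1 ^ 2) * ρ.α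
  | 2 => ι (F.u 2 ^ 2) * ρ.β

/-- `f` -/
noncomputable def f : Fin 3 → L
  | 0 => ρ.β
  | 1 => ι (F.u 1 ^ 2) * (ι (F.x 1) * ρ.β + ι (F.x 2) * ρ.α)
  | 2 => ι (F.u 2 ^ 2) * (ι (F.x 1) * ρ.β + ι (F.x 2) * ρ.α)

/-- `g` -/
noncomputable def g (i : Fin 3) : L := ι (F.u i)⁻¹ * (e ρ i * f ρ i)

include ρ in
theorem two_L : (2 : L) = 0 := by
  rw [← map_ofNat (algebraMap E L) 2, two_eq_zero, map_zero]

theorem e_sq (i : Fin 3) : e ρ i ^ 2 = ι (F.u i * pp F w i) := by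
  fin_cases i
  · change ρ.α ^ 2 = ι (F.u 0 * pp F w 0)
    rw [ρ.hα, F.u_zero, one_mul]
  · change (ι (F.u 1 ^ 2) * ρ.α) ^ 2 = ι (F.u 1 * pp F w 1)
    rw [mul_pow, ρ.hα, pp1, ← map_pow, ← map_mul]
    congr 1
    ring
  · change (ι (F.u 2 ^ 2) * ρ.β) ^ 2 = ι (F.u 2 * pp F w 2)
    rw [mul_pow, ρ.hβ, pp2, ← map_pow, ← map_mul]
    congr 1
    ring

theorem fr_sq : (ι (F.x 1) * ρ.β + ι (F.x 2) * ρ.α) ^ 2 =
    ι (F.x 1 ^ 2 * rr F w 0 + F.x 2 ^ 2 * pp F w 0) := by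
  have two := two_L ρ
  rw [map_add, map_mul, map_mul, map_pow, map_pow, ← ρ.hα, ← ρ.hβ]
  linear_combination (ι (F.x 1) * ρ.β * (ι (F.x 2) * ρ.α)) * two

theorem f_sq (i : Fin 3) : f ρ i ^ 2 = ι (F.u i * rr F w i) := by
  fin_cases i
  · change ρ.β ^ 2 = ι (F.u 0 * rr F w 0)
    rw [ρ.hβ, F.u_zero, one_mul]
  · change (ι (F.u 1 ^ 2) * _) ^ 2 = ι (F.u 1 * rr F w 1)
    rw [mul_pow, fr_sq, rr1, ← map_pow, ← map_mul]
    congr 1
    ring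
  · change (ι (F.u 2 ^ 2) * _) ^ 2 = ι (F.u 2 * rr F w 2)
    rw [mul_pow, fr_sq, rr2, ← map_pow, ← map_mul]
    congr 1
    ring

theorem g_sq (i : Fin 3) : g ρ i ^ 2 = ι (pp F w i * rr F w i) := by
  have h := F.u_ne i
  rw [g, mul_pow, mul_pow, e_sq, f_sq, ← map_pow, ← map_mul, ← map_mul]
  congr 1
  field_simp

theorem e_mul_f (i : Fin 3) : e ρ i * f ρ i = ι (F.u i) * g ρ i := by
  rw [g, ← mul_assoc, ← map_mul, mul_inv_cancel₀ (F.u_ne i), map_one, one_mul]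

theorem e_mul_g (i : Fin 3) : e ρ i * g ρ i = ι (pp F w i) * f ρ i := by
  have h : ι (F.u i) ≠ 0 := by simpa using F.u_ne i
  apply mul_left_cancel₀ h
  linear_combination (-e ρ i) * e_mul_f ρ i + f ρ i * e_sq ρ i + f ρ i * (map_mul (algebraMap E L) (F.u i) (pp F w i))

theorem f_mul_g (i : Fin 3) : f ρ i * g ρ i = ι (rr F w i) * e ρ i := by
  have h : ι (F.u i) ≠ 0 := by simpa using F.u_ne i
  apply mul_left_cancel₀ h
  linear_combination (-f ρ i) * e_mul_f ρ i + e ρ i * f_sq ρ i + e ρ i * (map_mul (algebraMap E L) (F.u i) (rr F w i))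

/-- The element with given coordinates. -/
noncomputable def el (i : Fin 3) (c : Fin 4 → E) : L :=
  ι (c 0) + ι (c 1) * e ρ i + ι (c 2) * f ρ i + ι (c 3) * g ρ i

theorem el_sq (i : Fin 3) (c : Fin 4 → E) : el ρ i c ^ 2 = ι (q F w i c) := by
  have two := two_L ρ
  have h : el ρ i c ^ 2 = ι (c 0) ^ 2 + ι (c 1) ^ 2 * e ρ i ^ 2 + ι (c 2) ^ 2 * f ρ i ^ 2 + ι (c 3) ^ 2 * g ρ i ^ 2 := by
    rw [el]
    linear_combination (ι (c 0) * (ι (c 1) * e ρ i) + ι (c 0) * (ι (c 2) * f ρ i) + ι (c 0) * (ι (c 3) * g ρ i) +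
      (ι (c 1) * e ρ i) * (ι (c 2) * f ρ i) + (ι (c 1) * e ρ i) * (ι (c 3) * g ρ i) +
      (ι (c 2) * f ρ i) * (ι (c 3) * g ρ i)) * two
  rw [h, e_sq, f_sq, g_sq, q]
  simp only [map_add, map_mul, map_pow]

theorem el_add (i : Fin 3) (c d : Fin 4 → E) : el ρ i (c + d) = el ρ i c + el ρ i d := by
  simp only [el, Pi.add_apply, map_add]
  ring

theorem el_smul (i : Fin 3) (r : E) (c : Fin 4 → E) : el ρ i (r • c) = ι r * el ρ i c := by
  simp only [el, Pi.smul_apply, smul_eq_mul, map_mul]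
  ring

/-- Elements whose square lies in the chart ring have coordinates in the chart ring. -/
theorem mem_of_sq {i : Fin 3} {c : Fin 4 → E} {s : E} (hs : s ∈ F.A i) (h : el ρ i c ^ 2 = ι s) :
    ∀ k, c k ∈ F.A i := by
  rw [el_sq] at h
  have h' := (algebraMap E L).injective h
  exact mem_of_q F w (h' ▸ hs)

include ρ in
theorem el_inj {i : Fin 3} {c : Fin 4 → E} (h : el ρ i c = 0) : c = 0 := by
  by_contra hc
  obtain ⟨k, hk⟩ := Function.ne_iff.1 hc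
  change c k ≠ 0 at hk
  have hx : ∀ p : MvPolynomial (Fin 2) K, aeval (F.c i) p ≠ (F.c i 1)⁻¹ := by
    intro p hp
    have hne : F.c i 1 ≠ 0 := div_ne_zero (F.ne _) (F.ne _)
    have h1 : (X 1 : MvPolynomial (Fin 2) K) * p = 1 := F.inj i (by
      rw [map_mul, aeval_X, map_one]
      change F.c i 1 * aeval (F.c i) p = 1
      rw [hp, mul_inv_cancel₀ hne])
    exact (MvPolynomial.X_prime (R := K) (i := (1 : Fin 2))).not_isUnit (IsUnit.of_mul_eq_one _ h1)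
  have h2 : el ρ i (((F.c i 1)⁻¹ * (c k)⁻¹) • c) ^ 2 = ι 0 := by
    rw [el_smul, h, mul_zero, map_zero]
    ring
  obtain ⟨p, hp⟩ := mem_of_sq ρ (Subalgebra.zero_mem _) h2 k
  apply hx p
  change aeval (F.c i) p = (F.c i 1)⁻¹ * (c k)⁻¹ * c k at hp
  rw [hp, mul_assoc, inv_mul_cancel₀ hk, mul_one]

theorem el_eq_iff {i : Fin 3} {c d : Fin 4 → E} : el ρ i c = el ρ i d ↔ c = d := by
  constructor
  · intro h
    have h1 : el ρ i (c + (-1 : E) • d) = 0 := by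
      rw [el_add, el_smul, h, map_neg, map_one]
      ring
    have h2 := el_inj ρ h1
    have h3 : c - d = 0 := by
      rw [← h2]
      simp [sub_eq_add_neg]
    exact sub_eq_zero.1 h3
  · rintro rfl
    rfl

/-- Change of frame. -/
noncomputable def fr (d : Fin 4 → E) : Fin 3 → Fin 4 → E
  | 0 => d
  | 1 => ![d 0 + d 3 * (F.x 1 ^ 2 * F.x 2 * pp F w 1), d 1 * F.x 1 ^ 2 + d 2 * (F.x 1 * F.x 2), d 2 * F.x 1,
      d 3 * F.x 1 ^ 2]
  | 2 => ![d 0 + d 3 * (F.x 1 * F.x 2 ^ 2 * pp F w 2), d 1 * (F.x 1 * F.x 2) + d 2 * F.x 2 ^ 2, d 1 * F.x 2,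
      d 3 * F.x 2 ^ 2]

theorem el_fr (d : Fin 4 → E) (i : Fin 3) : el ρ i (fr (F := F) (w := w) d i) = el ρ 0 d := by
  have two := two_L ρ
  fin_cases i
  · rfl
  · have h1 : ι (F.u 1) * ι (F.x 1) = 1 := by rw [← map_mul, F.u_eq, inv_mul_cancel₀ (F.ne 1), map_one]
    have hne : ι (F.x 1) ≠ 0 := by simpa using F.ne 1
    have h2 : ι (F.u 1) = (ι (F.x 1))⁻¹ := eq_inv_of_mul_eq_one_left h1
    change ι (d 0 + d 3 * (F.x 1 ^ 2 * F.x 2 * pp F w 1)) + ι (d 1 * F.x 1 ^ 2 + d 2 * (F.x 1 * F.x 2)) *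
      (ι (F.u 1 ^ 2) * ρ.α) + ι (d 2 * F.x 1) * (ι (F.u 1 ^ 2) * (ι (F.x 1) * ρ.β + ι (F.x 2) * ρ.α)) +
      ι (d 3 * F.x 1 ^ 2) * (ι (F.u 1)⁻¹ * ((ι (F.u 1 ^ 2) * ρ.α) *
        (ι (F.u 1 ^ 2) * (ι (F.x 1) * ρ.β + ι (F.x 2) * ρ.α)))) =
      ι (d 0) + ι (d 1) * ρ.α + ι (d 2) * ρ.β + ι (d 3) * (ι (F.u 0)⁻¹ * (ρ.α * ρ.β))
    rw [pp1, F.u_zero, inv_one, map_one, one_mul]
    simp only [map_add, map_mul, map_pow, map_inv₀, ← ρ.hα]
    rw [h2]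
    field_simp
    linear_combination (ι (d 2) * ι (F.x 2) * ρ.α + ι (d 3) * ι (F.x 2) * ρ.α ^ 2) * two
  · have h1 : ι (F.u 2) * ι (F.x 2) = 1 := by rw [← map_mul, F.u_eq, inv_mul_cancel₀ (F.ne 2), map_one]
    have hne : ι (F.x 2) ≠ 0 := by simpa using F.ne 2
    have h2 : ι (F.u 2) = (ι (F.x 2))⁻¹ := eq_inv_of_mul_eq_one_left h1
    change ι (d 0 + d 3 * (F.x 1 * F.x 2 ^ 2 * pp F w 2)) + ι (d 1 * (F.x 1 * F.x 2) + d 2 * F.x 2 ^ 2) *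
      (ι (F.u 2 ^ 2) * ρ.β) + ι (d 1 * F.x 2) * (ι (F.u 2 ^ 2) * (ι (F.x 1) * ρ.β + ι (F.x 2) * ρ.α)) +
      ι (d 3 * F.x 2 ^ 2) * (ι (F.u 2)⁻¹ * ((ι (F.u 2 ^ 2) * ρ.β) *
        (ι (F.u 2 ^ 2) * (ι (F.x 1) * ρ.β + ι (F.x 2) * ρ.α)))) =
      ι (d 0) + ι (d 1) * ρ.α + ι (d 2) * ρ.β + ι (d 3) * (ι (F.u 0)⁻¹ * (ρ.α * ρ.β))
    rw [pp2, F.u_zero, inv_one, map_one, one_mul]
    simp only [map_add, map_mul, map_pow, map_inv₀, ← ρ.hβ]
    rw [h2]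
    field_simp
    linear_combination (ι (d 1) * ι (F.x 1) * ρ.β + ι (d 3) * ι (F.x 1) * ρ.β ^ 2) * two

end K816.Lat
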