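import Groth.Agent.Surf.K816.Amp
import Groth.Agent.Surf.K816.DualB
import Groth.Agent.Models.H57.GeoInt

/-!
# The surface of a cover: summary
-/

set_option autoImplicit false
set_option linter.unusedSectionVars false

universe u

open CategoryTheory CategoryTheory.Limits AlgebraicGeometry TopologicalSpace Opposite

namespace K816.Main

open K816.Geo K816.Plane K816.Real K816.Lat K816.Cov K816.Surface K816.Mods K816.Ideals K816.Ses K816.MidLat
open K816.SeqOne K816.Geom K816.Num K816.Amp K816.DualB Groth.Agent.Ega1.QCohLoc Groth.Agent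
open Groth.Agent.Dix.IdealModCartier Groth.Agent.Divis.EffCartier Groth.Agent.Grpsch.PicGrp

variable {K : Type u} [Field K] [CharP K 2] {L : Type u} [Field L] [Algebra (E K) L] {κ : Type} [Fintype κ]
  [DecidableEq κ] {m : ℤ}

theorem euler_Y (J : (Y K L).IdealSheafData) :
    Curv2.euler K (Y K L) (ClSub.idealMod J) = Curv2.euler K (S K) (pF (ClSub.idealMod J)) :=
  (VarietyB.HHPush.euler_push (p K L) K (show p K L ≫ (S K ↘ Spec (CommRingCat.of K)) =
    Y K L ↘ Spec (CommRingCat.of K) from rfl) (ClSub.idealMod J) (CohqA.IdealMod.isQCoh_idealMod J)).symm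

theorem iso_top : Nonempty (ClSub.idealMod (⊤ : (Y K L).IdealSheafData) ≅ Coh.structureModule (Y K L)) := by
  have h := K464.Base.ic_top (X := Y K L)
  rw [K464.Base.ic, mk_eq_one_iff] at h
  exact h

theorem euler_one (hn : Nums K L m) : Curv2.euler K (Y K L) (Coh.structureModule (Y K L)) = 0 := by
  obtain ⟨e⟩ := iso_top (K := K) (L := L)
  rw [← K464.Base.euler_congr K (Y K L) e, euler_Y, hn.e0]

theorem hh_two (hn : Nums K L m) : Subsingleton (Coh.HH (Y K L) (Coh.structureModule (Y K L)) 2) := by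
  obtain ⟨e⟩ := iso_top (K := K) (L := L)
  obtain ⟨c⟩ := VarietyB.HHPush.exists_linearEquiv (p K L) K (show p K L ≫ (S K ↘ Spec (CommRingCat.of K)) =
    Y K L ↘ Spec (CommRingCat.of K) from rfl) (ClSub.idealMod (⊤ : (Y K L).IdealSheafData))
    (CohqA.IdealMod.isQCoh_idealMod _) 2
  have h := hn.h2
  exact Fga.HShift.subsingleton_of_iso e 2 c.symm.toEquiv.subsingleton

theorem genus_eq (C : Cov (pf K) L κ) (hn : Nums K L m) (hΓ : IsIso (fY K L).appTop) : Curv2.genus K (Y K L) = 1 := by
  have := properY C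
  have h1 := Fga.IntAdd.eulerCharLE_eq K (Y K L) 2 (dim_Y (K := K) (L := L)).le (Coh.structureModule (Y K L))
  rw [euler_one hn, FGA.eulerCharLE] at h1
  have h2 := hh_two hn
  have h3 : Module.finrank K (Coh.HH (Y K L) (Coh.structureModule (Y K L)) 0) = 1 :=
    Models.H57.GeoInt.finrank_H0 K (Y K L) hΓ
  have h4 : Module.finrank K (Coh.HH (Y K L) (Coh.structureModule (Y K L)) 2) = 0 :=
    Module.finrank_zero_of_subsingleton
  rw [Finset.sum_range_succ, Finset.sum_range_succ, Finset.sum_range_one, h3, h4] at h1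
  rw [Curv2.genus]
  push_cast at h1
  have h5 : (Module.finrank K (Coh.HH (Y K L) (Coh.structureModule (Y K L)) 1) : ℤ) = 1 := by linarith
  exact_mod_cast h5

theorem intNum_eq (C : Cov (pf K) L κ) (hn : Nums K L m) :
    FGA.intNum K (Y K L) 2 ![om K L, om K L] (Coh.structureModule (Y K L)) = m := by
  have := properY C
  rw [K464.Base.intNum_two K (Y K L) (dim_Y (K := K) (L := L)).le, euler_one hn]
  have h1 : Curv2.euler K (Y K L) (om K L) = 0 := by rw [om, euler_Y, hn.e1]
  obtain ⟨e⟩ := idealMod_mul (isEff_Cc C) (isEff_Cc C)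
  have h2 : Curv2.euler K (Y K L) (CohB1.tensorMod (om K L) (om K L)) = m := by
    have h3 : Curv2.euler K (Y K L) (ClSub.idealMod (Cc K L * Cc K L)) = m := by
      rw [Cc_mul_Cc C, euler_Y, hn.e2]
    rw [← h3]
    exact K464.Base.euler_congr K (Y K L) e
  rw [h1, h2]
  ring

end K816.Main
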