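import Groth.Agent.Surf.K816.Cov

/-!
# The presentation of the lattices of the cover of degree 4

`lam : E⁵ → L`, `lam' : E → E⁵`; `Ul`, `NL`: lattices.
-/

set_option autoImplicit false
set_option linter.unusedSimpArgs false
set_option linter.unusedSectionVars false

universe u

open MvPolynomial

namespace K816.MidLat

open K816.Alg K816.Fld K816.Geo K816.Lat K816.Cov

variable {K E L : Type u} [Field K] [Field E] [Algebra K E] [CharP E 2] [Field L] [Algebra E L] {F : PF K E}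
  {w : Par K}

local notation "ι" => algebraMap E L

/-- `x ∈ u^n A` -/
def Ul (F : PF K E) (i : Fin 3) (n : ℕ) (x : E) : Prop := ∃ r ∈ F.A i, x = F.u i ^ n * r

theorem Ul.zero (F : PF K E) (i : Fin 3) (n : ℕ) : Ul F i n 0 := ⟨0, Subalgebra.zero_mem _, (mul_zero _).symm⟩

theorem Ul.add {i : Fin 3} {n : ℕ} {x y : E} (hx : Ul F i n x) (hy : Ul F i n y) : Ul F i n (x + y) := by
  obtain ⟨r, hr, rfl⟩ := hx
  obtain ⟨s, hs, rfl⟩ := hy
  exact ⟨r + s, Subalgebra.add_mem _ hr hs, (mul_add _ _ _).symm⟩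

theorem Ul.mul {i : Fin 3} {n : ℕ} {x y : E} (hx : Ul F i n x) (hy : y ∈ F.A i) : Ul F i n (x * y) := by
  obtain ⟨r, hr, rfl⟩ := hx
  exact ⟨r * y, Subalgebra.mul_mem _ hr hy, mul_assoc _ _ _⟩

theorem Ul.mono {i : Fin 3} {m n : ℕ} {x : E} (hx : Ul F i n x) (h : m ≤ n) : Ul F i m x := by
  obtain ⟨r, hr, rfl⟩ := hx
  obtain ⟨l, rfl⟩ := Nat.exists_eq_add_of_le h
  exact ⟨F.u i ^ l * r, Subalgebra.mul_mem _ (Subalgebra.pow_mem _ (F.u_mem i) _) hr, by rw [pow_add]; ring⟩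

theorem Ul.u_mul {i : Fin 3} {m n : ℕ} {x y : E} (hx : Ul F i n x) (hy : y = F.u i ^ m * x) : Ul F i (m + n) y := by
  obtain ⟨r, hr, rfl⟩ := hx
  exact ⟨r, hr, by rw [hy, pow_add]; ring⟩

theorem Ul.of_mul {i : Fin 3} {m n : ℕ} {x y : E} (hx : Ul F i (m + n) x) (hy : x = F.u i ^ m * y) : Ul F i n y := by
  obtain ⟨r, hr, rfl⟩ := hx
  refine ⟨r, hr, mul_left_cancel₀ (pow_ne_zero m (F.u_ne i)) ?_⟩
  rw [← hy, pow_add]
  ring

theorem ul_zero {i : Fin 3} {x : E} : Ul F i 0 x ↔ x ∈ F.A i :=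
  ⟨by rintro ⟨r, hr, rfl⟩; rwa [pow_zero, one_mul], fun h => ⟨x, h, by rw [pow_zero, one_mul]⟩⟩

theorem ul_chart0 {n : ℕ} {x : E} : Ul F 0 n x ↔ x ∈ F.A 0 :=
  ⟨by rintro ⟨r, hr, rfl⟩; rwa [F.u_zero, one_pow, one_mul], fun h => ⟨x, h, by rw [F.u_zero, one_pow, one_mul]⟩⟩

/-- The lattices in `L`. -/
def NL (ρ : Rt F w L) (a b c : ℕ) (i : Fin 3) (z : L) : Prop :=
  ∃ d : Fin 4 → E, z = el ρ i d ∧ Ul F i a (d 0) ∧ Ul F i c (d 1) ∧ Ul F i c (d 2) ∧ Ul F i b (d 3)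

/-- The lattices in `E⁵`. -/
def ML (F : PF K E) (a b c : ℕ) (i : Fin 3) (x : E × (E × (E × (E × E)))) : Prop :=
  Ul F i a x.1 ∧ Ul F i (2 + c) x.2.1 ∧ Ul F i (2 + c) x.2.2.1 ∧ Ul F i (2 + c) x.2.2.2.1 ∧ Ul F i (2 + b) x.2.2.2.2

variable (ρ : Rt F w L)

/-- The presentation. -/
noncomputable def lam : (E × (E × (E × (E × E)))) →ₗ[E] L where
  toFun x := ι x.1 + ι x.2.1 * ρ.α + ι x.2.2.1 * ρ.β + ι x.2.2.2.1 * (ι (F.x 1) * ρ.β + ι (F.x 2) * ρ.α) +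
    ι x.2.2.2.2 * (ρ.α * ρ.β + ι (F.x 1 ^ 2 * F.x 2))
  map_add' x y := by
    simp only [Prod.fst_add, Prod.snd_add, map_add]
    ring
  map_smul' r x := by
    have h : ∀ z : L, r • z = ι r * z := fun z => Algebra.smul_def r z
    rw [RingHom.id_apply, h]
    simp only [Prod.smul_fst, Prod.smul_snd, smul_eq_mul, map_mul]
    ring

/-- The relation. -/
noncomputable def lam' (F : PF K E) : E →ₗ[E] (E × (E × (E × (E × E)))) where
  toFun x := (0, (F.x 2 * x, (F.x 1 * x, (x, 0))))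
  map_add' x y := by
    simp only [mul_add, Prod.mk_add_mk, add_zero]
  map_smul' r x := by
    simp only [smul_eq_mul, RingHom.id_apply, Prod.smul_mk, mul_zero, mul_left_comm]

/-- The coordinates in the frame of the chart `0`. -/
noncomputable def dd (F : PF K E) (x : E × (E × (E × (E × E)))) : Fin 4 → E :=
  ![x.1 + x.2.2.2.2 * (F.x 1 ^ 2 * F.x 2), x.2.1 + F.x 2 * x.2.2.2.1, x.2.2.1 + F.x 1 * x.2.2.2.1, x.2.2.2.2]

theorem lam_eq (x : E × (E × (E × (E × E)))) : lam ρ x = el ρ 0 (dd F x) := by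
  change ι x.1 + ι x.2.1 * ρ.α + ι x.2.2.1 * ρ.β + ι x.2.2.2.1 * (ι (F.x 1) * ρ.β + ι (F.x 2) * ρ.α) +
    ι x.2.2.2.2 * (ρ.α * ρ.β + ι (F.x 1 ^ 2 * F.x 2)) =
    ι (x.1 + x.2.2.2.2 * (F.x 1 ^ 2 * F.x 2)) + ι (x.2.1 + F.x 2 * x.2.2.2.1) * ρ.α +
      ι (x.2.2.1 + F.x 1 * x.2.2.2.1) * ρ.β + ι (x.2.2.2.2) * (ι (F.u 0)⁻¹ * (ρ.α * ρ.β))
  rw [F.u_zero, inv_one, map_one, one_mul]
  simp only [map_add, map_mul]
  ring

theorem lam_eq' (x : E × (E × (E × (E × E)))) (i : Fin 3) : lam ρ x = el ρ i (fr (F := F) (w := w) (dd F x) i) := by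
  rw [el_fr, lam_eq]

theorem lam_lam' (x : E) : lam ρ (lam' F x) = 0 := by
  have two := two_L ρ
  change ι 0 + ι (F.x 2 * x) * ρ.α + ι (F.x 1 * x) * ρ.β + ι x * (ι (F.x 1) * ρ.β + ι (F.x 2) * ρ.α) +
    ι 0 * (ρ.α * ρ.β + ι (F.x 1 ^ 2 * F.x 2)) = 0
  simp only [map_zero, map_mul]
  linear_combination (ι (F.x 2) * ι x * ρ.α + ι (F.x 1) * ι x * ρ.β) * two

theorem lam'_injective : Function.Injective (lam' F) := by
  intro x y h
  exact congrArg (fun t : E × (E × (E × (E × E))) => t.2.2.2.1) h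

/-- The relation respects the lattices. -/
theorem lam'_mem {a b c : ℕ} {i : Fin 3} {x : E} (hx : Ul F i (3 + c) x) : ML F a b c i (lam' F x) := by
  obtain ⟨r, hr, rfl⟩ := hx
  have key : ∀ j : Fin 3, Ul F i (2 + c) (F.x j * (F.u i ^ (3 + c) * r)) := fun j => by
    refine ⟨F.x j / F.x i * r, Subalgebra.mul_mem _ (F.ratio_mem i j) hr, ?_⟩
    rw [show 3 + c = (2 + c) + 1 by ring, pow_succ, F.u_eq]
    ring
  refine ⟨Ul.zero _ _ _, key 2, key 1, ?_, Ul.zero _ _ _⟩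
  have := key 0
  rwa [F.x0, one_mul] at this

/-- Exactness. -/
theorem exists_lam' {a b c : ℕ} {i : Fin 3} {x : E × (E × (E × (E × E)))} (hx : ML F a b c i x) (h : lam ρ x = 0) :
    ∃ y, Ul F i (3 + c) y ∧ lam' F y = x := by
  rw [lam_eq] at h
  have h1 := el_inj ρ h
  have e0 : x.1 + x.2.2.2.2 * (F.x 1 ^ 2 * F.x 2) = 0 := congrFun h1 0
  have e1 : x.2.1 + F.x 2 * x.2.2.2.1 = 0 := congrFun h1 1
  have e2 : x.2.2.1 + F.x 1 * x.2.2.2.1 = 0 := congrFun h1 2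
  have e3 : x.2.2.2.2 = 0 := congrFun h1 3
  have two := two_eq_zero (E := E)
  have f1 : x.2.1 = F.x 2 * x.2.2.2.1 := by linear_combination e1 - F.x 2 * x.2.2.2.1 * two
  have f2 : x.2.2.1 = F.x 1 * x.2.2.2.1 := by linear_combination e2 - F.x 1 * x.2.2.2.1 * two
  have f0 : x.1 = 0 := by rw [e3, zero_mul, add_zero] at e0; exact e0
  refine ⟨x.2.2.2.1, ?_, ?_⟩
  · have key : ∀ j : Fin 3, Ul F j (2 + c) (F.x j * x.2.2.2.1) → Ul F j (3 + c) x.2.2.2.1 := fun j hj => by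
      rw [show 3 + c = 1 + (2 + c) by ring]
      refine hj.u_mul ?_
      rw [pow_one, F.u_eq, inv_mul_cancel_left₀ (F.ne j)]
    obtain ⟨-, h4, h5, h6, -⟩ := hx
    fin_cases i
    · apply key 0
      rw [F.x0, one_mul]
      exact h6
    · apply key 1
      rw [← f2]
      exact h5
    · apply key 2
      rw [← f1]
      exact h4
  · change ((0 : E), (F.x 2 * x.2.2.2.1, (F.x 1 * x.2.2.2.1, (x.2.2.2.1, (0 : E))))) = x
    rw [← f1, ← f2]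
    exact Prod.ext f0.symm (Prod.ext rfl (Prod.ext rfl (Prod.ext rfl e3.symm)))

/-- The presentation respects the lattices. -/
theorem lam_mem {a b c : ℕ} (hab : a ≤ b + 1) {i : Fin 3} {x : E × (E × (E × (E × E)))} (hx : ML F a b c i x) :
    NL ρ a b c i (lam ρ x) := by
  obtain ⟨h0, h1, h2, h3, h4⟩ := hx
  refine ⟨_, lam_eq' ρ x i, ?_⟩
  have two := two_eq_zero (E := E)
  have n1 := F.ne 1
  have n2 := F.ne 2
  fin_cases i
  · change Ul F 0 a (x.1 + x.2.2.2.2 * (F.x 1 ^ 2 * F.x 2)) ∧ Ul F 0 c (x.2.1 + F.x 2 * x.2.2.2.1) ∧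
      Ul F 0 c (x.2.2.1 + F.x 1 * x.2.2.2.1) ∧ Ul F 0 b x.2.2.2.2
    rw [ul_chart0, ul_chart0, ul_chart0, ul_chart0]
    change Ul F 0 a x.1 at h0
    change Ul F 0 (2 + c) x.2.1 at h1
    change Ul F 0 (2 + c) x.2.2.1 at h2
    change Ul F 0 (2 + c) x.2.2.2.1 at h3
    change Ul F 0 (2 + b) x.2.2.2.2 at h4
    rw [ul_chart0] at h0 h1 h2 h3 h4
    have hX := x1_mem F
    have hY := x2_mem F
    refine ⟨?_, ?_, ?_, h4⟩ <;>
    repeat' first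
      | assumption
      | apply Subalgebra.add_mem
      | apply Subalgebra.mul_mem
      | apply Subalgebra.pow_mem
  · change Ul F 1 a (x.1 + x.2.2.2.2 * (F.x 1 ^ 2 * F.x 2) + x.2.2.2.2 * (F.x 1 ^ 2 * F.x 2 * pp F w 1)) ∧
      Ul F 1 c ((x.2.1 + F.x 2 * x.2.2.2.1) * F.x 1 ^ 2 + (x.2.2.1 + F.x 1 * x.2.2.2.1) * (F.x 1 * F.x 2)) ∧
      Ul F 1 c ((x.2.2.1 + F.x 1 * x.2.2.2.1) * F.x 1) ∧ Ul F 1 b (x.2.2.2.2 * F.x 1 ^ 2)
    change Ul F 1 a x.1 at h0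
    change Ul F 1 (2 + c) x.2.1 at h1
    change Ul F 1 (2 + c) x.2.2.1 at h2
    change Ul F 1 (2 + c) x.2.2.2.1 at h3
    change Ul F 1 (2 + b) x.2.2.2.2 at h4
    have hu : F.u 1 = (F.x 1)⁻¹ := F.u_eq 1
    have hv : F.c 1 1 ∈ F.A 1 := F.c_mem 1 1
    have hv' : F.c 1 1 = F.x 2 / F.x 1 := rfl
    have hum := F.u_mem 1
    have ha := aE_mem F w 1 1
    have hpp : pp F w 1 = 1 + aE w 1 * F.u 1 ^ 3 + F.u 1 ^ 2 * F.c 1 1 := rfl
    refine ⟨?_, ?_, ?_, ?_⟩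
    · have e1 : x.1 + x.2.2.2.2 * (F.x 1 ^ 2 * F.x 2) + x.2.2.2.2 * (F.x 1 ^ 2 * F.x 2 * pp F w 1) =
          x.1 + (F.x 1 ^ 2 * x.2.2.2.2) * F.u 1 * (F.c 1 1 * (aE w 1 * F.u 1 + F.c 1 1)) := by
        rw [hpp, hu, hv']
        field_simp
        linear_combination (F.x 1 ^ 3 * x.2.2.2.2 * F.x 2) * two
      rw [e1]
      refine h0.add (Ul.mul ?_ (Subalgebra.mul_mem _ hv (Subalgebra.add_mem _ (Subalgebra.mul_mem _ ha hum) hv)))
      have h5 : Ul F 1 b (F.x 1 ^ 2 * x.2.2.2.2) := h4.of_mul (by rw [hu]; field_simp)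
      exact (h5.u_mul (m := 1) (by ring)).mono (by omega)
    · have e1 : (x.2.1 + F.x 2 * x.2.2.2.1) * F.x 1 ^ 2 + (x.2.2.1 + F.x 1 * x.2.2.2.1) * (F.x 1 * F.x 2) =
          F.x 1 ^ 2 * x.2.1 + (F.x 1 ^ 2 * x.2.2.1) * F.c 1 1 := by
        rw [hv']
        field_simp
        linear_combination (F.x 1 * x.2.2.2.1 * F.x 2) * two
      rw [e1]
      exact (h1.of_mul (by rw [hu]; field_simp)).add ((h2.of_mul (by rw [hu]; field_simp)).mul hv)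
    · have e1 : (x.2.2.1 + F.x 1 * x.2.2.2.1) * F.x 1 =
          (F.x 1 ^ 2 * x.2.2.1) * F.u 1 + F.x 1 ^ 2 * x.2.2.2.1 := by
        rw [hu]
        field_simp
      rw [e1]
      exact ((h2.of_mul (by rw [hu]; field_simp)).mul hum).add (h3.of_mul (by rw [hu]; field_simp))
    · exact h4.of_mul (by rw [hu]; field_simp)
  · change Ul F 2 a (x.1 + x.2.2.2.2 * (F.x 1 ^ 2 * F.x 2) + x.2.2.2.2 * (F.x 1 * F.x 2 ^ 2 * pp F w 2)) ∧
      Ul F 2 c ((x.2.1 + F.x 2 * x.2.2.2.1) * (F.x 1 * F.x 2) + (x.2.2.1 + F.x 1 * x.2.2.2.1) * F.x 2 ^ 2) ∧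
      Ul F 2 c ((x.2.1 + F.x 2 * x.2.2.2.1) * F.x 2) ∧ Ul F 2 b (x.2.2.2.2 * F.x 2 ^ 2)
    change Ul F 2 a x.1 at h0
    change Ul F 2 (2 + c) x.2.1 at h1
    change Ul F 2 (2 + c) x.2.2.1 at h2
    change Ul F 2 (2 + c) x.2.2.2.1 at h3
    change Ul F 2 (2 + b) x.2.2.2.2 at h4
    have hu : F.u 2 = (F.x 2)⁻¹ := F.u_eq 2
    have hv : F.c 2 1 ∈ F.A 2 := F.c_mem 2 1
    have hv' : F.c 2 1 = F.x 1 / F.x 2 := rfl
    have hum := F.u_mem 2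
    have ha := aE_mem F w 2 2
    have ha3 := aE_mem F w 3 2
    have hpp : pp F w 2 = F.c 2 1 + aE w 2 * F.u 2 ^ 3 + aE w 3 * (F.u 2 ^ 2 * F.c 2 1) := rfl
    refine ⟨?_, ?_, ?_, ?_⟩
    · have e1 : x.1 + x.2.2.2.2 * (F.x 1 ^ 2 * F.x 2) + x.2.2.2.2 * (F.x 1 * F.x 2 ^ 2 * pp F w 2) =
          x.1 + (F.x 2 ^ 2 * x.2.2.2.2) * F.u 2 * (F.c 2 1 * (aE w 2 * F.u 2 + aE w 3 * F.c 2 1)) := by
        rw [hpp, hu, hv']
        field_simp
        linear_combination (F.x 1 ^ 2 * x.2.2.2.2 * F.x 2 ^ 2) * two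
      rw [e1]
      refine h0.add (Ul.mul ?_ (Subalgebra.mul_mem _ hv (Subalgebra.add_mem _ (Subalgebra.mul_mem _ ha hum)
        (Subalgebra.mul_mem _ ha3 hv))))
      have h5 : Ul F 2 b (F.x 2 ^ 2 * x.2.2.2.2) := h4.of_mul (by rw [hu]; field_simp)
      exact (h5.u_mul (m := 1) (by ring)).mono (by omega)
    · have e1 : (x.2.1 + F.x 2 * x.2.2.2.1) * (F.x 1 * F.x 2) + (x.2.2.1 + F.x 1 * x.2.2.2.1) * F.x 2 ^ 2 =
          (F.x 2 ^ 2 * x.2.1) * F.c 2 1 + F.x 2 ^ 2 * x.2.2.1 := by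
        rw [hv']
        field_simp
        linear_combination (F.x 1 * x.2.2.2.1 * F.x 2) * two
      rw [e1]
      exact ((h1.of_mul (by rw [hu]; field_simp)).mul hv).add (h2.of_mul (by rw [hu]; field_simp))
    · have e1 : (x.2.1 + F.x 2 * x.2.2.2.1) * F.x 2 =
          (F.x 2 ^ 2 * x.2.1) * F.u 2 + F.x 2 ^ 2 * x.2.2.2.1 := by
        rw [hu]
        field_simp
      rw [e1]
      exact ((h1.of_mul (by rw [hu]; field_simp)).mul hum).add (h3.of_mul (by rw [hu]; field_simp))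
    · exact h4.of_mul (by rw [hu]; field_simp)

/-- The presentation is surjective on the lattices. -/
theorem exists_lam {a b c : ℕ} (hab : a ≤ b + 1) {i : Fin 3} {z : L} (hz : NL ρ a b c i z) :
    ∃ x, ML F a b c i x ∧ lam ρ x = z := by
  obtain ⟨d, rfl, h0, h1, h2, h3⟩ := hz
  have two := two_eq_zero (E := E)
  have n1 := F.ne 1
  have n2 := F.ne 2
  fin_cases i
  · change Ul F 0 a (d 0) at h0
    change Ul F 0 c (d 1) at h1
    change Ul F 0 c (d 2) at h2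
    change Ul F 0 b (d 3) at h3
    rw [ul_chart0] at h0 h1 h2 h3
    have hX := x1_mem F
    have hY := x2_mem F
    refine ⟨(d 0 + d 3 * (F.x 1 ^ 2 * F.x 2), (d 1, (d 2, (0, d 3)))), ?_, ?_⟩
    · change Ul F 0 a (d 0 + d 3 * (F.x 1 ^ 2 * F.x 2)) ∧ Ul F 0 (2 + c) (d 1) ∧ Ul F 0 (2 + c) (d 2) ∧
        Ul F 0 (2 + c) 0 ∧ Ul F 0 (2 + b) (d 3)
      rw [ul_chart0, ul_chart0, ul_chart0, ul_chart0, ul_chart0]
      refine ⟨?_, h1, h2, Subalgebra.zero_mem _, h3⟩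
      repeat' first
        | assumption
        | apply Subalgebra.add_mem
        | apply Subalgebra.mul_mem
        | apply Subalgebra.pow_mem
    · rw [lam_eq]
      congr 1
      funext k
      fin_cases k
      · change d 0 + d 3 * (F.x 1 ^ 2 * F.x 2) + d 3 * (F.x 1 ^ 2 * F.x 2) = d 0
        linear_combination (d 3 * (F.x 1 ^ 2 * F.x 2)) * two
      · change d 1 + F.x 2 * 0 = d 1
        ring
      · change d 2 + F.x 1 * 0 = d 2
        ring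
      · rfl
  · change Ul F 1 a (d 0) at h0
    change Ul F 1 c (d 1) at h1
    change Ul F 1 c (d 2) at h2
    change Ul F 1 b (d 3) at h3
    have hu : F.u 1 = (F.x 1)⁻¹ := F.u_eq 1
    have hv : F.c 1 1 ∈ F.A 1 := F.c_mem 1 1
    have hv' : F.c 1 1 = F.x 2 / F.x 1 := rfl
    have hum := F.u_mem 1
    have ha := aE_mem F w 1 1
    have hpp : pp F w 1 = 1 + aE w 1 * F.u 1 ^ 3 + F.u 1 ^ 2 * F.c 1 1 := rfl
    refine ⟨(d 0 + d 3 * F.u 1 * (F.c 1 1 * (aE w 1 * F.u 1 + F.c 1 1)),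
      (F.u 1 ^ 2 * d 1, (0, (F.u 1 ^ 2 * d 2, F.u 1 ^ 2 * d 3)))), ?_, ?_⟩
    · refine ⟨h0.add (Ul.mul ((h3.u_mul (m := 1) (by ring)).mono (by omega))
        (Subalgebra.mul_mem _ hv (Subalgebra.add_mem _ (Subalgebra.mul_mem _ ha hum) hv))),
        h1.u_mul rfl, Ul.zero _ _ _, h2.u_mul rfl, h3.u_mul rfl⟩
    · rw [lam_eq' ρ _ 1]
      congr 1
      funext k
      fin_cases k
      · change d 0 + d 3 * F.u 1 * (F.c 1 1 * (aE w 1 * F.u 1 + F.c 1 1)) + F.u 1 ^ 2 * d 3 * (F.x 1 ^ 2 * F.x 2) +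
          F.u 1 ^ 2 * d 3 * (F.x 1 ^ 2 * F.x 2 * pp F w 1) = d 0
        rw [hpp, hu, hv']
        field_simp
        linear_combination (d 3 * F.x 2 * (F.x 1 ^ 3 + aE w 1 + F.x 2)) * two
      · change (F.u 1 ^ 2 * d 1 + F.x 2 * (F.u 1 ^ 2 * d 2)) * F.x 1 ^ 2 +
          (0 + F.x 1 * (F.u 1 ^ 2 * d 2)) * (F.x 1 * F.x 2) = d 1
        rw [hu]
        field_simp
        linear_combination (F.x 2 * d 2) * two
      · change (0 + F.x 1 * (F.u 1 ^ 2 * d 2)) * F.x 1 = d 2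
        rw [hu]
        field_simp
        ring
      · change F.u 1 ^ 2 * d 3 * F.x 1 ^ 2 = d 3
        rw [hu]
        field_simp
  · change Ul F 2 a (d 0) at h0
    change Ul F 2 c (d 1) at h1
    change Ul F 2 c (d 2) at h2
    change Ul F 2 b (d 3) at h3
    have hu : F.u 2 = (F.x 2)⁻¹ := F.u_eq 2
    have hv : F.c 2 1 ∈ F.A 2 := F.c_mem 2 1
    have hv' : F.c 2 1 = F.x 1 / F.x 2 := rfl
    have hum := F.u_mem 2
    have ha := aE_mem F w 2 2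
    have ha3 := aE_mem F w 3 2
    have hpp : pp F w 2 = F.c 2 1 + aE w 2 * F.u 2 ^ 3 + aE w 3 * (F.u 2 ^ 2 * F.c 2 1) := rfl
    refine ⟨(d 0 + d 3 * F.u 2 * (F.c 2 1 * (aE w 2 * F.u 2 + aE w 3 * F.c 2 1)),
      (0, (F.u 2 ^ 2 * d 1, (F.u 2 ^ 2 * d 2, F.u 2 ^ 2 * d 3)))), ?_, ?_⟩
    · refine ⟨h0.add (Ul.mul ((h3.u_mul (m := 1) (by ring)).mono (by omega))
        (Subalgebra.mul_mem _ hv (Subalgebra.add_mem _ (Subalgebra.mul_mem _ ha hum) (Subalgebra.mul_mem _ ha3 hv)))),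
        Ul.zero _ _ _, h1.u_mul rfl, h2.u_mul rfl, h3.u_mul rfl⟩
    · rw [lam_eq' ρ _ 2]
      congr 1
      funext k
      fin_cases k
      · change d 0 + d 3 * F.u 2 * (F.c 2 1 * (aE w 2 * F.u 2 + aE w 3 * F.c 2 1)) +
          F.u 2 ^ 2 * d 3 * (F.x 1 ^ 2 * F.x 2) +
          F.u 2 ^ 2 * d 3 * (F.x 1 * F.x 2 ^ 2 * pp F w 2) = d 0
        rw [hpp, hu, hv']
        field_simp
        linear_combination (d 3 * F.x 1 * (aE w 2 + aE w 3 * F.x 1 + F.x 1 * F.x 2 ^ 2)) * two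
      · change (0 + F.x 2 * (F.u 2 ^ 2 * d 2)) * (F.x 1 * F.x 2) +
          (F.u 2 ^ 2 * d 1 + F.x 1 * (F.u 2 ^ 2 * d 2)) * F.x 2 ^ 2 = d 1
        rw [hu]
        field_simp
        linear_combination (F.x 1 * d 2) * two
      · change (0 + F.x 2 * (F.u 2 ^ 2 * d 2)) * F.x 2 = d 2
        rw [hu]
        field_simp
        ring
      · change F.u 2 ^ 2 * d 3 * F.x 2 ^ 2 = d 3
        rw [hu]
        field_simp

variable (hsp : ∀ x : L, ∃ d, x = el ρ 0 d)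

include hsp

theorem inB_iff {i : Fin 3} {z : L} : InB F L i z ↔ NL ρ 0 0 0 i z := by
  constructor
  · rintro ⟨s, hs, h⟩
    obtain ⟨d, rfl⟩ := exists_el ρ hsp i z
    have h1 := mem_of_sq ρ hs h
    exact ⟨d, rfl, ul_zero.2 (h1 0), ul_zero.2 (h1 1), ul_zero.2 (h1 2), ul_zero.2 (h1 3)⟩
  · rintro ⟨d, rfl, h0, h1, h2, h3⟩
    rw [ul_zero] at h0 h1 h2 h3
    exact ⟨_, q_mem F w (c := d) (fun k => by fin_cases k <;> assumption), el_sq ρ i d⟩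

theorem inI_iff {i : Fin 3} {z : L} : InI F L i z ↔ NL ρ 1 1 0 i z := by
  constructor
  · rintro ⟨s, hs, h⟩
    obtain ⟨d, rfl⟩ := exists_el ρ hsp i z
    have h1 := mem_of_sq ρ (Subalgebra.mul_mem _ (F.u_mem i) hs) h
    rw [el_sq] at h
    obtain ⟨⟨r, hr, h2⟩, r', hr', h3⟩ := dvd_of_q h1 hs ((algebraMap E L).injective h)
    exact ⟨d, rfl, ⟨r, hr, by rw [h2, pow_one]⟩, ul_zero.2 (h1 1), ul_zero.2 (h1 2), ⟨r', hr', by rw [h3, pow_one]⟩⟩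
  · rintro ⟨d, rfl, ⟨r, hr, h0⟩, h1, h2, ⟨r', hr', h3⟩⟩
    rw [ul_zero] at h1 h2
    rw [pow_one] at h0 h3
    have hP := pp_mem F w i
    have hR := rr_mem F w i
    have hum := F.u_mem i
    refine ⟨F.u i * r ^ 2 + d 1 ^ 2 * pp F w i + d 2 ^ 2 * rr F w i + F.u i * r' ^ 2 * (pp F w i * rr F w i), ?_, ?_⟩
    · repeat' first
        | assumption
        | apply Subalgebra.add_mem
        | apply Subalgebra.mul_mem
        | apply Subalgebra.pow_mem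
    · rw [el_sq, q, h0, h3]
      congr 1
      ring

theorem inU_iff {i : Fin 3} {z : L} : (∃ y, InB F L i y ∧ z = ι (F.u i) * y) ↔ NL ρ 1 1 1 i z := by
  constructor
  · rintro ⟨y, hy, rfl⟩
    obtain ⟨d, rfl, h0, h1, h2, h3⟩ := (inB_iff ρ hsp).1 hy
    refine ⟨F.u i • d, (el_smul ρ i _ _).symm, h0.u_mul (m := 1) ?_, h1.u_mul (m := 1) ?_, h2.u_mul (m := 1) ?_,
      h3.u_mul (m := 1) ?_⟩ <;>
    · rw [pow_one]
      rfl
  · rintro ⟨d, rfl, h0, h1, h2, h3⟩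
    refine ⟨el ρ i ((F.u i)⁻¹ • d), (inB_iff ρ hsp).2 ⟨_, rfl, ?_, ?_, ?_, ?_⟩, ?_⟩
    · exact Ul.of_mul (m := 1) h0 (by
        rw [pow_one]
        exact (mul_inv_cancel_left₀ (F.u_ne i) _).symm)
    · exact Ul.of_mul (m := 1) h1 (by
        rw [pow_one]
        exact (mul_inv_cancel_left₀ (F.u_ne i) _).symm)
    · exact Ul.of_mul (m := 1) h2 (by
        rw [pow_one]
        exact (mul_inv_cancel_left₀ (F.u_ne i) _).symm)
    · exact Ul.of_mul (m := 1) h3 (by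
        rw [pow_one]
        exact (mul_inv_cancel_left₀ (F.u_ne i) _).symm)
    · rw [← el_smul, smul_smul, mul_inv_cancel₀ (F.u_ne i), one_smul]

end K816.MidLat
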