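import Groth.Agent.Surf.K816.Surface
import Groth.Agent.Dix.IdealModCartier
import Groth.Agent.Lefpen.H121.CurveForm
import Groth.Agent.Sga2lef.H503.PushIt

/-!
# Ideals on the plane and on the cover, realized in `E` and `L`

`RS J : Real (idealMod J) E`, `RY J : Real (p_* (idealMod J)) L`, `exS`, `exY`: the lattices.
`ic d`: the ideal of `x_0^d`.
-/

set_option autoImplicit false
set_option linter.unusedSectionVars false

universe u

open CategoryTheory AlgebraicGeometry TopologicalSpace Opposite

namespace K816.Mods

open K816.Geo K816.Plane K816.Cov K816.RegOne K816.Norm K816.Real K816.Surface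
open Groth.Agent.Ega1.QCohLoc Groth.Agent.Dix.IdealModCartier

/-- Restrictions of sections of ideals are injective. -/
theorem res_idealMod_injective {X : Scheme.{u}} [IsIntegral X] (D : X.IdealSheafData) {U V : X.Opens} [Nonempty V]
    (h : V ≤ U) : Function.Injective (res (ClSub.idealMod D) h) := by
  intro s t hst
  apply val_injective D
  have h1 : resO h (val D s) = resO h (val D t) :=
    (val_res D h s).symm.trans ((congrArg (val D) hst).trans (val_res D h t))
  exact map_injective_of_isIntegral X (homOfLE h) h1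

theorem val_add {X : Scheme.{u}} (D : X.IdealSheafData) {U : X.Opens} (s t : Γ(ClSub.idealMod D, U)) :
    val D (s + t) = val D s + val D t := map_add ((ClSub.idealModι D).app U).hom s t

theorem val_zero {X : Scheme.{u}} (D : X.IdealSheafData) {U : X.Opens} :
    val D (0 : Γ(ClSub.idealMod D, U)) = 0 := map_zero ((ClSub.idealModι D).app U).hom

variable {K : Type u} [Field K]

/-- The realization of an ideal. -/
noncomputable def RS (J : (S K).IdealSheafData) : Real (ClSub.idealMod J) (E K) where
  v :=
    { toFun := fun s => gm K (T K) (val J s)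
      map_zero' := by rw [val_zero, map_zero]
      map_add' := fun s t => by rw [val_add, map_add] }
  smul a s := by
    change gm K (T K) (val J (a • s)) = gm K (T K) a * gm K (T K) (val J s)
    rw [val_smul, map_mul]
  inj s t h := val_injective J (gm_injective K (T K) h)
  inj2 i j := res_idealMod_injective J _

theorem RS_w (J : (S K).IdealSheafData) (i : Fin 3) (s : Γ(ClSub.idealMod J, U K i)) :
    (RS J).w i s = gm K (U K i) (val J s) := by
  change gm K (T K) (val J (res _ (T_le K i) s)) = _
  have h1 : val J (res _ (T_le K i) s) = resO (T_le K i) (val J s) := val_res J (T_le K i) s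
  rw [h1]
  exact gm_resO (T_le K i) _

/-- The charts. -/
noncomputable def aS (K : Type u) [Field K] (i : Fin 3) : (S K).affineOpens := ⟨U K i, isAffineOpen_U K i⟩

/-- The ideal on the chart. -/
noncomputable def idS (J : (S K).IdealSheafData) (i : Fin 3) : Ideal Γ(S K, U K i) := J.ideal (aS K i)

theorem RS_mem (J : (S K).IdealSheafData) (i : Fin 3) (s : Γ(ClSub.idealMod J, U K i)) :
    ∃ a ∈ idS J i, (RS J).w i s = gm K (U K i) a :=
  ⟨val J s, val_mem J (aS K i) s, RS_w J i s⟩

theorem RS_exists (J : (S K).IdealSheafData) (i : Fin 3) {a : Γ(S K, U K i)}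
    (ha : a ∈ idS J i) : ∃ s, (RS J).w i s = gm K (U K i) a := by
  obtain ⟨s, hs⟩ := exists_val_eq J (aS K i) ha
  exact ⟨s, (RS_w J i s).trans (congrArg (gm K (U K i)) hs)⟩

variable {L : Type u} [Field L] [Algebra (E K) L]

/-- The comorphism over the charts. -/
noncomputable def pi (L : Type u) [Field L] [Algebra (E K) L] (i : Fin 3) : Γ(S K, U K i) →+* Γ(Y K L, UY K L i) :=
  ((p K L).app (U K i)).hom

/-- The comorphism over `T`. -/
noncomputable def pT (L : Type u) [Field L] [Algebra (E K) L] : Γ(S K, T K) →+* Γ(Y K L, TY K L) :=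
  ((p K L).app (T K)).hom

theorem e_pi (i : Fin 3) (a : Γ(S K, U K i)) : e K L i (pi L i a) = algebraMap (E K) L (gm K (U K i) a) :=
  e_app K L i a

theorem eT_pT (a : Γ(S K, T K)) : eT K L (pT L a) = algebraMap (E K) L (gm K (T K) a) := eT_app K L a

/-- The direct image. -/
noncomputable abbrev pF (G : (Y K L).Modules) : (S K).Modules := (Scheme.Modules.pushforward (p K L)).obj G

/-- Sections over the charts. -/
def toY {G : (Y K L).Modules} {i : Fin 3} (s : Γ(pF G, U K i)) : Γ(G, UY K L i) := s

/-- Sections over the charts. -/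
def ofY {G : (Y K L).Modules} {i : Fin 3} (s : Γ(G, UY K L i)) : Γ(pF G, U K i) := s

/-- Sections over `T`. -/
def toT {G : (Y K L).Modules} (s : Γ(pF G, T K)) : Γ(G, TY K L) := s

/-- Sections over `T`. -/
def ofT {G : (Y K L).Modules} (s : Γ(G, TY K L)) : Γ(pF G, T K) := s

theorem toT_smul {G : (Y K L).Modules} (a : Γ(S K, T K)) (s : Γ(pF G, T K)) :
    toT (a • s) = pT L a • toT s := rfl

theorem toY_smul {G : (Y K L).Modules} {i : Fin 3} (a : Γ(S K, U K i)) (s : Γ(pF G, U K i)) :
    toY (a • s) = pi L i a • toY s := rfl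

theorem toT_add {G : (Y K L).Modules} (s t : Γ(pF G, T K)) : toT (s + t) = toT s + toT t := rfl

theorem toT_zero {G : (Y K L).Modules} : toT (0 : Γ(pF G, T K)) = 0 := rfl

theorem toT_res {G : (Y K L).Modules} {i : Fin 3} (s : Γ(pF G, U K i)) :
    toT (res _ (T_le K i) s) = res G (TY_le K L i) (toY s) := rfl

/-- The realization of the direct image of an ideal. -/
noncomputable def RY (J : (Y K L).IdealSheafData) : Real (pF (ClSub.idealMod J)) L where
  v :=
    { toFun := fun s => eT K L (val J (toT s))
      map_zero' := by rw [toT_zero, val_zero, map_zero]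
      map_add' := fun s t => by rw [toT_add, val_add, map_add] }
  smul a s := by
    change eT K L (val J (toT (a • s))) = gm K (T K) a • eT K L (val J (toT s))
    rw [toT_smul, val_smul, map_mul, eT_pT, Algebra.smul_def]
  inj s t h := val_injective J (U := TY K L) (eT_injective K L h)
  inj2 i j := by
    have : Nonempty (p K L ⁻¹ᵁ T K : (Y K L).Opens) := nonempty_TY K L
    exact res_idealMod_injective J ((p K L).preimage_mono (le_inf (T_le K i) (T_le K j)))

theorem RY_v (J : (Y K L).IdealSheafData) (s : Γ(pF (ClSub.idealMod J), T K)) :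
    (RY J).v s = eT K L (val J (toT s)) := rfl

theorem RY_w (J : (Y K L).IdealSheafData) (i : Fin 3) (s : Γ(pF (ClSub.idealMod J), U K i)) :
    (RY J).w i s = e K L i (val J (toY s)) := by
  rw [Real.w_apply, RY_v, toT_res]
  have h1 : val J (res _ (TY_le K L i) (toY s)) = resO (TY_le K L i) (val J (toY s)) :=
    val_res J (TY_le K L i) (toY s)
  rw [h1]
  exact eT_res K L i _

theorem isAffineOpen_UY (i : Fin 3) : IsAffineOpen (UY K L i) := (isAffineOpen_U K i).preimage (p K L)

/-- The charts of the cover. -/
noncomputable def aY (L : Type u) [Field L] [Algebra (E K) L] (i : Fin 3) : (Y K L).affineOpens :=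
  ⟨UY K L i, isAffineOpen_UY i⟩

/-- The ideal on the chart. -/
noncomputable def idY (J : (Y K L).IdealSheafData) (i : Fin 3) : Ideal Γ(Y K L, UY K L i) := J.ideal (aY L i)

theorem RY_mem (J : (Y K L).IdealSheafData) (i : Fin 3) (s : Γ(pF (ClSub.idealMod J), U K i)) :
    ∃ a ∈ idY J i, (RY J).w i s = e K L i a :=
  ⟨val J (toY s), val_mem J (aY L i) (toY s), RY_w J i s⟩

theorem RY_exists (J : (Y K L).IdealSheafData) (i : Fin 3) {a : Γ(Y K L, UY K L i)}
    (ha : a ∈ idY J i) : ∃ s, (RY J).w i s = e K L i a := by
  obtain ⟨s, hs⟩ := exists_val_eq J (aY L i) ha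
  exact ⟨ofY s, (RY_w J i _).trans (congrArg (e K L i) hs)⟩

end K816.Mods
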