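import Mathlib.AlgebraicGeometry.Normalization
import Mathlib.AlgebraicGeometry.FunctionField
import Groth.Agent.Ega1.QCohLoc

/-!
# The normalization of an integral scheme in a field extension of its function field

`X L`, `π L : X L ⟶ S`, `ε L V : Γ(X L, V) → L` (injective), with `ε (π^* a) = a` and image over affine opens of `S`
the integral closure.
-/

set_option autoImplicit false
set_option linter.unusedSectionVars false

universe u

open CategoryTheory AlgebraicGeometry TopologicalSpace Opposite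

namespace K816.Norm

open Groth.Agent.Ega1.QCohLoc

theorem appLE_aux {S : Scheme.{u}} (x : S) {R : CommRingCat.{u}} (φ : S.presheaf.stalk x ⟶ R) (W : S.Opens) (hx : x ∈ W)
    (h : ⊤ ≤ (Spec.map φ ≫ S.fromSpecStalk x) ⁻¹ᵁ W) :
    (Spec.map φ ≫ S.fromSpecStalk x).appLE W ⊤ h ≫ (Scheme.ΓSpecIso R).hom = S.presheaf.germ W x hx ≫ φ := by
  have h0 : ⊤ ≤ S.fromSpecStalk x ⁻¹ᵁ W := by
    intro y _
    have h1 : S.fromSpecStalk x y ⤳ x := by
      have := Scheme.range_fromSpecStalk (X := S) (x := x)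
      have h2 : S.fromSpecStalk x y ∈ {y | y ⤳ x} := this ▸ ⟨y, rfl⟩
      exact h2
    exact h1.mem_open W.2 hx
  have h1 := Scheme.Hom.appLE_comp_appLE (Spec.map φ) (S.fromSpecStalk x) W ⊤ ⊤ h0 le_top
  rw [← h1, Category.assoc]
  have h2 : (Spec.map φ).appLE ⊤ ⊤ le_top ≫ (Scheme.ΓSpecIso R).hom = (Scheme.ΓSpecIso _).hom ≫ φ := by
    rw [← Scheme.ΓSpecIso_naturality]
    congr 1
  rw [h2, ← Category.assoc]
  congr 1
  have h3 : (S.fromSpecStalk x).appLE W ⊤ h0 = S.presheaf.germ W x hx ≫ (Scheme.ΓSpecIso (S.presheaf.stalk x)).inv := by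
    rw [Scheme.Hom.appLE, Scheme.fromSpecStalk_app hx]
    simp only [Category.assoc]
    have h4 : (Spec (S.presheaf.stalk x)).presheaf.map (homOfLE (le_top : S.fromSpecStalk x ⁻¹ᵁ W ≤ ⊤)).op ≫
        (Spec (S.presheaf.stalk x)).presheaf.map (homOfLE h0).op = 𝟙 _ := by
      rw [← Functor.map_comp]
      exact (Spec (S.presheaf.stalk x)).presheaf.map_id _
    exact congrArg (fun t => S.presheaf.germ W x hx ≫ (Scheme.ΓSpecIso (S.presheaf.stalk x)).inv ≫ t) h4 |>.trans
      (by rw [Category.comp_id])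
  rw [h3, Category.assoc, Iso.inv_hom_id, Category.comp_id]

variable {S : Scheme.{u}} [IsIntegral S] [S.IsSeparated] (L : Type u) [Field L] [Algebra S.functionField L]

/-- The morphism from the spectrum of the extension. -/
noncomputable def pt : Spec (CommRingCat.of L) ⟶ S :=
  Spec.map (CommRingCat.ofHom (algebraMap S.functionField L)) ≫ S.fromSpecStalk (genericPoint S)

instance : IsAffineHom (pt (S := S) L) := by
  have h1 : IsAffineHom (pt (S := S) L ≫ Limits.terminal.from S) := inferInstance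
  exact IsAffineHom.of_comp _ (Limits.terminal.from S)

/-- The normalization. -/
noncomputable def X : Scheme.{u} := (pt (S := S) L).normalization

/-- The projection. -/
noncomputable def π : X (S := S) L ⟶ S := (pt (S := S) L).fromNormalization

/-- The generic point. -/
noncomputable def toX : Spec (CommRingCat.of L) ⟶ X (S := S) L := (pt (S := S) L).toNormalization

theorem toX_π : toX L ≫ π L = pt (S := S) L := Scheme.Hom.toNormalization_fromNormalization _

instance : IsIntegralHom (π (S := S) L) := inferInstanceAs (IsIntegralHom (pt (S := S) L).fromNormalization)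

instance isIntegral_X : IsIntegral (X (S := S) L) := inferInstanceAs (IsIntegral (pt (S := S) L).normalization)

instance : IsDominant (toX (S := S) L) := inferInstanceAs (IsDominant (pt (S := S) L).toNormalization)

variable {L}

theorem eq_top_of_nonempty (W : (Spec (CommRingCat.of L)).Opens) (h : (W : Set (Spec (CommRingCat.of L))).Nonempty) :
    W = ⊤ := by
  obtain ⟨x, hx⟩ := h
  have : Subsingleton (Spec (CommRingCat.of L)) := inferInstanceAs (Subsingleton (PrimeSpectrum L))
  ext y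
  exact ⟨fun _ => trivial, fun _ => Subsingleton.elim x y ▸ hx⟩

theorem le_preimage (V : (X (S := S) L).Opens) [Nonempty V] : ⊤ ≤ toX L ⁻¹ᵁ V := by
  obtain ⟨y, hy⟩ := (toX (S := S) L).denseRange.exists_mem_open V.2 (by
    obtain ⟨x⟩ := ‹Nonempty V›
    exact ⟨x.1, x.2⟩)
  exact (eq_top_of_nonempty _ ⟨y, hy⟩).ge

variable (L)

/-- The value of a function in the field. -/
noncomputable def ε (V : (X (S := S) L).Opens) [Nonempty V] : Γ(X (S := S) L, V) →+* L :=
  ((toX L).appLE V ⊤ (le_preimage V) ≫ (Scheme.ΓSpecIso (CommRingCat.of L)).hom).hom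

variable {L}

theorem ε_res {V W : (X (S := S) L).Opens} [Nonempty V] [Nonempty W] (h : V ≤ W) (s : Γ(X (S := S) L, W)) :
    ε L V (resO h s) = ε L W s := by
  have h1 := Scheme.Hom.map_appLE (toX (S := S) L) (le_preimage V) (homOfLE h).op
  exact congrArg (Scheme.ΓSpecIso (CommRingCat.of L)).hom (congr($(h1) s))

theorem ε_injective (V : (X (S := S) L).Opens) [Nonempty V] : Function.Injective (ε L V) := by
  rw [injective_iff_map_eq_zero]
  intro s hs
  have h1 : ((toX L).appLE V ⊤ (le_preimage V)) s = 0 := by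
    have h2 := ConcreteCategory.bijective_of_isIso (Scheme.ΓSpecIso (CommRingCat.of L)).hom
    exact h2.1 (hs.trans (map_zero _).symm)
  have h2 : (X (S := S) L).basicOpen s = ⊥ := by
    by_contra hne
    have hn : Nonempty ((X (S := S) L).basicOpen s) := by
      rw [← Opens.coe_eq_empty, ← Ne, ← Set.nonempty_iff_ne_empty] at hne
      obtain ⟨x, hx⟩ := hne
      exact ⟨⟨x, hx⟩⟩
    have h3 := le_preimage ((X (S := S) L).basicOpen s)
    have h4 : toX L ⁻¹ᵁ ((X (S := S) L).basicOpen s) ≤ toX L ⁻¹ᵁ V := fun x hx => (X (S := S) L).basicOpen_le s hx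
    have h5 : (Spec (CommRingCat.of L)).basicOpen (((toX L).appLE V ⊤ (le_preimage V)) s) =
        ⊤ ⊓ toX L ⁻¹ᵁ ((X (S := S) L).basicOpen s) := Scheme.basicOpen_appLE _ _ _ _ _
    rw [h1, Scheme.basicOpen_zero] at h5
    obtain ⟨x⟩ : Nonempty (Spec (CommRingCat.of L)) := inferInstanceAs (Nonempty (PrimeSpectrum L))
    have h6 : x ∈ (⊤ ⊓ toX L ⁻¹ᵁ ((X (S := S) L).basicOpen s) : (Spec (CommRingCat.of L)).Opens) := ⟨trivial, h3 trivial⟩
    rw [← h5] at h6
    exact h6
  exact (basicOpen_eq_bot_iff _).1 h2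

instance nonempty_preimage (W : S.Opens) [Nonempty W] : Nonempty (π (S := S) L ⁻¹ᵁ W : (X (S := S) L).Opens) := by
  obtain ⟨x⟩ : Nonempty (Spec (CommRingCat.of L)) := inferInstanceAs (Nonempty (PrimeSpectrum L))
  refine ⟨⟨toX L x, ?_⟩⟩
  change π L (toX L x) ∈ W
  have h1 : (π (S := S) L (toX L x)) = pt (S := S) L x := by
    rw [← toX_π, Scheme.Hom.comp_apply]
  rw [h1]
  have h3 : ∀ z : Spec (S.presheaf.stalk (genericPoint S)), S.fromSpecStalk (genericPoint S) z ∈ W := fun z => by
    have : Subsingleton (PrimeSpectrum S.functionField) := inferInstance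
    have h2 : z = IsLocalRing.closedPoint _ := Subsingleton.elim (α := PrimeSpectrum S.functionField) z _
    rw [h2, Scheme.fromSpecStalk_closedPoint]
    obtain ⟨y, hy⟩ := ‹Nonempty W›
    exact ((genericPoint_spec S).mem_open_set_iff W.2).2 ⟨y, trivial, hy⟩
  exact h3 _

theorem ε_app (W : S.Opens) [Nonempty W] (a : Γ(S, W)) :
    ε L (π L ⁻¹ᵁ W) ((π L).app W a) = algebraMap S.functionField L (S.germToFunctionField W a) := by
  have h0 : pt (S := S) L ⁻¹ᵁ W = ⊤ := by
    have h := le_preimage (π L ⁻¹ᵁ W)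
    rw [eq_top_iff]
    refine h.trans ?_
    rw [← Scheme.Hom.comp_preimage, toX_π]
  have h1 : (π L).app W ≫ (toX L).appLE (π L ⁻¹ᵁ W) ⊤ (le_preimage _) = (pt L).appLE W ⊤ h0.ge := by
    rw [Scheme.Hom.app_eq_appLE]
    have h2 := Scheme.Hom.appLE_comp_appLE (toX L) (π L) W (π L ⁻¹ᵁ W) ⊤ le_rfl (le_preimage _)
    rw [h2]
    congr 1
    exact toX_π L
  have h4 : genericPoint S ∈ W := by
    obtain ⟨y, hy⟩ := ‹Nonempty W›
    exact ((genericPoint_spec S).mem_open_set_iff W.2).2 ⟨y, trivial, hy⟩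
  have h3 : (pt L).appLE W ⊤ h0.ge ≫ (Scheme.ΓSpecIso (CommRingCat.of L)).hom =
      S.germToFunctionField W ≫ CommRingCat.ofHom (algebraMap S.functionField L) :=
    appLE_aux (genericPoint S) (CommRingCat.ofHom (algebraMap S.functionField L)) W h4 h0.ge
  have h5 := (congrArg (fun φ => φ ≫ (Scheme.ΓSpecIso (CommRingCat.of L)).hom) h1).trans h3
  exact congr($(h5).hom a)

variable (L) in
theorem preimage_eq_top (W : S.Opens) [Nonempty W] : pt (S := S) L ⁻¹ᵁ W = ⊤ := by
  have h := le_preimage (π L ⁻¹ᵁ W)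
  rw [eq_top_iff]
  refine h.trans ?_
  rw [← Scheme.Hom.comp_preimage, toX_π]

theorem germ_mem (W : S.Opens) [Nonempty W] : genericPoint S ∈ W := by
  obtain ⟨y, hy⟩ := ‹Nonempty W›
  exact ((genericPoint_spec S).mem_open_set_iff W.2).2 ⟨y, trivial, hy⟩

/-- Functions are integral. -/
theorem isIntegralElem_ε (W : S.Opens) [Nonempty W] (hW : IsAffineOpen W) (s : Γ(X (S := S) L, π L ⁻¹ᵁ W)) :
    ((algebraMap S.functionField L).comp (S.germToFunctionField W).hom).IsIntegralElem (ε L (π L ⁻¹ᵁ W) s) := by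
  have h1 : ((π (S := S) L).app W).hom.IsIntegralElem s := IsIntegralHom.isIntegral_app _ _ hW s
  obtain ⟨P, hP, h2⟩ := h1
  refine ⟨P, hP, ?_⟩
  have h3 : (algebraMap S.functionField L).comp (S.germToFunctionField W).hom =
      (ε L (π L ⁻¹ᵁ W)).comp ((π (S := S) L).app W).hom := by
    ext a
    exact (ε_app W a).symm
  rw [h3, ← Polynomial.hom_eval₂]
  change ε L (π L ⁻¹ᵁ W) (Polynomial.eval₂ ((π (S := S) L).app W).hom s P) = 0
  rw [h2, map_zero]

/-- Integral elements are functions. -/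
theorem exists_ε (W : S.Opens) [Nonempty W] (hW : IsAffineOpen W) (z : L)
    (hz : ((algebraMap S.functionField L).comp (S.germToFunctionField W).hom).IsIntegralElem z) :
    ∃ s, ε L (π L ⁻¹ᵁ W) s = z := by
  have h0 := preimage_eq_top (S := S) L W
  -- the comparison
  let ρ : Γ(Spec (CommRingCat.of L), pt (S := S) L ⁻¹ᵁ W) ⟶ CommRingCat.of L :=
    (Spec (CommRingCat.of L)).presheaf.map (homOfLE h0.ge).op ≫ (Scheme.ΓSpecIso (CommRingCat.of L)).hom
  have hρ : IsIso ρ := by
    have h1 : IsIso (homOfLE h0.ge).op := by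
      have : homOfLE h0.ge = eqToHom h0.symm := Subsingleton.elim _ _
      rw [this]
      infer_instance
    infer_instance
  have hb := ConcreteCategory.bijective_of_isIso ρ
  have h1 : (pt (S := S) L).app W ≫ ρ = S.germToFunctionField W ≫ CommRingCat.ofHom (algebraMap S.functionField L) := by
    have h2 := appLE_aux (genericPoint S) (CommRingCat.ofHom (algebraMap S.functionField L)) W (germ_mem W) h0.ge
    refine Eq.trans ?_ h2
    change _ ≫ _ ≫ _ = _
    rw [← Category.assoc]
    rfl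
  obtain ⟨z', hz'⟩ := hb.2 z
  have h2 : ((pt (S := S) L).app W).hom.IsIntegralElem z' := by
    obtain ⟨P, hP, h3⟩ := hz
    refine ⟨P, hP, hb.1 ?_⟩
    have h4 : (algebraMap S.functionField L).comp (S.germToFunctionField W).hom =
        ρ.hom.comp ((pt (S := S) L).app W).hom := by
      have := congrArg CommRingCat.Hom.hom h1
      exact this.symm
    rw [h4] at h3
    change ρ.hom (Polynomial.eval₂ ((pt (S := S) L).app W).hom z' P) = ρ.hom 0
    rw [Polynomial.hom_eval₂, map_zero]
    have h5 : ρ.hom z' = z := hz'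
    rw [h5]
    exact h3
  letI := ((pt (S := S) L).app W).hom.toAlgebra
  have h3 : z' ∈ integralClosure Γ(S, W) Γ(Spec (CommRingCat.of L), pt (S := S) L ⁻¹ᵁ W) := h2
  have h4 := Scheme.Hom.normalizationObjIso_hom_val (pt (S := S) L) hW
  have hb2 := ConcreteCategory.bijective_of_isIso ((pt (S := S) L).normalizationObjIso hW).hom
  obtain ⟨s, hs⟩ := hb2.2 ⟨z', h3⟩
  refine ⟨s, ?_⟩
  have h5 : (toX (S := S) L).appLE (π L ⁻¹ᵁ W) (pt (S := S) L ⁻¹ᵁ W)
      (by rw [← toX_π, Scheme.Hom.comp_preimage]) s = z' := by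
    have h6 := congr($(h4) s)
    refine h6.symm.trans ?_
    exact congrArg Subtype.val hs
  have h6 : (toX (S := S) L).appLE (π L ⁻¹ᵁ W) ⊤ (le_preimage _) =
      (toX (S := S) L).appLE (π L ⁻¹ᵁ W) (pt (S := S) L ⁻¹ᵁ W) (by rw [← toX_π, Scheme.Hom.comp_preimage]) ≫
      (Spec (CommRingCat.of L)).presheaf.map (homOfLE h0.ge).op := by
    rw [Scheme.Hom.appLE_map]
  change ((toX L).appLE (π L ⁻¹ᵁ W) ⊤ (le_preimage _) ≫ (Scheme.ΓSpecIso (CommRingCat.of L)).hom) s = z
  rw [h6, ← hz', ← h5]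
  rfl

end K816.Norm
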