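import Groth.Agent.Surf.K816.SeqOne
import Groth.Agent.Surf.K816.Geom
import Groth.Agent.Surf.K464.Base
import Groth.Agent.Fga.HShift
import Groth.Agent.S4466
import Groth.Agent.S0844
import Groth.Agent.S1524
import Groth.Agent.CohqB.FinAmple
import Groth.Agent.VarietyB.HHPush
import Groth.Agent.Variety.K420.LenEuler

/-!
# The Euler characteristics
-/

set_option autoImplicit false
set_option linter.unusedSectionVars false

universe u

open CategoryTheory CategoryTheory.Limits AlgebraicGeometry TopologicalSpace Opposite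

namespace K816.Num

open K816.Geo K816.Plane K816.Real K816.Lat K816.Cov K816.Surface K816.Mods K816.Ideals K816.Ses K816.MidLat
open K816.SeqOne K816.Geom Groth.Agent.Ega1.QCohLoc Groth.Agent

section plane

variable (K : Type u) [Field K]

noncomputable instance overS : (S K).Over (Spec (CommRingCat.of K)) := ⟨CohB1.ProjSpace.toSpec 2 K⟩

instance properS : IsProper (S K ↘ Spec (CommRingCat.of K)) :=
  Groth.Agent.Ega3B.ProjProper.isProper_toSpec 2 K

theorem iso_O (d : ℕ) : Nonempty (O K d ≅ Twist.twistProjSpace 2 K (-(d : ℤ))) := nonempty_iso_twist K d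

theorem vanish (d q : ℕ) (h0 : q ≠ 0 ∨ d ≠ 0) (h2 : q ≠ 2 ∨ d < 3) : Subsingleton (Coh.HH (S K) (O K d) q) := by
  obtain ⟨e⟩ := iso_O K d
  have h := Groth.Agent.S0844.result K 2 (-(d : ℤ)) q (by omega) (by omega)
  exact Fga.HShift.subsingleton_of_iso e.symm q h

theorem euler_twist (d : ℕ) : Curv2.euler K (CohB1.ProjSpace 2 K) (Twist.twistProjSpace 2 K (-(d : ℤ))) =
    Ring.choose (-(d : ℤ) + 2) 2 := by
  refine Eq.trans ?_ (Groth.Agent.S4466.result K 2 (by norm_num) (-(d : ℤ)))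
  unfold Curv2.euler
  refine finsum_eq_sum_of_support_subset _ fun q hq => ?_
  by_contra hq2
  have hq3 : ¬ q < 2 + 1 := by simpa using hq2
  have h := Groth.Agent.S0844.result K 2 (-(d : ℤ)) q (by omega) (by omega)
  exact hq (by
    change (-1 : ℤ) ^ q * (Module.finrank K (Coh.HH (CohB1.ProjSpace 2 K) (Twist.twistProjSpace 2 K (-(d : ℤ))) q) : ℤ) = 0
    rw [Module.finrank_zero_of_subsingleton, Nat.cast_zero, mul_zero])

theorem euler_O (d : ℕ) : Curv2.euler K (S K) (O K d) = Ring.choose (-(d : ℤ) + 2) 2 := by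
  obtain ⟨e⟩ := iso_O K d
  exact (K464.Base.euler_congr K (S K) e).trans (euler_twist K d)

theorem ch0 : Ring.choose (-((0 : ℕ) : ℤ) + 2) 2 = 1 := by decide +kernel

theorem ch1 : Ring.choose (-((1 : ℕ) : ℤ) + 2) 2 = 0 := by decide +kernel

theorem ch2 : Ring.choose (-((2 : ℕ) : ℤ) + 2) 2 = 0 := by decide +kernel

theorem ch3 : Ring.choose (-((3 : ℕ) : ℤ) + 2) 2 = 1 := by decide +kernel

theorem ch4 : Ring.choose (-((4 : ℕ) : ℤ) + 2) 2 = 3 := by decide +kernel

theorem isCoh_O (d : ℕ) : Coh.IsCoh (O K d) := K464.Base.isCoh_idealMod K (S K) _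

theorem isNoetherian_S : IsNoetherian (S K) := Fga.IntAdd.isNoetherian K (S K)

theorem isCoh_MM (a b c : ℕ) : Coh.IsCoh (MM K a b c) := by
  have h := fun d => isCoh_O K d
  have := isNoetherian_S K
  exact Sga67.CohBasic.isCoh_biprod (h _) (Sga67.CohBasic.isCoh_biprod (h _)
    (Sga67.CohBasic.isCoh_biprod (h _) (Sga67.CohBasic.isCoh_biprod (h _) (h _))))

theorem euler_biprod {P Q : (S K).Modules} (hP : Coh.IsCoh P) (hQ : Coh.IsCoh Q) :
    Curv2.euler K (S K) (P ⊞ Q) = Curv2.euler K (S K) P + Curv2.euler K (S K) Q := by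
  have := isNoetherian_S K
  exact K420.LenEuler.euler_biprod K hP hQ (Sga67.CohBasic.isCoh_biprod hP hQ)

theorem euler_MM (a b c : ℕ) : Curv2.euler K (S K) (MM K a b c) =
    Curv2.euler K (S K) (O K a) + 3 * Curv2.euler K (S K) (O K (2 + c)) + Curv2.euler K (S K) (O K (2 + b)) := by
  have h := fun d => isCoh_O K d
  have := isNoetherian_S K
  have h3 : Coh.IsCoh (O K (2 + c) ⊞ O K (2 + b)) := Sga67.CohBasic.isCoh_biprod (h _) (h _)
  have h2 : Coh.IsCoh (O K (2 + c) ⊞ (O K (2 + c) ⊞ O K (2 + b))) := Sga67.CohBasic.isCoh_biprod (h _) h3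
  have h1 : Coh.IsCoh (O K (2 + c) ⊞ (O K (2 + c) ⊞ (O K (2 + c) ⊞ O K (2 + b)))) :=
    Sga67.CohBasic.isCoh_biprod (h _) h2
  rw [MM, euler_biprod K (h _) h1, euler_biprod K (h _) h2, euler_biprod K (h _) h3, euler_biprod K (h _) (h _)]
  ring

theorem vanish_biprod {P Q : (S K).Modules} (q : ℕ) (hP : Subsingleton (Coh.HH (S K) P q))
    (hQ : Subsingleton (Coh.HH (S K) Q q)) : Subsingleton (Coh.HH (S K) (P ⊞ Q) q) := by
  let T : ShortComplex (S K).Modules := ShortComplex.mk (biprod.inl : P ⟶ P ⊞ Q) biprod.snd (by simp)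
  have hT : T.ShortExact := (ShortComplex.Splitting.ofHasBinaryBiproduct P Q).shortExact
  exact Fga.HShift.subsingleton₂ hT q hP hQ

end plane

section numbers

variable {K : Type u} [Field K]

/-- The numerical invariants of the cover: `χ(O) = 0`, `χ(I_C) = 0`, `χ(I_C²) = m`, `H²(O) = 0`. -/
structure Nums (K : Type u) [Field K] (L : Type u) [Field L] [Algebra (E K) L] (m : ℤ) : Prop where
  e0 : Curv2.euler K (S K) (pF (ClSub.idealMod (⊤ : (Y K L).IdealSheafData))) = 0
  e1 : Curv2.euler K (S K) (pF (ClSub.idealMod (Cc K L))) = 0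
  e2 : Curv2.euler K (S K) (pF (ClSub.idealMod (H0 K L))) = m
  h2 : Subsingleton (Coh.HH (S K) (pF (ClSub.idealMod (⊤ : (Y K L).IdealSheafData))) 2)

variable [CharP K 2] {L : Type u} [Field L] [Algebra (E K) L] {κ : Type} [Fintype κ] [DecidableEq κ]

theorem isQCoh_pF (G : (Y K L).Modules) (hG : Coh.IsQCoh G) : Coh.IsQCoh (pF G) :=
  CohqA.AffPush.isQCoh_push (p K L) G hG

theorem isQCoh_idY (J : (Y K L).IdealSheafData) : Coh.IsQCoh (pF (ClSub.idealMod J)) :=
  isQCoh_pF _ (Groth.Agent.CohqA.IdealMod.isQCoh_idealMod J)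

variable (K L) in
noncomputable instance overY : (Y K L).Over (Spec (CommRingCat.of K)) := ⟨fY K L⟩

theorem properY (C : Cov (pf K) L κ) : IsProper (Y K L ↘ Spec (CommRingCat.of K)) := isProper_fY C

theorem isCoh_pF (C : Cov (pf K) L κ) (G : (Y K L).Modules) (hG : Coh.IsCoh G) : Coh.IsCoh (pF G) := by
  have := isFinite_p C
  exact CohqB.FinAmple.isCoh_push (p K L) hG

theorem isCoh_idY (C : Cov (pf K) L κ) (J : (Y K L).IdealSheafData) : Coh.IsCoh (pF (ClSub.idealMod J)) := by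
  have := properY C
  exact isCoh_pF C _ (K464.Base.isCoh_idealMod K (Y K L) _)

variable {w : Par K} (ρ : Rt (pf K) w L) (hsp : ∀ x : L, ∃ d, x = el ρ 0 d)

theorem euler_pres (C : Cov (pf K) L κ) (J : (Y K L).IdealSheafData) {a b c : ℕ} (hab : a ≤ b + 1)
    (h1 : ∀ i s, NL ρ a b c i ((RY J).w i s)) (h2 : ∀ i z, NL ρ a b c i z → ∃ s, (RY J).w i s = z) :
    Curv2.euler K (S K) (pF (ClSub.idealMod J)) = Curv2.euler K (S K) (O K a) +
      3 * Curv2.euler K (S K) (O K (2 + c)) + Curv2.euler K (S K) (O K (2 + b)) -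
      Curv2.euler K (S K) (O K (3 + c)) := by
  obtain ⟨φ, ψ, w, hS⟩ := exists_pres ρ (RY J) (isQCoh_idY J) hab h1 h2
  have h3 := Groth.Agent.S1524.result K (S K) _ hS (isCoh_O K _) (isCoh_MM K a b c) (isCoh_idY C J)
  have h4 := euler_MM K a b c
  linarith

include hsp in
theorem nums_one : Nums K L 1 := by
  let C := covOne ρ hsp
  have e0 := ch0
  refine ⟨?_, ?_, ?_, ?_⟩
  · have h := euler_pres ρ C (⊤ : (Y K L).IdealSheafData) (a := 0) (b := 0) (c := 0) (by norm_num)
      (fun i s => (inB_iff ρ hsp).1 (top_w C i s)) (fun i z hz => top_exists i ((inB_iff ρ hsp).2 hz))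
    rw [euler_O, euler_O, euler_O, ch0, ch2, ch3] at h
    rw [h]
    norm_num
  · have h := euler_pres ρ C (Cc K L) (a := 1) (b := 1) (c := 0) (by norm_num)
      (fun i s => (inI_iff ρ hsp).1 (Cc_w C i s)) (fun i z hz => Cc_exists C i ((inI_iff ρ hsp).2 hz))
    rw [euler_O, euler_O, euler_O, ch1, ch2, ch3] at h
    rw [h]
    norm_num
  · have h := euler_pres ρ C (H0 K L) (a := 1) (b := 1) (c := 1) (by norm_num)
      (fun i s => (inU_iff ρ hsp).1 (H0_w C i s)) (fun i z hz => by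
        obtain ⟨y, hy, rfl⟩ := (inU_iff ρ hsp).2 hz
        exact H0_exists i hy)
    rw [euler_O, euler_O, euler_O, ch1, ch3, ch4] at h
    rw [h]
    norm_num
  · obtain ⟨φ, ψ, w, hS⟩ := exists_pres ρ (RY (⊤ : (Y K L).IdealSheafData)) (isQCoh_idY _) (a := 0) (b := 0) (c := 0)
      (by norm_num) (fun i s => (inB_iff ρ hsp).1 (top_w C i s))
      (fun i z hz => top_exists i ((inB_iff ρ hsp).2 hz))
    have h := fun d => vanish K d 2 (Or.inl (by norm_num))
    have h2 : Subsingleton (Coh.HH (S K) (MM K 0 0 0) 2) := by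
      exact vanish_biprod K 2 (h 0 (Or.inr (by norm_num))) (vanish_biprod K 2 (h 2 (Or.inr (by norm_num)))
        (vanish_biprod K 2 (h 2 (Or.inr (by norm_num))) (vanish_biprod K 2 (h 2 (Or.inr (by norm_num)))
        (h 2 (Or.inr (by norm_num))))))
    exact Fga.HShift.subsingleton₃ hS 2 h2 (vanish K 3 3 (Or.inl (by norm_num)) (Or.inl (by norm_num)))

end numbers

end K816.Num
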