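import Groth.Agent.Surf.K816.Geo
import Groth.Agent.Lefpen.H717.ProjIrr
import Groth.Agent.Lefpen.H718.Chart
import Groth.Agent.Lefpen.H716.CIGeom
import Groth.Agent.Ega3B.ProjProper
import Mathlib.AlgebraicGeometry.FunctionField

/-!
# The projective plane over `K` and its function field

`E K`: the function field of the plane; `gm W : Γ(S, W) → E`; `pf K : PF K (E K)`;
`gm_mem : gm (U i) s ∈ A i`, `exists_gm`.
-/

set_option autoImplicit false

universe u

open CategoryTheory AlgebraicGeometry TopologicalSpace Opposite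

namespace K816.Plane

open K816.Geo Groth.Agent.Lefpen.H705.HypIdeal Groth.Agent.Lefpen.H705.ChartPoly Groth.Agent.Lefpen.H717.ProjIrr
open Groth.Agent.Fdesc.LocGen Groth.Agent.Sga5 Groth.Agent.Lefpen.H718.Chart

variable (K : Type u) [Field K]

/-- The plane. -/
noncomputable def S : Scheme.{u} := CohB1.ProjSpace 2 K

instance isIntegral_S : IsIntegral (S K) := isIntegral_projSpace 2 K

instance isSeparated_S : (S K).IsSeparated := by
  have h : IsProper (CohB1.ProjSpace.toSpec 2 K) := Groth.Agent.Ega3B.ProjProper.isProper_toSpec 2 K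
  have h2 : IsSeparated (CohB1.ProjSpace.toSpec 2 K ≫ Limits.terminal.from _) := inferInstance
  have h3 : (CohB1.ProjSpace 2 K).IsSeparated := by
    constructor
    convert h2
    exact Subsingleton.elim _ _
  exact h3

/-- The charts. -/
noncomputable def U (i : Fin 3) : (S K).Opens := LefPen.chart 2 K i

/-- The quotients of coordinates. -/
noncomputable def rat (i j : Fin 3) : Γ(S K, U K i) := ratio (k := K) i j

/-- The polynomial functions. -/
noncomputable def pol (i : Fin 3) : MvPolynomial (Fin 2) K →+* Γ(S K, U K i) := polyToChart (r := 2) (k := K) i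

theorem pol_bijective (i : Fin 3) : Function.Bijective (pol K i) := polyToChart_bijective (r := 2) (k := K) i

instance nonempty_U (i : Fin 3) : Nonempty (U K i) := by
  have h : (⊤ : (Spec (CommRingCat.of (MvPolynomial (Fin 2) K))).Opens) ≤ (ProjSmooth.chart 2 K i) ⁻¹ᵁ (U K i) :=
    top_le_preimage i
  obtain ⟨x⟩ : Nonempty (Spec (CommRingCat.of (MvPolynomial (Fin 2) K))) := inferInstance
  exact ⟨⟨ProjSmooth.chart 2 K i x, h (show x ∈ (⊤ : (Spec (CommRingCat.of (MvPolynomial (Fin 2) K))).Opens) from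
    trivial)⟩⟩

theorem isAffineOpen_U (i : Fin 3) : IsAffineOpen (U K i) := isAffineOpen_chart i

/-- The function field. -/
abbrev E : Type u := (S K).functionField

/-- The germ at the generic point. -/
noncomputable def gm (W : (S K).Opens) [Nonempty W] : Γ(S K, W) →+* E K := ((S K).germToFunctionField W).hom

theorem gm_injective (W : (S K).Opens) [Nonempty W] : Function.Injective (gm K W) :=
  Scheme.germToFunctionField_injective _ W

theorem gm_ores {V W : (S K).Opens} [Nonempty V] [Nonempty W] (h : V ≤ W) (s : Γ(S K, W)) :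
    gm K V (ores h s) = gm K W s :=
  (S K).presheaf.germ_res_apply (homOfLE h) _ _ s

theorem nonempty_inf (V W : (S K).Opens) [Nonempty V] [Nonempty W] : Nonempty (V ⊓ W : (S K).Opens) := by
  obtain ⟨x, hx⟩ := ‹Nonempty V›
  obtain ⟨y, hy⟩ := ‹Nonempty W›
  obtain ⟨z, hz, hz'⟩ := inter_nonempty 2 K V W ⟨x, hx⟩ ⟨y, hy⟩
  exact ⟨⟨z, hz, hz'⟩⟩

instance (i j : Fin 3) : Nonempty (U K i ⊓ U K j : (S K).Opens) := nonempty_inf K _ _

/-- The algebra structure. -/
noncomputable instance algE : Algebra K (E K) := ((gm K (U K 0)).comp ((pol K 0).comp MvPolynomial.C)).toAlgebra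

instance nonempty_top : Nonempty (⊤ : (S K).Opens) := ⟨⟨(nonempty_U K 0).some.1, trivial⟩⟩

/-- The constants as global functions. -/
noncomputable def cst (c : K) : Γ(S K, ⊤) :=
  (CohB1.ProjSpace.toSpec 2 K).appTop ((Scheme.ΓSpecIso (CommRingCat.of K)).inv c)

theorem ores_cst (i : Fin 3) (c : K) : ores (le_top : U K i ≤ ⊤) (cst K c) = pol K i (MvPolynomial.C c) := by
  have h := toSpec_appLE (N := 2) (k := K) i c
  exact h

theorem gm_cst (i : Fin 3) (c : K) : gm K (U K i) (pol K i (MvPolynomial.C c)) = gm K ⊤ (cst K c) := by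
  rw [← ores_cst, gm_ores]

theorem algebraMap_eq (i : Fin 3) (c : K) :
    algebraMap K (E K) c = gm K (U K i) (pol K i (MvPolynomial.C c)) := by
  change gm K (U K 0) (pol K 0 (MvPolynomial.C c)) = _
  rw [gm_cst, gm_cst]

theorem algebraMap_eq_top (c : K) : algebraMap K (E K) c = gm K ⊤ (cst K c) :=
  (algebraMap_eq K 0 c).trans (gm_cst K 0 c)

/-- The homogeneous coordinates. -/
noncomputable def xx (j : Fin 3) : E K := gm K (U K 0) (rat K 0 j)

theorem rat_self (i : Fin 3) : rat K i i = 1 := by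
  rw [rat, ratio, dehom_eq]
  change polyToChart i (ProjChart.dehom 2 K i (MvPolynomial.X i)) = _
  rw [ProjChart.dehom_X_self, map_one]
  rfl

theorem rat_succAbove (i : Fin 3) (l : Fin 2) : rat K i (i.succAbove l) = pol K i (MvPolynomial.X l) := by
  rw [rat, ratio, dehom_eq]
  change polyToChart i (ProjChart.dehom 2 K i (MvPolynomial.X (i.succAbove l))) = _
  rw [ProjChart.dehom_X]
  rfl

theorem gm_rat_mul (i j l : Fin 3) :
    gm K (U K i) (rat K i l) = gm K (U K i) (rat K i j) * gm K (U K j) (rat K j l) := by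
  have h : ores (inf_le_left : U K i ⊓ U K j ≤ U K i) (rat K i l) =
      ores (inf_le_left : U K i ⊓ U K j ≤ U K i) (rat K i j) ^ 1 *
        ores (inf_le_right : U K i ⊓ U K j ≤ U K j) (rat K j l) :=
    ores_dehom (⟨MvPolynomial.X l, LefPen.X_mem 2 K l⟩ : LefPen.Form 2 K 1) i j (U K i ⊓ U K j)
      inf_le_left inf_le_right
  have h2 := congrArg (gm K (U K i ⊓ U K j)) h
  rw [map_mul, map_pow, gm_ores, gm_ores, gm_ores, pow_one] at h2
  exact h2

theorem xx_ne (j : Fin 3) : xx K j ≠ 0 := by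
  have h : ores (inf_le_left : U K 0 ⊓ U K j ≤ U K 0) (rat K 0 j) *
        ores (inf_le_right : U K 0 ⊓ U K j ≤ U K j) (rat K j 0) = 1 :=
    ores_ratio_mul (k := K) (0 : Fin 3) j (U K 0 ⊓ U K j) inf_le_left inf_le_right
  have h2 := congrArg (gm K (U K 0 ⊓ U K j)) h
  rw [map_mul, gm_ores, gm_ores, map_one] at h2
  exact left_ne_zero_of_mul (h2 ▸ one_ne_zero)

theorem gm_rat (i j : Fin 3) : gm K (U K i) (rat K i j) = xx K j / xx K i := by
  have h := gm_rat_mul K 0 i j
  rw [eq_div_iff (xx_ne K i), mul_comm]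
  exact h.symm

/-- The coordinates of the chart `i` are the germs of the polynomials. -/
theorem gm_poly (i : Fin 3) (p : MvPolynomial (Fin 2) K) :
    gm K (U K i) (pol K i p) = MvPolynomial.aeval (fun l : Fin 2 => xx K (i.succAbove l) / xx K i) p := by
  have h : (gm K (U K i)).comp (pol K i) =
      (MvPolynomial.aeval (fun l : Fin 2 => xx K (i.succAbove l) / xx K i) :
        MvPolynomial (Fin 2) K →ₐ[K] E K).toRingHom := by
    apply MvPolynomial.ringHom_ext
    · intro c
      change gm K (U K i) (pol K i (MvPolynomial.C c)) =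
        MvPolynomial.aeval (fun l : Fin 2 => xx K (i.succAbove l) / xx K i) (MvPolynomial.C c)
      rw [MvPolynomial.aeval_C, algebraMap_eq K i]
    · intro l
      change gm K (U K i) (pol K i (MvPolynomial.X l)) =
        MvPolynomial.aeval (fun l : Fin 2 => xx K (i.succAbove l) / xx K i) (MvPolynomial.X l)
      rw [MvPolynomial.aeval_X, ← rat_succAbove, gm_rat]
  exact DFunLike.congr_fun h p

theorem exists_frac (W : (S K).Opens) [Nonempty W] (hW : IsAffineOpen W) (z : E K) :
    ∃ a b : Γ(S K, W), gm K W b ≠ 0 ∧ z * gm K W b = gm K W a := by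
  have := functionField_isFractionRing_of_isAffineOpen (S K) W hW
  obtain ⟨⟨a, b⟩, h⟩ := IsLocalization.surj (nonZeroDivisors Γ(S K, W)) z
  refine ⟨a, b.1, ?_, h⟩
  intro h0
  have h1 : b.1 = 0 := gm_injective K W (h0.trans (map_zero _).symm)
  exact nonZeroDivisors.ne_zero b.2 h1

/-- The structure of the function field of the plane. -/
noncomputable def pf : PF K (E K) where
  x := xx K
  x0 := by
    change gm K (U K 0) (rat K 0 0) = 1
    rw [rat_self, map_one]
  ne := xx_ne K
  inj i := by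
    intro p q h
    refine (pol_bijective K i).1 (gm_injective K (U K i) ?_)
    rw [gm_poly, gm_poly]
    exact h
  frac i z := by
    obtain ⟨a, b, hb, h⟩ := exists_frac K (U K i) (isAffineOpen_U K i) z
    obtain ⟨p, rfl⟩ := (pol_bijective K i).2 a
    obtain ⟨q, rfl⟩ := (pol_bijective K i).2 b
    rw [gm_poly] at hb h
    rw [gm_poly] at h
    exact ⟨p, q, hb, h⟩

theorem gm_mem (i : Fin 3) (s : Γ(S K, U K i)) : gm K (U K i) s ∈ (pf K).A i := by
  obtain ⟨p, rfl⟩ := (pol_bijective K i).2 s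
  exact ⟨p, (gm_poly K i p).symm⟩

theorem exists_gm {i : Fin 3} {z : E K} (hz : z ∈ (pf K).A i) : ∃ s, gm K (U K i) s = z := by
  obtain ⟨p, rfl⟩ := hz
  exact ⟨pol K i p, gm_poly K i p⟩

theorem gm_u (i : Fin 3) : gm K (U K i) (rat K i 0) = (pf K).u i := gm_rat K i 0

instance charP_E [CharP K 2] : CharP (E K) 2 := charP_of_injective_algebraMap (algebraMap K (E K)).injective 2

theorem isIntegrallyClosed_U (i : Fin 3) : IsIntegrallyClosed Γ(S K, U K i) :=
  IsIntegrallyClosed.of_equiv (RingEquiv.ofBijective _ (pol_bijective K i))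

/-- Elements of `E` integral over the functions of the chart. -/
theorem mem_A_of_isIntegralElem (i : Fin 3) {z : E K} (hz : (gm K (U K i)).IsIntegralElem z) : z ∈ (pf K).A i := by
  have h1 := functionField_isFractionRing_of_isAffineOpen (S K) (U K i) (isAffineOpen_U K i)
  have h2 := isIntegrallyClosed_U K i
  have h3 : IsIntegral Γ(S K, U K i) (z : (S K).functionField) := hz
  obtain ⟨y, hy⟩ := (IsIntegrallyClosed.isIntegral_iff).1 h3
  have h4 : gm K (U K i) y = z := hy
  exact h4 ▸ gm_mem K i y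

theorem iSup_U : ⨆ i, U K i = ⊤ := iSup_chart (r := 2) (k := K)

/-! ### The open `T` -/

/-- The intersection of the charts. -/
noncomputable def T : (S K).Opens := U K 0 ⊓ U K 1 ⊓ U K 2

instance nonempty_T : Nonempty (T K) := by
  have := nonempty_inf K (U K 0) (U K 1)
  exact nonempty_inf K (U K 0 ⊓ U K 1) (U K 2)

theorem T_le (i : Fin 3) : T K ≤ U K i := by
  fin_cases i
  · exact inf_le_left.trans inf_le_left
  · exact inf_le_left.trans inf_le_right
  · exact inf_le_right

theorem basicOpen_rat (i j : Fin 3) : (S K).basicOpen (rat K i j) = U K i ⊓ U K j := by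
  ext x
  constructor
  · intro hx
    have h1 : x ∈ U K i := (S K).basicOpen_le _ hx
    exact ⟨h1, (Groth.Agent.Lefpen.H716.CIGeom.mem_basicOpen_dehom_iff
      (⟨MvPolynomial.X j, LefPen.X_mem 2 K j⟩ : LefPen.Form 2 K 1) i x h1).1 hx⟩
  · rintro ⟨h1, h2⟩
    exact (Groth.Agent.Lefpen.H716.CIGeom.mem_basicOpen_dehom_iff
      (⟨MvPolynomial.X j, LefPen.X_mem 2 K j⟩ : LefPen.Form 2 K 1) i x h1).2 h2

/-- The equation of `T` in the charts. -/
noncomputable def fT (i : Fin 3) : Γ(S K, U K i) := rat K i 0 * rat K i 1 * rat K i 2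

theorem T_eq (i : Fin 3) : T K = (S K).basicOpen (fT K i) := by
  rw [fT, Scheme.basicOpen_mul, Scheme.basicOpen_mul, basicOpen_rat, basicOpen_rat, basicOpen_rat]
  ext x
  constructor
  · rintro ⟨⟨h0, h1⟩, h2⟩
    have hi : x ∈ U K i := T_le K i ⟨⟨h0, h1⟩, h2⟩
    exact ⟨⟨⟨hi, h0⟩, ⟨hi, h1⟩⟩, ⟨hi, h2⟩⟩
  · rintro ⟨⟨⟨hi, h0⟩, ⟨-, h1⟩⟩, ⟨-, h2⟩⟩
    exact ⟨⟨h0, h1⟩, h2⟩

theorem isAffineOpen_T : IsAffineOpen (T K) := by
  rw [T_eq K 0]
  exact (isAffineOpen_U K 0).basicOpen _

theorem isAffineOpen_inf (i j : Fin 3) : IsAffineOpen (U K i ⊓ U K j) := by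
  rw [← basicOpen_rat]
  exact (isAffineOpen_U K i).basicOpen _

end K816.Plane
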