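import Groth.Agent.Surf.K816.Plane
import Groth.Agent.LoccohA.HomDense
import Groth.Agent.ArtFun.K723.QuotFib
import Groth.Agent.CohqB.QC5

/-!
# Modules on the plane realized in vector spaces over the function field

`Real N V`: the sections of `N` over `T` are embedded in `V`.  `exists_hom`: an `E`-linear map `V → V'`
respecting the lattices over the three charts is induced by a morphism.  `exists_iso`: isomorphisms.
-/

set_option autoImplicit false
set_option linter.dupNamespace false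

universe u

open CategoryTheory AlgebraicGeometry TopologicalSpace Opposite

namespace K816.Real

open K816.Geo K816.Plane Groth.Agent.Ega1.QCohLoc Groth.Agent.Lefpen.H705.HypIdeal

variable {K : Type u} [Field K]

/-- A realization of the module `N` in `V`. -/
structure Real (N : (S K).Modules) (V : Type u) [AddCommGroup V] [Module (E K) V] where
  v : Γ(N, T K) →+ V
  smul : ∀ (a : Γ(S K, T K)) (s : Γ(N, T K)), v (a • s) = gm K (T K) a • v s
  inj : Function.Injective v
  inj2 : ∀ i j, Function.Injective (res N (le_inf (T_le K i) (T_le K j)))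

variable {V V' : Type u} [AddCommGroup V] [Module (E K) V] [AddCommGroup V'] [Module (E K) V']

theorem Real.inj1 {N : (S K).Modules} (R : Real N V) (i : Fin 3) : Function.Injective (res N (T_le K i)) := by
  intro s t hst
  have h1 : res N (inf_le_left : U K i ⊓ U K i ≤ U K i) s = res N inf_le_left t := by
    apply R.inj2 i i
    rw [res_res, res_res]
    exact hst
  have h2 := congrArg (res N (le_inf le_rfl le_rfl : U K i ≤ U K i ⊓ U K i)) h1
  rwa [res_res, res_res, res_rfl, res_rfl] at h2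

/-- The value of a section over a chart. -/
noncomputable def Real.w {N : (S K).Modules} (R : Real N V) (i : Fin 3) : Γ(N, U K i) →+ V :=
  R.v.comp (res N (T_le K i))

theorem Real.w_apply {N : (S K).Modules} (R : Real N V) (i : Fin 3) (s : Γ(N, U K i)) :
    R.w i s = R.v (res N (T_le K i) s) := rfl

theorem Real.w_injective {N : (S K).Modules} (R : Real N V) (i : Fin 3) : Function.Injective (R.w i) :=
  R.inj.comp (R.inj1 i)

theorem gm_resO {V W : (S K).Opens} [Nonempty V] [Nonempty W] (h : V ≤ W) (s : Γ(S K, W)) :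
    gm K V (resO h s) = gm K W s := gm_ores K h s

theorem Real.w_smul {N : (S K).Modules} (R : Real N V) (i : Fin 3) (a : Γ(S K, U K i)) (s : Γ(N, U K i)) :
    R.w i (a • s) = gm K (U K i) a • R.w i s := by
  rw [Real.w_apply, res_smul, R.smul, gm_resO, ← Real.w_apply]

/-- Sections over `T`. -/
theorem exists_T {G N : (S K).Modules} (RG : Real G V) (RN : Real N V') (hG : Coh.IsQCoh G)
    (lam : V →ₗ[E K] V') (i : Fin 3)
    (h : ∀ (s : Γ(G, U K i)), ∃ t : Γ(N, U K i), RN.w i t = lam (RG.w i s)) (s : Γ(G, T K)) :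
    ∃ t : Γ(N, T K), RN.v t = lam (RG.v s) := by
  obtain ⟨n, s', hs'⟩ := (isLocAt_of_isQCoh hG (isAffineOpen_U K i) (fT K i)).surj' (T_eq K i) (T_le K i) s
  obtain ⟨t', ht'⟩ := h s'
  have hu : IsUnit (resO (T_le K i) (fT K i)) :=
    Groth.Agent.LoccohA.HomDense.isUnit_resO' (fT K i) (T_eq K i) (T_le K i)
  obtain ⟨g, hg⟩ := (hu.pow n).exists_left_inv
  refine ⟨g • res N (T_le K i) t', ?_⟩
  have h1 : RG.v s = gm K (T K) g • RG.w i s' := by
    rw [RG.w_apply, hs', ← RG.smul, smul_smul, hg, one_smul]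
  rw [RN.smul, ← RN.w_apply, ht', h1, map_smul]

theorem iSup_ULift : (⨆ i : ULift.{u} (Fin 3), U K i.down) = ⊤ := by
  rw [eq_top_iff, ← iSup_U K]
  exact iSup_le fun j => le_iSup (fun i : ULift.{u} (Fin 3) => U K i.down) ⟨j⟩

/-- A linear map respecting the lattices is induced by a morphism. -/
theorem exists_hom {G N : (S K).Modules} (RG : Real G V) (RN : Real N V') (hG : Coh.IsQCoh G)
    (lam : V →ₗ[E K] V')
    (h : ∀ (i : Fin 3) (s : Γ(G, U K i)), ∃ t : Γ(N, U K i), RN.w i t = lam (RG.w i s)) :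
    ∃ φ : G ⟶ N, ∀ (s : Γ(G, T K)), RN.v (φ.app (T K) s) = lam (RG.v s) := by
  choose t ht using exists_T RG RN hG lam 0 (h 0)
  let l : Γ(G, T K) →ₗ[Γ(S K, T K)] Γ(N, T K) :=
    { toFun := t
      map_add' := fun a b => by
        apply RN.inj
        rw [ht, map_add, map_add, map_add, ht, ht]
      map_smul' := fun r a => by
        apply RN.inj
        rw [ht, RG.smul, map_smul, RingHom.id_apply, RN.smul, ht] }
  obtain ⟨φ, hφ⟩ := Groth.Agent.LoccohA.HomDense.exists_hom_of_dense (N := N) hG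
    (fun i : ULift.{u} (Fin 3) => U K i.down) iSup_ULift
    (fun i => isAffineOpen_U K i.down) (fun i j => isAffineOpen_inf K i.down j.down) (T K)
    (fun i => T_le K i.down) (fun i => ⟨_, T_eq K i.down⟩) (fun i j => RN.inj2 i.down j.down) l (by
      intro i s
      obtain ⟨r, hr⟩ := h i.down s
      refine ⟨r, ?_⟩
      apply RN.inj
      rw [← RN.w_apply, hr]
      change _ = RN.v (t _)
      rw [ht, RG.w_apply])
  exact ⟨φ, fun s => by rw [hφ]; exact ht s⟩

/-- Morphisms into a realized module are determined over `T`. -/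
theorem hom_ext {G N : (S K).Modules} (RN : Real N V') (hG : Coh.IsQCoh G) (φ ψ : G ⟶ N)
    (h : ∀ s : Γ(G, T K), RN.v (φ.app (T K) s) = RN.v (ψ.app (T K) s)) : φ = ψ :=
  Groth.Agent.LoccohA.HomDense.hom_ext_of_dense hG (fun i : ULift.{u} (Fin 3) => U K i.down) iSup_ULift
    (fun i => isAffineOpen_U K i.down) (T K) (fun i => T_le K i.down) (fun i => RN.inj1 i.down) φ ψ
    fun s => RN.inj (h s)

/-- The value of a morphism over a chart. -/
theorem w_app {G N : (S K).Modules} (RG : Real G V) (RN : Real N V') (φ : G ⟶ N) (lam : V → V')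
    (h : ∀ (s : Γ(G, T K)), RN.v (φ.app (T K) s) = lam (RG.v s)) (i : Fin 3) (s : Γ(G, U K i)) :
    RN.w i (φ.app (U K i) s) = lam (RG.w i s) := by
  rw [RN.w_apply, ← res_app, h]
  rfl

/-- Equal lattices give isomorphic modules. -/
theorem exists_iso {G N : (S K).Modules} (RG : Real G V) (RN : Real N V') (hG : Coh.IsQCoh G) (hN : Coh.IsQCoh N)
    (lam : V ≃ₗ[E K] V')
    (h : ∀ (i : Fin 3) (s : Γ(G, U K i)), ∃ t : Γ(N, U K i), RN.w i t = lam (RG.w i s))
    (h' : ∀ (i : Fin 3) (t : Γ(N, U K i)), ∃ s : Γ(G, U K i), RG.w i s = lam.symm (RN.w i t)) :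
    ∃ φ : G ≅ N, ∀ (s : Γ(G, T K)), RN.v (φ.hom.app (T K) s) = lam (RG.v s) := by
  obtain ⟨φ, hφ⟩ := exists_hom RG RN hG lam.toLinearMap h
  obtain ⟨ψ, hψ⟩ := exists_hom RN RG hN lam.symm.toLinearMap h'
  refine ⟨⟨φ, ψ, ?_, ?_⟩, hφ⟩
  · refine hom_ext RG hG _ _ fun s => ?_
    rw [Scheme.Modules.Hom.comp_app]
    change RG.v (ψ.app (T K) (φ.app (T K) s)) = RG.v s
    rw [hψ, hφ]
    exact lam.symm_apply_apply _
  · refine hom_ext RN hN _ _ fun s => ?_
    rw [Scheme.Modules.Hom.comp_app]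
    change RN.v (φ.app (T K) (ψ.app (T K) s)) = RN.v s
    rw [hφ, hψ]
    exact lam.apply_symm_apply _

/-- Exactness. -/
theorem exact_of_w {A B C : (S K).Modules} (f : A ⟶ B) (g : B ⟶ C) (w : f ≫ g = 0) (hA : Coh.IsQCoh A)
    (hB : Coh.IsQCoh B) (hC : Coh.IsQCoh C)
    (h : ∀ i (s : Γ(B, U K i)), g.app (U K i) s = 0 → ∃ t, f.app (U K i) t = s) :
    (ShortComplex.mk f g w).Exact :=
  K723.QuotFib.exact_of_sections (fun i => U K i) (isAffineOpen_U K) (iSup_U K) (ShortComplex.mk f g w) hA hB hC h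

theorem mono_of_w {A B : (S K).Modules} (f : A ⟶ B) (hA : Coh.IsQCoh A)
    (hB : Coh.IsQCoh B) (h : ∀ i (s : Γ(A, U K i)), f.app (U K i) s = 0 → s = 0) : Mono f :=
  K723.QuotFib.mono_of_sections (fun i => U K i) (isAffineOpen_U K) (iSup_U K) f hA hB h

theorem epi_of_w {A B : (S K).Modules} (f : A ⟶ B) (hA : Coh.IsQCoh A)
    (hB : Coh.IsQCoh B) (h : ∀ i (s : Γ(B, U K i)), ∃ t, f.app (U K i) t = s) : Epi f := by
  have h1 := exact_of_w f (0 : B ⟶ B) Limits.comp_zero hA hB hB fun i s _ => h i s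
  exact h1.epi_f rfl

end K816.Real
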