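import Groth.Agent.Ega4A.RegDer
import Groth.Agent.S0560
import Mathlib.RingTheory.Derivation.DifferentialRing
import Mathlib.RingTheory.RegularLocalRing.Polynomial

/-!
# Regularity of inseparable quadratic extensions

* `step`: `C = R[z]`, `z² = r`, free over the regular ring `R` with a derivation with `D r` a unit: `C` is regular.
* `der_step`: extension of derivations killing `r`.
* `reg_at`: regularity of `B` at a prime containing an ideal `I` which is principal there, with `B / I` regular.
-/

set_option autoImplicit false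

open Polynomial IsLocalRing

namespace K816.Reg

open Groth.Agent.Ega4A.RegDer

section step

variable {R C : Type*} [CommRing R] [CommRing C] (φ : R →+* C) (z : C) (r : R) (hz : z ^ 2 = φ r)
  (hsp : ∀ c, ∃ s s', c = φ s + φ s' * z) (hin : ∀ s s', φ s + φ s' * z = 0 → s = 0 ∧ s' = 0)

include hz hsp hin in
theorem step [IsRegularRing R] (D : Derivation ℤ R R) (hD : IsUnit (D r)) : IsRegularRing C := by
  let π : R[X] →+* C := eval₂RingHom φ z
  have hC : ∀ a, π (Polynomial.C a) = φ a := fun a => eval₂_C _ _
  have hX : π X = z := eval₂_X _ _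
  have hπ : Function.Surjective π := by
    intro c
    obtain ⟨s, s', rfl⟩ := hsp c
    exact ⟨Polynomial.C s + Polynomial.C s' * X, by rw [map_add, map_mul, hC, hC, hX]⟩
  have : IsNoetherianRing C := isNoetherianRing_of_surjective _ _ π hπ
  let : Differential R := ⟨D⟩
  let D' : Derivation ℤ R[X] R[X] := Differential.mapCoeffs
  have h1 : D' (X ^ 2 - Polynomial.C r) = -Polynomial.C (D r) := by
    have e1 : D' X = 0 := Differential.mapCoeffs_X
    have e2 : D' (Polynomial.C r) = Polynomial.C (D r) := Differential.mapCoeffs_C r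
    rw [map_sub, Derivation.leibniz_pow, e1, e2]
    simp
  rw [isRegularRing_iff]
  intro p hp
  have : Nontrivial C := ⟨⟨0, 1, fun h => hp.ne_top ((Ideal.eq_top_iff_one p).2 (h ▸ p.zero_mem))⟩⟩
  have : Nontrivial R := φ.domain_nontrivial
  refine isRegularLocalRing_of_surjective_of_derivation π hπ (X ^ 2 - Polynomial.C r)
    (by rw [map_sub, map_pow, hX, hC, hz, sub_self]) p ?_ D' inferInstance ?_
  · intro h hh
    refine ⟨1, by rw [map_one]; exact fun h => hp.ne_top ((Ideal.eq_top_iff_one p).2 h), ?_⟩
    rw [one_mul, Ideal.mem_span_singleton]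
    have hm : (X ^ 2 - Polynomial.C r).Monic := monic_X_pow_sub_C r two_ne_zero
    rw [← modByMonic_eq_zero_iff_dvd hm]
    have hdeg : (h %ₘ (X ^ 2 - Polynomial.C r)).degree ≤ 1 := by
      have h2 := degree_modByMonic_lt h hm
      rw [degree_X_pow_sub_C two_pos] at h2
      exact Order.le_of_lt_succ h2
    have e1 : π (h %ₘ (X ^ 2 - Polynomial.C r)) = 0 := by
      have := congrArg π (modByMonic_add_div h (X ^ 2 - Polynomial.C r))
      rw [map_add, map_mul, map_sub, map_pow, hX, hC, hz, sub_self, zero_mul, add_zero] at this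
      rw [this, hh]
    rw [eq_X_add_C_of_degree_le_one hdeg] at e1 ⊢
    rw [map_add, map_mul, hC, hX, hC, add_comm] at e1
    obtain ⟨h3, h4⟩ := hin _ _ e1
    rw [h3, h4, map_zero, zero_mul, add_zero]
  · have e : π (D' (X ^ 2 - Polynomial.C r)) = -φ (D r) := by rw [h1, map_neg, hC]
    intro h
    have h' : -φ (D r) ∈ p := by rw [← e]; exact h
    exact hp.ne_top (Ideal.eq_top_of_isUnit_mem _ (neg_mem_iff.1 h') (hD.map φ))

include hz hsp hin in
theorem der_step (D : Derivation ℤ R R) (hD : D r = 0) :
    ∃ D' : Derivation ℤ C C, (∀ s, D' (φ s) = φ (D s)) ∧ D' z = 0 := by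
  choose s s' hs using hsp
  have uniq : ∀ a b a' b', φ a + φ b * z = φ a' + φ b' * z → a = a' ∧ b = b' := by
    intro a b a' b' h
    have h1 := hin (a - a') (b - b') (by rw [map_sub, map_sub]; linear_combination h)
    exact ⟨sub_eq_zero.1 h1.1, sub_eq_zero.1 h1.2⟩
  let F : C → C := fun c => φ (D (s c)) + φ (D (s' c)) * z
  have hF : ∀ a b, F (φ a + φ b * z) = φ (D a) + φ (D b) * z := by
    intro a b
    obtain ⟨h3, h4⟩ := uniq _ _ _ _ (hs (φ a + φ b * z))
    change φ (D (s (φ a + φ b * z))) + φ (D (s' (φ a + φ b * z))) * z = _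
    rw [← h3, ← h4]
  have hadd : ∀ x y, F (x + y) = F x + F y := by
    intro x y
    have : x + y = φ (s x + s y) + φ (s' x + s' y) * z := by
      rw [map_add, map_add]
      linear_combination hs x + hs y
    rw [this, hF, map_add, map_add, map_add, map_add]
    change _ = φ (D (s x)) + φ (D (s' x)) * z + (φ (D (s y)) + φ (D (s' y)) * z)
    ring
  let F' : C →+ C := AddMonoidHom.mk' F hadd
  refine ⟨Derivation.mk' F'.toIntLinearMap ?_, fun a => ?_, ?_⟩
  · intro x y
    change F (x * y) = x * F y + y * F x
    have : x * y = φ (s x * s y + s' x * s' y * r) + φ (s x * s' y + s' x * s y) * z := by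
      have hx := hs x
      have hy := hs y
      simp only [map_add, map_mul]
      rw [← hz]
      linear_combination y * hx + (φ (s x) + φ (s' x) * z) * hy
    rw [this, hF]
    change _ = x * (φ (D (s y)) + φ (D (s' y)) * z) + y * (φ (D (s x)) + φ (D (s' x)) * z)
    have hx := hs x
    have hy := hs y
    simp only [map_add, Derivation.leibniz, hD, smul_eq_mul, map_mul, mul_zero, zero_add]
    rw [← hz]
    linear_combination (-(φ (D (s y)) + φ (D (s' y)) * z)) * hx - (φ (D (s x)) + φ (D (s' x)) * z) * hy
  · change F (φ a) = _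
    have := hF a 0
    rwa [map_zero, map_zero, zero_mul, add_zero, map_zero, zero_mul, add_zero] at this
  · change F z = _
    have := hF 0 1
    rwa [map_zero, map_zero, map_one, one_mul, zero_add, D.map_one_eq_zero, map_zero, zero_mul, add_zero] at this

end step

universe u

/-- Regularity at a prime containing a locally principal ideal. -/
theorem reg_at {B Q : Type u} [CommRing B] [IsNoetherianRing B] [IsDomain B] [CommRing Q] [IsRegularRing Q]
    (π : B →+* Q) (hπ : Function.Surjective π) {e m : B} (he : π e = 0) (he0 : e ≠ 0)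
    (hI : ∀ x, π x = 0 → m * x ∈ Ideal.span {e}) (p : Ideal B) [p.IsPrime] (hIp : ∀ x, π x = 0 → x ∈ p)
    (hm : m ∉ p) : IsRegularLocalRing (Localization.AtPrime p) := by
  have hker : RingHom.ker π ≤ p := fun x hx => hIp x hx
  let q : Ideal Q := p.map π
  have hq : q.IsPrime := Ideal.map_isPrime_of_surjective hπ hker
  have hcq : q.comap π = p := by
    rw [Ideal.comap_map_of_surjective π hπ]
    exact sup_eq_left.2 hker
  have hmap : Submonoid.map π p.primeCompl = q.primeCompl := by
    ext x
    constructor
    · rintro ⟨y, hy, rfl⟩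
      intro h
      exact hy (hcq ▸ (Ideal.mem_comap.2 h))
    · intro hx
      obtain ⟨y, rfl⟩ := hπ x
      exact ⟨y, fun hy => hx (Ideal.mem_map_of_mem _ hy), rfl⟩
  have hloc : IsLocalization (Submonoid.map π p.primeCompl) (Localization.AtPrime q) := by
    rw [hmap]; infer_instance
  let φ : Localization.AtPrime p →+* Localization.AtPrime q :=
    IsLocalization.map (Localization.AtPrime q) π (hmap.symm ▸ Submonoid.le_comap_map _)
  have hφ : Function.Surjective φ :=
    IsLocalization.map_surjective_of_surjective p.primeCompl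
      (Localization.AtPrime p) (Localization.AtPrime q) hπ
  have hkφ : RingHom.ker φ = Ideal.span {algebraMap B (Localization.AtPrime p) e} := by
    have := IsLocalization.ker_map (S := Localization.AtPrime p)
      (Localization.AtPrime q) π hmap
    rw [this, ← Set.image_singleton, ← Ideal.map_span]
    apply le_antisymm
    · rw [Ideal.map_le_iff_le_comap]
      intro h hh
      rw [Ideal.mem_comap, IsLocalization.algebraMap_mem_map_algebraMap_iff p.primeCompl]
      exact ⟨m, hm, hI h hh⟩
    · apply Ideal.map_mono
      rw [Ideal.span_le, Set.singleton_subset_iff]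
      exact he
  have h3 : IsRegularLocalRing (Localization.AtPrime p ⧸ Ideal.span {algebraMap B (Localization.AtPrime p) e}) := by
    rw [← hkφ]
    exact IsRegularLocalRing.of_ringEquiv (RingHom.quotientKerEquivOfSurjective hφ).symm
  refine Groth.Agent.S0560.result _ (algebraMap B (Localization.AtPrime p) e) ?_ ?_
  · rw [← Localization.AtPrime.map_eq_maximalIdeal]
    exact Ideal.mem_map_of_mem _ (hIp _ he)
  · refine mem_nonZeroDivisors_of_ne_zero ?_
    rw [Ne, map_eq_zero_iff _ (IsLocalization.injective _ p.primeCompl_le_nonZeroDivisors)]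
    exact he0

end K816.Reg
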