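import Groth.Agent.Surf.K816.CovTwo
import Groth.Agent.Surf.K816.Reg

/-!
# The rings of the charts and their regularity

`Bs F L i`: the ring of `x` with `x² ∈ A i`; `Is F L i`: the ideal of `x` with `x² ∈ u_i (A i)`.
-/

set_option autoImplicit false
set_option linter.unusedSimpArgs false
set_option linter.unusedSectionVars false
set_option linter.dupNamespace false

universe u

open MvPolynomial

namespace K816.RegOne

open K816.Alg K816.Fld K816.Geo K816.Lat K816.Cov K816.CovTwo K816.Reg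

theorem add_sq_char (E : Type u) {L : Type u} [Field E] [Field L] [Algebra E L] [CharP E 2] (x y : L) :
    (x + y) ^ 2 = x ^ 2 + y ^ 2 := by
  have two : (2 : L) = 0 := by rw [← map_ofNat (algebraMap E L) 2, two_eq_zero, map_zero]
  linear_combination (x * y) * two

variable {K E : Type u} [Field K] [Field E] [Algebra K E]

section defs

variable (F : PF K E) (L : Type u) [Field L] [Algebra E L] [CharP E 2]

/-- The ring of the chart. -/
def Bs (i : Fin 3) : Subring L where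
  carrier := {x | InB F L i x}
  mul_mem' := by
    rintro x y ⟨s, hs, hx⟩ ⟨t, ht, hy⟩
    exact ⟨s * t, Subalgebra.mul_mem _ hs ht, by rw [mul_pow, hx, hy, map_mul]⟩
  one_mem' := ⟨1, Subalgebra.one_mem _, by simp⟩
  add_mem' := by
    rintro x y ⟨s, hs, hx⟩ ⟨t, ht, hy⟩
    exact ⟨s + t, Subalgebra.add_mem _ hs ht, by rw [add_sq_char E, hx, hy, map_add]⟩
  zero_mem' := ⟨0, Subalgebra.zero_mem _, by simp⟩
  neg_mem' := by
    rintro x ⟨s, hs, hx⟩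
    exact ⟨s, hs, by rw [neg_sq, hx]⟩

theorem mem_Bs {i : Fin 3} {x : L} : x ∈ Bs F L i ↔ InB F L i x := Iff.rfl

/-- The ideal of the chart. -/
def Is (i : Fin 3) : Ideal (Bs F L i) where
  carrier := {x | InI F L i x.1}
  add_mem' := by
    rintro ⟨x, hx'⟩ ⟨y, hy'⟩ ⟨s, hs, hx⟩ ⟨t, ht, hy⟩
    exact ⟨s + t, Subalgebra.add_mem _ hs ht, by
      change (x + y) ^ 2 = _
      rw [add_sq_char E, hx, hy, ← map_add, mul_add]⟩
  zero_mem' := ⟨0, Subalgebra.zero_mem _, by simp⟩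
  smul_mem' := by
    rintro ⟨x, ⟨t, ht, hx⟩⟩ ⟨y, _⟩ ⟨s, hs, hy⟩
    refine ⟨t * s, Subalgebra.mul_mem _ ht hs, ?_⟩
    change (x * y) ^ 2 = _
    rw [mul_pow, hx, hy, ← map_mul]
    congr 1
    ring

theorem mem_Is {i : Fin 3} {x : Bs F L i} : x ∈ Is F L i ↔ InI F L i x.1 := Iff.rfl

end defs

section res

/-- The restriction of a derivation. -/
noncomputable def resD {A : Subalgebra K E} (D : Derivation ℤ E E) (h : St D A) : Derivation ℤ A A :=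
  Derivation.mk' (AddMonoidHom.mk' (fun a : A => (⟨D a.1, h a.1 a.2⟩ : A)) (by
    intro a b
    apply Subtype.ext
    exact map_add D a.1 b.1)).toIntLinearMap (by
    intro a b
    apply Subtype.ext
    exact D.leibniz a.1 b.1)

theorem resD_coe {A : Subalgebra K E} (D : Derivation ℤ E E) (h : St D A) (a : A) : (resD D h a : E) = D a.1 := rfl

end res

instance isRegularRing_A (F : PF K E) (i : Fin 3) : IsRegularRing (F.A i) := by
  have : IsRegularRing K := inferInstance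
  exact IsRegularRing.of_ringEquiv (AlgEquiv.ofInjective (aeval (F.c i)) (F.inj i)).toRingEquiv

section one

variable {L : Type u} [Field L] [Algebra E L] [CharP E 2] {F : PF K E} {w : Par K}
  (ρ : Rt F w L) (hsp : ∀ x : L, ∃ d, x = el ρ 0 d)

local notation "ι" => algebraMap E L

/-- The intermediate ring `A[α]`. -/
def C1 : Subring L where
  carrier := {x | ∃ a ∈ F.A 0, ∃ b ∈ F.A 0, x = ι a + ι b * ρ.α}
  mul_mem' := by
    rintro x y ⟨a, ha, b, hb, rfl⟩ ⟨c, hc, d, hd, rfl⟩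
    refine ⟨a * c + b * d * pp F w 0, Subalgebra.add_mem _ (Subalgebra.mul_mem _ ha hc) (Subalgebra.mul_mem _
      (Subalgebra.mul_mem _ hb hd) (pp_mem F w 0)), a * d + b * c, Subalgebra.add_mem _ (Subalgebra.mul_mem _ ha hd)
      (Subalgebra.mul_mem _ hb hc), ?_⟩
    simp only [map_add, map_mul, ← ρ.hα]
    ring
  one_mem' := ⟨1, Subalgebra.one_mem _, 0, Subalgebra.zero_mem _, by simp⟩
  add_mem' := by
    rintro x y ⟨a, ha, b, hb, rfl⟩ ⟨c, hc, d, hd, rfl⟩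
    refine ⟨a + c, Subalgebra.add_mem _ ha hc, b + d, Subalgebra.add_mem _ hb hd, ?_⟩
    simp only [map_add]
    ring
  zero_mem' := ⟨0, Subalgebra.zero_mem _, 0, Subalgebra.zero_mem _, by simp⟩
  neg_mem' := by
    rintro x ⟨a, ha, b, hb, rfl⟩
    refine ⟨-a, Subalgebra.neg_mem _ ha, -b, Subalgebra.neg_mem _ hb, ?_⟩
    simp only [map_neg]
    ring

theorem C1_le : C1 ρ ≤ Bs F L 0 := by
  rintro x ⟨a, ha, b, hb, rfl⟩
  refine ⟨a ^ 2 + b ^ 2 * pp F w 0, Subalgebra.add_mem _ (Subalgebra.pow_mem _ ha 2) (Subalgebra.mul_mem _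
    (Subalgebra.pow_mem _ hb 2) (pp_mem F w 0)), ?_⟩
  rw [add_sq_char E, mul_pow, ρ.hα]
  simp only [map_add, map_mul, map_pow]

/-- The first inclusion. -/
def φ1 : F.A 0 →+* C1 ρ where
  toFun a := ⟨ι a.1, a.1, a.2, 0, Subalgebra.zero_mem _, by simp⟩
  map_one' := Subtype.ext (map_one ι)
  map_zero' := Subtype.ext (map_zero ι)
  map_add' a b := Subtype.ext (map_add ι a.1 b.1)
  map_mul' a b := Subtype.ext (map_mul ι a.1 b.1)

/-- The element `α`. -/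
def αC : C1 ρ := ⟨ρ.α, 0, Subalgebra.zero_mem _, 1, Subalgebra.one_mem _, by simp⟩

/-- The second inclusion. -/
def φ2 : C1 ρ →+* Bs F L 0 := Subring.inclusion (C1_le ρ)

/-- The element `β`. -/
def βC : Bs F L 0 := ⟨ρ.β, rr F w 0, rr_mem F w 0, ρ.hβ⟩

theorem s1_sq : αC ρ ^ 2 = φ1 ρ ⟨pp F w 0, pp_mem F w 0⟩ := Subtype.ext ρ.hα

theorem s1_sp (c : C1 ρ) : ∃ s s', c = φ1 ρ s + φ1 ρ s' * αC ρ := by
  obtain ⟨x, a, ha, b, hb, rfl⟩ := c
  exact ⟨⟨a, ha⟩, ⟨b, hb⟩, rfl⟩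

theorem el_zero' (c : Fin 4 → E) : el ρ 0 c = (ι (c 0) + ι (c 1) * ρ.α) + (ι (c 2) + ι (c 3) * ρ.α) * ρ.β := by
  change ι (c 0) + ι (c 1) * ρ.α + ι (c 2) * ρ.β + ι (c 3) * (ι (F.u 0)⁻¹ * (ρ.α * ρ.β)) = _
  rw [F.u_zero, inv_one, map_one]
  ring

theorem s1_in (s s' : F.A 0) (h : φ1 ρ s + φ1 ρ s' * αC ρ = 0) : s = 0 ∧ s' = 0 := by
  have h1 : ι s.1 + ι s'.1 * ρ.α = 0 := congrArg Subtype.val h
  have h2 := el_inj ρ (i := 0) (c := ![s.1, s'.1, 0, 0]) (by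
    rw [el_zero']
    simpa using h1)
  exact ⟨Subtype.ext (congrFun h2 0), Subtype.ext (congrFun h2 1)⟩

theorem s2_sq : βC ρ ^ 2 = φ2 ρ (φ1 ρ ⟨rr F w 0, rr_mem F w 0⟩) := Subtype.ext ρ.hβ

include hsp in
theorem s2_sp (c : Bs F L 0) : ∃ s s', c = φ2 ρ s + φ2 ρ s' * βC ρ := by
  obtain ⟨x, s, hs, hx⟩ := c
  obtain ⟨c, rfl⟩ := hsp x
  have hc := mem_of_sq ρ hs hx
  exact ⟨⟨_, c 0, hc 0, c 1, hc 1, rfl⟩, ⟨_, c 2, hc 2, c 3, hc 3, rfl⟩, Subtype.ext (el_zero' ρ c)⟩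

theorem s2_in (s s' : C1 ρ) (h : φ2 ρ s + φ2 ρ s' * βC ρ = 0) : s = 0 ∧ s' = 0 := by
  obtain ⟨x, a, ha, b, hb, rfl⟩ := s
  obtain ⟨x', c, hc, d, hd, rfl⟩ := s'
  have h1 : (ι a + ι b * ρ.α) + (ι c + ι d * ρ.α) * ρ.β = 0 := congrArg Subtype.val h
  have h2 := el_inj ρ (i := 0) (c := ![a, b, c, d]) (by
    rw [el_zero']
    simpa using h1)
  have h3 : a = 0 := congrFun h2 0
  have h4 : b = 0 := congrFun h2 1
  have h5 : c = 0 := congrFun h2 2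
  have h6 : d = 0 := congrFun h2 3
  exact ⟨Subtype.ext (by simp [h3, h4]), Subtype.ext (by simp [h5, h6])⟩

theorem reg_C1 : IsRegularRing (C1 ρ) :=
  step (φ1 ρ) (αC ρ) _ (s1_sq ρ) (s1_sp ρ) (s1_in ρ) (resD (F.D w 1) (F.st_D w 1 0)) (by
    have : resD (F.D w 1) (F.st_D w 1 0) ⟨pp F w 0, pp_mem F w 0⟩ = 1 := Subtype.ext (D_pp0 F w 1)
    rw [this]
    exact isUnit_one)

/-- `D_2` on `C1`. -/
theorem exists_D2 : ∃ D' : Derivation ℤ (C1 ρ) (C1 ρ),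
    (∀ s, D' (φ1 ρ s) = φ1 ρ (resD (F.D w 2) (F.st_D w 2 0) s)) ∧ D' (αC ρ) = 0 :=
  der_step (φ1 ρ) (αC ρ) _ (s1_sq ρ) (s1_sp ρ) (s1_in ρ) _ (Subtype.ext (D_pp0 F w 2))

include hsp in
theorem reg_B0 : IsRegularRing (Bs F L 0) := by
  obtain ⟨D', h1, -⟩ := exists_D2 ρ
  have := reg_C1 ρ
  refine step (φ2 ρ) (βC ρ) _ (s2_sq ρ) (s2_sp ρ hsp) (s2_in ρ) D' ?_
  have h2 : resD (F.D w 2) (F.st_D w 2 0) ⟨rr F w 0, rr_mem F w 0⟩ = 1 := Subtype.ext (D_rr0 F w 2)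
  rw [h1, h2, map_one]
  exact isUnit_one

include hsp in
/-- `D_0` on the ring of the chart `0`. -/
theorem exists_D0 : ∃ D' : Derivation ℤ (Bs F L 0) (Bs F L 0),
    ∀ s, D' (φ2 ρ (φ1 ρ s)) = φ2 ρ (φ1 ρ (resD (F.D w 0) (F.st_D w 0 0) s)) := by
  obtain ⟨D1, h1, -⟩ := der_step (φ1 ρ) (αC ρ) _ (s1_sq ρ) (s1_sp ρ) (s1_in ρ)
    (resD (F.D w 0) (F.st_D w 0 0)) (Subtype.ext (D_pp0 F w 0))
  obtain ⟨D2, h2, -⟩ := der_step (φ2 ρ) (βC ρ) _ (s2_sq ρ) (s2_sp ρ hsp) (s2_in ρ) D1 (by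
    rw [h1]
    have : resD (F.D w 0) (F.st_D w 0 0) ⟨rr F w 0, rr_mem F w 0⟩ = 0 := Subtype.ext (D_rr0 F w 0)
    rw [this, map_zero])
  exact ⟨D2, fun s => by rw [h2, h1]⟩

end one

section two

variable {L : Type u} [Field L] [Algebra E L] [CharP E 2] {F : PF K E} {w : Par K}
  (ρ : Rt F w L) (hsp : ∀ x : L, ∃ d, x = el ρ 0 d)
variable {M : Type u} [Field M] [Algebra E M] [Algebra L M] [IsScalarTower E L M]
variable (σ : Rt2 F w M) (hsp2 : ∀ x : M, ∃ y z : L, x = algebraMap L M y + algebraMap L M z * σ.t)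

/-- The inclusion of the charts. -/
def φ3 (F : PF K E) (L M : Type u) [Field L] [Algebra E L] [Field M] [Algebra E M] [Algebra L M]
    [IsScalarTower E L M] (i : Fin 3) : Bs F L i →+* Bs F M i :=
  ((algebraMap L M).comp (Bs F L i).subtype).codRestrict (Bs F M i) (by
    rintro ⟨x, s, hs, hx⟩
    exact ⟨s, hs, by
      change (algebraMap L M x) ^ 2 = _
      rw [← map_pow, hx, ← IsScalarTower.algebraMap_apply]⟩)

/-- The good coordinate. -/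
noncomputable def tC (i : Fin 3) : Bs F M i := ⟨tt ρ σ i, T F w i, T_mem i, tt_sq ρ σ i⟩

include hsp hsp2 in
theorem s3_sp (i : Fin 3) (c : Bs F M i) : ∃ s s', c = φ3 F L M i s + φ3 F L M i s' * tC ρ σ i := by
  obtain ⟨x, s, hs, hx⟩ := c
  obtain ⟨y, z, rfl⟩ := exists_yz ρ σ hsp hsp2 i x
  obtain ⟨h1, h2⟩ := comp_mem ρ σ hsp hx
  have h3 := F.st_D w 0 i _ hs
  exact ⟨⟨y, _, Subalgebra.sub_mem _ hs (Subalgebra.mul_mem _ h3 (T_mem i)), h2⟩, ⟨z, _, h3, h1⟩, rfl⟩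

include hsp hsp2 in
theorem reg_B0' : IsRegularRing (Bs F M 0) := by
  obtain ⟨D', h1⟩ := exists_D0 ρ hsp
  have := reg_B0 ρ hsp
  refine step (φ3 F L M 0) (tC ρ σ 0) (φ2 ρ (φ1 ρ ⟨T F w 0, T_mem 0⟩)) ?_ (s3_sp ρ hsp σ hsp2 0) ?_ D' ?_
  · apply Subtype.ext
    change tt ρ σ 0 ^ 2 = algebraMap L M (algebraMap E L (T F w 0))
    rw [tt_sq, ← IsScalarTower.algebraMap_apply]
  · intro s s' h
    obtain ⟨h3, h4⟩ := eq_zero_of ρ σ hsp (i := 0) (congrArg Subtype.val h)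
    exact ⟨Subtype.ext h3, Subtype.ext h4⟩
  · have h2 : resD (F.D w 0) (F.st_D w 0 0) ⟨T F w 0, T_mem 0⟩ = 1 := Subtype.ext (D_T 0)
    rw [h1, h2, map_one, map_one]
    exact isUnit_one

end two

end K816.RegOne
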