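import Groth.Agent.Surf.K816.RegTwo

/-!
# Regularity of the charts

* `Good F L`: all the local regularity statements for the cover with function field `L`.
* `good_one`, `good_two`.
-/

set_option autoImplicit false
set_option linter.unusedSimpArgs false
set_option linter.unusedSectionVars false
set_option linter.dupNamespace false

universe u

namespace K816.RegThree

open K816.Alg K816.Fld K816.Geo K816.Lat K816.Cov K816.CovTwo K816.Reg K816.RegOne K816.RegTwo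

variable {K E : Type u} [Field K] [Field E] [Algebra K E]

/-- The regularity statements. -/
structure Good (F : PF K E) (L : Type u) [Field L] [Algebra E L] [CharP E 2] : Prop where
  zero : ∀ (p : Ideal (Bs F L 0)) [p.IsPrime], IsRegularLocalRing (Localization.AtPrime p)
  one : ∀ (p : Ideal (Bs F L 1)) [p.IsPrime], φA F L 1 ⟨F.u 1, F.u_mem 1⟩ ∈ p →
    IsRegularLocalRing (Localization.AtPrime p)
  two : ∀ (p : Ideal (Bs F L 2)) [p.IsPrime], φA F L 2 ⟨F.u 2, F.u_mem 2⟩ ∈ p → φA F L 2 ⟨F.c 2 1, F.c_mem 2 1⟩ ∈ p →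
    IsRegularLocalRing (Localization.AtPrime p)

/-- The derivation of `K[v]` induced by one of `K`. -/
theorem exists_mapCoeffs {R : Type u} [CommRing R] (δ : Derivation ℤ R R) :
    ∃ D : Derivation ℤ (Polynomial R) (Polynomial R), (∀ a, D (Polynomial.C a) = Polynomial.C (δ a)) ∧
      D Polynomial.X = 0 := by
  let : Differential R := ⟨δ⟩
  let D : Derivation ℤ (Polynomial R) (Polynomial R) := Differential.mapCoeffs
  refine ⟨D, fun a => ?_, ?_⟩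
  · exact Differential.mapCoeffs_C a
  · exact Differential.mapCoeffs_X

/-- The derivative. -/
theorem exists_deriv (R : Type u) [CommRing R] :
    ∃ D : Derivation ℤ (Polynomial R) (Polynomial R), (∀ a, D (Polynomial.C a) = 0) ∧
      D Polynomial.X = 1 := by
  refine ⟨Derivation.mk' (AddMonoidHom.mk' (fun p : Polynomial R => Polynomial.derivative p)
    (fun a b => Polynomial.derivative_add)).toIntLinearMap ?_, fun a => ?_, ?_⟩
  · intro a b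
    change Polynomial.derivative (a * b) = a * Polynomial.derivative b + b * Polynomial.derivative a
    rw [Polynomial.derivative_mul]
    ring
  · exact Polynomial.derivative_C
  · exact Polynomial.derivative_X

variable {L : Type u} [Field L] [Algebra E L] [CharP E 2] {F : PF K E} {w : Par K}
  (ρ : Rt F w L) (hsp : ∀ x : L, ∃ d, x = el ρ 0 d)
variable {M : Type u} [Field M] [Algebra E M] [Algebra L M] [IsScalarTower E L M]
variable (σ : Rt2 F w M) (hsp2 : ∀ x : M, ∃ y z : L, x = algebraMap L M y + algebraMap L M z * σ.t)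

/-- The equation over the point at infinity. -/
noncomputable def rv (w : Par K) : Fin 3 → Polynomial K
  | 0 => 0
  | 1 => Polynomial.X ^ 3 + Polynomial.C (w.a 3)
  | 2 => Polynomial.X + Polynomial.C (w.a 3) * Polynomial.X ^ 4

theorem eq_rv_one : ∃ m : F.A 1, (⟨pp F w 1, pp_mem F w 1⟩ : F.A 1) * ⟨rr F w 1, rr_mem F w 1⟩ =
    pv F 1 (rv w 1) + ⟨F.u 1, F.u_mem 1⟩ * m := by
  have h1 : pv F 1 (rv w 1) = ⟨F.c 1 1, F.c_mem 1 1⟩ ^ 3 + ⟨aE w 3, aE_mem F w 3 1⟩ := by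
    change pv F 1 (Polynomial.X ^ 3 + Polynomial.C (w.a 3)) = _
    rw [map_add, map_pow]
    congr 1
    · congr 1
      exact Polynomial.aeval_X _
    · exact Polynomial.aeval_C _ _
  rw [h1]
  refine ⟨⟨(aE w 1 * F.u 1 ^ 2 + F.u 1 * F.c 1 1) * rr F w 1 + aE w 2 + aE w 1 * F.c 1 1 ^ 2, ?_⟩, Subtype.ext ?_⟩
  · have h1 := aE_mem F w 1 1
    have h2 := aE_mem F w 2 1
    have h3 := F.u_mem 1
    have h4 := F.c_mem 1 1
    have h5 := rr_mem F w 1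
    repeat' first
      | assumption
      | apply Subalgebra.add_mem
      | apply Subalgebra.mul_mem
      | apply Subalgebra.pow_mem
  · change pp F w 1 * rr F w 1 = F.c 1 1 ^ 3 + aE w 3 + F.u 1 *
      ((aE w 1 * F.u 1 ^ 2 + F.u 1 * F.c 1 1) * rr F w 1 + aE w 2 + aE w 1 * F.c 1 1 ^ 2)
    have h2 : pp F w 1 = 1 + aE w 1 * F.u 1 ^ 3 + F.u 1 ^ 2 * F.c 1 1 := rfl
    have h3 : rr F w 1 = aE w 2 * F.u 1 + aE w 3 + aE w 1 * (F.u 1 * F.c 1 1 ^ 2) + F.c 1 1 ^ 3 := rfl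
    rw [h2, h3]
    ring

theorem eq_rv_two : ∃ m : F.A 2, (⟨pp F w 2, pp_mem F w 2⟩ : F.A 2) * ⟨rr F w 2, rr_mem F w 2⟩ =
    pv F 2 (rv w 2) + ⟨F.u 2, F.u_mem 2⟩ * m := by
  have h1 : pv F 2 (rv w 2) = ⟨F.c 2 1, F.c_mem 2 1⟩ + ⟨aE w 3, aE_mem F w 3 2⟩ * ⟨F.c 2 1, F.c_mem 2 1⟩ ^ 4 := by
    change pv F 2 (Polynomial.X + Polynomial.C (w.a 3) * Polynomial.X ^ 4) = _
    rw [map_add, map_mul, map_pow]
    have e1 : pv F 2 Polynomial.X = ⟨F.c 2 1, F.c_mem 2 1⟩ := Polynomial.aeval_X _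
    have e2 : pv F 2 (Polynomial.C (w.a 3)) = ⟨aE w 3, aE_mem F w 3 2⟩ := Polynomial.aeval_C _ _
    rw [e1, e2]
  rw [h1]
  refine ⟨⟨(aE w 2 * F.u 2 ^ 2 + aE w 3 * (F.u 2 * F.c 2 1)) * rr F w 2 +
    F.c 2 1 * (aE w 1 + aE w 2 * F.c 2 1 ^ 2), ?_⟩, Subtype.ext ?_⟩
  · have h1 := aE_mem F w 1 2
    have h2 := aE_mem F w 2 2
    have h22 := aE_mem F w 3 2
    have h3 := F.u_mem 2
    have h4 := F.c_mem 2 1
    have h5 := rr_mem F w 2
    repeat' first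
      | assumption
      | apply Subalgebra.add_mem
      | apply Subalgebra.mul_mem
      | apply Subalgebra.pow_mem
  · change pp F w 2 * rr F w 2 = F.c 2 1 + aE w 3 * F.c 2 1 ^ 4 + F.u 2 *
      ((aE w 2 * F.u 2 ^ 2 + aE w 3 * (F.u 2 * F.c 2 1)) * rr F w 2 + F.c 2 1 * (aE w 1 + aE w 2 * F.c 2 1 ^ 2))
    have h2 : pp F w 2 = F.c 2 1 + aE w 2 * F.u 2 ^ 3 + aE w 3 * (F.u 2 ^ 2 * F.c 2 1) := rfl
    have h3 : rr F w 2 = 1 + aE w 1 * F.u 2 + aE w 2 * (F.u 2 * F.c 2 1 ^ 2) + aE w 3 * F.c 2 1 ^ 3 := rfl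
    rw [h2, h3]
    ring

theorem rv_zero (D : Derivation ℤ (Polynomial K) (Polynomial K)) (h1 : D (Polynomial.C (w.a 3)) = 0)
    (h2 : D Polynomial.X = 0) (i : Fin 3) : D (rv w i) = 0 := by
  fin_cases i
  · exact map_zero D
  · change D (Polynomial.X ^ 3 + Polynomial.C (w.a 3)) = 0
    rw [map_add, h1, Derivation.leibniz_pow, h2]
    simp
  · change D (Polynomial.X + Polynomial.C (w.a 3) * Polynomial.X ^ 4) = 0
    rw [map_add, Derivation.leibniz, h1, h2, Derivation.leibniz_pow, h2]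
    simp

include E in
theorem two_K : (2 : Polynomial K) = 0 := by
  have h : (2 : K) = 0 := by
    have h1 : algebraMap K E 2 = 0 := by rw [map_ofNat, two_eq_zero]
    exact (map_eq_zero_iff _ (algebraMap K E).injective).1 h1
  rw [← map_ofNat (Polynomial.C : K →+* Polynomial K) 2, h, map_zero]

include hsp in
theorem reg_Q1 : IsRegularRing (Bs F L 1 ⧸ Is F L 1) := by
  obtain ⟨m, hm⟩ := eq_rv_one (F := F) (w := w)
  obtain ⟨D, h1, h2⟩ := exists_mapCoeffs (w.δ 3)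
  have : IsRegularRing K := inferInstance
  refine step (ψ F L 1) _ (rv w 1) (z_sq ρ hm) (z_sp ρ hsp F.u_one) (z_in ρ F.u_one) D ?_
  have h3 : D (rv w 1) = 1 := by
    change D (Polynomial.X ^ 3 + Polynomial.C (w.a 3)) = 1
    rw [map_add, h1, Derivation.leibniz_pow, h2, w.hδ]
    simp
  have h4 : IsUnit (D (rv w 1)) := by rw [h3]; exact isUnit_one
  exact h4

include hsp in
theorem reg_Q2 : IsRegularRing (Bs F L 2 ⧸ Is F L 2) := by
  obtain ⟨m, hm⟩ := eq_rv_two (F := F) (w := w)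
  obtain ⟨D, h1, h2⟩ := exists_deriv K
  have : IsRegularRing K := inferInstance
  refine step (ψ F L 2) _ (rv w 2) (z_sq ρ hm) (z_sp ρ hsp F.u_two) (z_in ρ F.u_two) D ?_
  have h3 : D (rv w 2) = 1 := by
    change D (Polynomial.X + Polynomial.C (w.a 3) * Polynomial.X ^ 4) = 1
    rw [map_add, Derivation.leibniz, h1, h2, Derivation.leibniz_pow, h2]
    have two := two_K (K := K) (E := E)
    simp only [smul_eq_mul, mul_one, mul_zero, add_zero, nsmul_eq_mul, Nat.cast_ofNat]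
    linear_combination (2 * Polynomial.C (w.a 3) * Polynomial.X ^ 3) * two
  have h4 : IsUnit (D (rv w 2)) := by rw [h3]; exact isUnit_one
  exact h4

include hsp hsp2 in
theorem reg_Q' {i : Fin 3} (hi : F.u i = F.c i 0) {m : F.A i}
    (hm : (⟨_, pp_mem F w i⟩ : F.A i) * ⟨_, rr_mem F w i⟩ = pv F i (rv w i) + ⟨F.u i, F.u_mem i⟩ * m)
    {m' : F.A i} (hT : (⟨T F w i, T_mem i⟩ : F.A i) = ⟨aE w 0, aE_mem F w 0 i⟩ + ⟨F.u i, F.u_mem i⟩ * m')
    (h : IsRegularRing (Bs F L i ⧸ Is F L i)) : IsRegularRing (Bs F M i ⧸ Is F M i) := by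
  obtain ⟨D, h1, h2⟩ := exists_mapCoeffs (w.δ 0)
  obtain ⟨D', h3, -⟩ := der_step (ψ F L i) _ (rv w i) (z_sq ρ hm) (z_sp ρ hsp hi) (z_in ρ hi) D
    (rv_zero D (by rw [h1, w.hδ]; simp) h2 i)
  refine step (φQ F L M i) _ _ (t_sq ρ σ i hT) (t_sp ρ hsp σ hsp2 i) (t_in ρ hsp σ i) D' ?_
  have h4 : IsUnit (ψ F L i (D (Polynomial.C (w.a 0)))) := by
    rw [h1, w.hδ]
    simp
  rw [h3]
  exact h4

theorem eq_T_one : ∃ m : F.A 1, (⟨T F w 1, T_mem 1⟩ : F.A 1) = ⟨aE w 0, aE_mem F w 0 1⟩ + ⟨F.u 1, F.u_mem 1⟩ * m := by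
  refine ⟨⟨aE w 1 * F.u 1 + F.c 1 1, Subalgebra.add_mem _ (Subalgebra.mul_mem _ (aE_mem F w 1 1) (F.u_mem 1))
    (F.c_mem 1 1)⟩, Subtype.ext ?_⟩
  change aE w 0 + aE w 1 * F.u 1 ^ 2 + F.u 1 * F.c 1 1 = aE w 0 + F.u 1 * (aE w 1 * F.u 1 + F.c 1 1)
  ring

theorem eq_T_two : ∃ m : F.A 2, (⟨T F w 2, T_mem 2⟩ : F.A 2) = ⟨aE w 0, aE_mem F w 0 2⟩ + ⟨F.u 2, F.u_mem 2⟩ * m := by
  refine ⟨⟨aE w 2 * F.u 2 + aE w 3 * F.c 2 1, Subalgebra.add_mem _ (Subalgebra.mul_mem _ (aE_mem F w 2 2)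
    (F.u_mem 2)) (Subalgebra.mul_mem _ (aE_mem F w 3 2) (F.c_mem 2 1))⟩, Subtype.ext ?_⟩
  change aE w 0 + aE w 2 * F.u 2 ^ 2 + aE w 3 * (F.u 2 * F.c 2 1) =
    aE w 0 + F.u 2 * (aE w 2 * F.u 2 + aE w 3 * F.c 2 1)
  ring

/-- `P` does not vanish at infinity in the chart `1`. -/
theorem notMem_one {N : Type u} [Field N] [Algebra E N] (p : Ideal (Bs F N 1)) [p.IsPrime]
    (hu : φA F N 1 ⟨F.u 1, F.u_mem 1⟩ ∈ p) : φA F N 1 ⟨pp F w 1, pp_mem F w 1⟩ ∉ p := by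
  intro h
  refine (inferInstance : p.IsPrime).ne_top ((Ideal.eq_top_iff_one p).2 ?_)
  have h1 : (1 : Bs F N 1) = φA F N 1 ⟨pp F w 1, pp_mem F w 1⟩ - φA F N 1 ⟨F.u 1, F.u_mem 1⟩ *
      φA F N 1 ⟨F.u 1 * (aE w 1 * F.u 1 + F.c 1 1), Subalgebra.mul_mem _ (F.u_mem 1) (Subalgebra.add_mem _
        (Subalgebra.mul_mem _ (aE_mem F w 1 1) (F.u_mem 1)) (F.c_mem 1 1))⟩ := by
    rw [← map_mul, ← map_sub, ← map_one (φA F N 1)]
    congr 1
    apply Subtype.ext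
    change (1 : E) = (1 + aE w 1 * F.u 1 ^ 3 + F.u 1 ^ 2 * F.c 1 1) - F.u 1 * (F.u 1 * (aE w 1 * F.u 1 + F.c 1 1))
    ring
  rw [h1]
  exact p.sub_mem h (p.mul_mem_right _ hu)

/-- `R` does not vanish at the point at infinity of the chart `2`. -/
theorem notMem_two {N : Type u} [Field N] [Algebra E N] (p : Ideal (Bs F N 2)) [p.IsPrime]
    (hu : φA F N 2 ⟨F.u 2, F.u_mem 2⟩ ∈ p) (hv : φA F N 2 ⟨F.c 2 1, F.c_mem 2 1⟩ ∈ p) :
    φA F N 2 ⟨rr F w 2, rr_mem F w 2⟩ ∉ p := by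
  intro h
  refine (inferInstance : p.IsPrime).ne_top ((Ideal.eq_top_iff_one p).2 ?_)
  have h1 : (1 : Bs F N 2) = φA F N 2 ⟨rr F w 2, rr_mem F w 2⟩ - φA F N 2 ⟨F.u 2, F.u_mem 2⟩ *
      φA F N 2 ⟨aE w 1 + aE w 2 * F.c 2 1 ^ 2, Subalgebra.add_mem _ (aE_mem F w 1 2)
        (Subalgebra.mul_mem _ (aE_mem F w 2 2) (Subalgebra.pow_mem _ (F.c_mem 2 1) 2))⟩ -
      φA F N 2 ⟨F.c 2 1, F.c_mem 2 1⟩ * φA F N 2 ⟨aE w 3 * F.c 2 1 ^ 2, Subalgebra.mul_mem _ (aE_mem F w 3 2)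
        (Subalgebra.pow_mem _ (F.c_mem 2 1) 2)⟩ := by
    rw [← map_mul, ← map_mul, ← map_sub, ← map_sub, ← map_one (φA F N 2)]
    congr 1
    apply Subtype.ext
    change (1 : E) = (1 + aE w 1 * F.u 2 + aE w 2 * (F.u 2 * F.c 2 1 ^ 2) + aE w 3 * F.c 2 1 ^ 3) - F.u 2 *
      (aE w 1 + aE w 2 * F.c 2 1 ^ 2) - F.c 2 1 * (aE w 3 * F.c 2 1 ^ 2)
    ring
  rw [h1]
  exact p.sub_mem (p.sub_mem h (p.mul_mem_right _ hu)) (p.mul_mem_right _ hv)

include hsp in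
theorem good_one : Good F L where
  zero p _ := by
    have := reg_B0 ρ hsp
    infer_instance
  one p _ hu := by
    have := reg_Q1 ρ hsp
    exact reg_prime (covOne ρ hsp) 1 (e ρ 1) ⟨pp F w 1, pp_mem F w 1⟩ (e_sq ρ 1) p hu (notMem_one p hu)
  two p _ hu hv := by
    have := reg_Q2 ρ hsp
    exact reg_prime (covOne ρ hsp) 2 (f ρ 2) ⟨rr F w 2, rr_mem F w 2⟩ (f_sq ρ 2) p hu (notMem_two p hu hv)

include hsp hsp2 in
theorem good_two : Good F M where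
  zero p _ := by
    have := reg_B0' ρ hsp σ hsp2
    infer_instance
  one p _ hu := by
    obtain ⟨m, hm⟩ := eq_rv_one (F := F) (w := w)
    obtain ⟨m', hm'⟩ := eq_T_one (F := F) (w := w)
    have := reg_Q' ρ hsp σ hsp2 F.u_one hm hm' (reg_Q1 ρ hsp)
    exact reg_prime (covTwo ρ σ hsp hsp2) 1 (algebraMap L M (e ρ 1)) ⟨pp F w 1, pp_mem F w 1⟩
      (by rw [← map_pow, e_sq, ← IsScalarTower.algebraMap_apply]) p hu (notMem_one p hu)
  two p _ hu hv := by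
    obtain ⟨m, hm⟩ := eq_rv_two (F := F) (w := w)
    obtain ⟨m', hm'⟩ := eq_T_two (F := F) (w := w)
    have := reg_Q' ρ hsp σ hsp2 F.u_two hm hm' (reg_Q2 ρ hsp)
    exact reg_prime (covTwo ρ σ hsp hsp2) 2 (algebraMap L M (f ρ 2)) ⟨rr F w 2, rr_mem F w 2⟩
      (by rw [← map_pow, f_sq, ← IsScalarTower.algebraMap_apply]) p hu (notMem_two p hu hv)

end K816.RegThree
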