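import Groth.Agent.Surf.K816.RegOne

/-!
# Regularity along the curve at infinity

`Q i = Bs i ⧸ Is i` for `i = 1, 2` is `K[v][γ]`, `γ² = rv i`; for the cover of degree 8 one adds `t`, `t² = a₀`.
`reg_prime`: regularity of `Bs i` at the primes containing `u_i`.
-/

set_option autoImplicit false
set_option linter.unusedSimpArgs false
set_option linter.unusedSectionVars false
set_option linter.dupNamespace false

universe u

open MvPolynomial

namespace K816.RegTwo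

open K816.Alg K816.Fld K816.Geo K816.Lat K816.Cov K816.CovTwo K816.Reg K816.RegOne

variable {K E : Type u} [Field K] [Field E] [Algebra K E]

section noeth

variable {F : PF K E} {L : Type u} [Field L] [Algebra E L] [CharP E 2] {κ : Type} [Fintype κ] [DecidableEq κ]

/-- The structure map. -/
noncomputable def φA (F : PF K E) (L : Type u) [Field L] [Algebra E L] (i : Fin 3) : F.A i →+* Bs F L i :=
  ((algebraMap E L).comp (F.A i).toSubring.subtype).codRestrict (Bs F L i) (fun a =>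
    ⟨a.1 ^ 2, Subalgebra.pow_mem _ a.2 2, by
      change (algebraMap E L a.1) ^ 2 = _
      rw [map_pow]⟩)

theorem φA_coe (i : Fin 3) (a : F.A i) : (φA F L i a : L) = algebraMap E L a.1 := rfl

theorem finite_Bs (C : Cov F L κ) (i : Fin 3) : (φA F L i).Finite := by
  classical
  let := (φA F L i).toAlgebra
  refine ⟨⟨Finset.univ.image fun k => (⟨C.b i k, C.b_sq i k⟩ : Bs F L i), ?_⟩⟩
  rw [eq_top_iff]
  rintro ⟨x, hx⟩ -
  obtain ⟨c, hc, h⟩ := C.mem i x hx
  have : (⟨x, hx⟩ : Bs F L i) = ∑ k, (⟨c k, hc k⟩ : F.A i) • (⟨C.b i k, C.b_sq i k⟩ : Bs F L i) := by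
    apply Subtype.ext
    rw [AddSubmonoidClass.coe_finsetSum]
    exact h
  rw [this]
  exact Submodule.sum_mem _ fun k _ => Submodule.smul_mem _ _ (Submodule.subset_span (by simp))

theorem isNoetherianRing_Bs (C : Cov F L κ) (i : Fin 3) : IsNoetherianRing (Bs F L i) := by
  let := (φA F L i).toAlgebra
  have : Module.Finite (F.A i) (Bs F L i) := finite_Bs C i
  exact IsNoetherianRing.of_finite (F.A i) (Bs F L i)

/-- Regularity at the primes where the ideal is generated by a square root of `u m`. -/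
theorem reg_prime (C : Cov F L κ) (i : Fin 3) (e : L) (m : F.A i) (he : e ^ 2 = algebraMap E L (F.u i * m.1))
    [IsRegularRing (Bs F L i ⧸ Is F L i)] (p : Ideal (Bs F L i)) [p.IsPrime]
    (hu : φA F L i ⟨F.u i, F.u_mem i⟩ ∈ p) (hm : φA F L i m ∉ p) : IsRegularLocalRing (Localization.AtPrime p) := by
  have := isNoetherianRing_Bs C i
  have hune : algebraMap E L (F.u i) ≠ 0 := by simpa using F.u_ne i
  have heB : InB F L i e := ⟨_, Subalgebra.mul_mem _ (F.u_mem i) m.2, he⟩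
  have heI : (⟨e, heB⟩ : Bs F L i) ∈ Is F L i := ⟨m.1, m.2, he⟩
  refine reg_at (Ideal.Quotient.mk (Is F L i)) Ideal.Quotient.mk_surjective (e := ⟨e, heB⟩) (m := φA F L i m)
    (Ideal.Quotient.eq_zero_iff_mem.2 heI) ?_ ?_ p ?_ hm
  · intro h
    have h1 : e = 0 := congrArg Subtype.val h
    rw [h1] at he
    have h2 : algebraMap E L (F.u i * m.1) = 0 := by rw [← he]; ring
    rw [map_mul, mul_eq_zero] at h2
    have h3 : φA F L i m = 0 := Subtype.ext (h2.resolve_left hune)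
    exact hm (h3 ▸ p.zero_mem)
  · intro x hx
    rw [Ideal.Quotient.eq_zero_iff_mem] at hx
    obtain ⟨s, hs, hx⟩ := hx
    rw [Ideal.mem_span_singleton]
    have hy : (x.1 * e * (algebraMap E L (F.u i))⁻¹) ^ 2 = algebraMap E L (s * m.1) := by
      rw [mul_pow, mul_pow, hx, he, map_mul, map_mul, map_mul]
      field_simp
    refine ⟨⟨_, _, Subalgebra.mul_mem _ hs m.2, hy⟩, Subtype.ext ?_⟩
    change algebraMap E L m.1 * x.1 = e * (x.1 * e * (algebraMap E L (F.u i))⁻¹)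
    have h4 : e * (x.1 * e * (algebraMap E L (F.u i))⁻¹) = x.1 * (algebraMap E L (F.u i))⁻¹ * e ^ 2 := by ring
    rw [h4, he, map_mul]
    field_simp
  · intro x hx
    rw [Ideal.Quotient.eq_zero_iff_mem] at hx
    obtain ⟨s, hs, hx⟩ := hx
    have : x ^ 2 = φA F L i ⟨F.u i, F.u_mem i⟩ * φA F L i ⟨s, hs⟩ := Subtype.ext (by
      change x.1 ^ 2 = algebraMap E L (F.u i) * algebraMap E L s
      rw [hx, map_mul])
    exact Ideal.IsPrime.mem_of_pow_mem inferInstance 2 (this ▸ p.mul_mem_right _ hu)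

end noeth

section poly

variable (F : PF K E) (i : Fin 3) (hi : F.u i = F.c i 0)

/-- The polynomials in `v`. -/
noncomputable def pv : Polynomial K →ₐ[K] F.A i := Polynomial.aeval ⟨F.c i 1, F.c_mem i 1⟩

include hi in
theorem exists_pv (a : F.A i) : ∃ (p : Polynomial K) (r : F.A i), a = pv F i p + ⟨F.u i, F.u_mem i⟩ * r := by
  obtain ⟨a, P, rfl⟩ := a
  induction P using MvPolynomial.induction_on with
  | C r =>
    refine ⟨Polynomial.C r, 0, Subtype.ext ?_⟩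
    rw [pv, Polynomial.aeval_C, mul_zero, add_zero]
    exact MvPolynomial.aeval_C _ _
  | add p q hp hq =>
    obtain ⟨p1, r1, h1⟩ := hp
    obtain ⟨p2, r2, h2⟩ := hq
    refine ⟨p1 + p2, r1 + r2, Subtype.ext ?_⟩
    have h1' := congrArg Subtype.val h1
    have h2' := congrArg Subtype.val h2
    rw [map_add (pv F i)]
    change aeval (F.c i) (p + q) = (pv F i p1).1 + (pv F i p2).1 + F.u i * (r1.1 + r2.1)
    change aeval (F.c i) p = (pv F i p1).1 + F.u i * r1.1 at h1'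
    change aeval (F.c i) q = (pv F i p2).1 + F.u i * r2.1 at h2'
    rw [map_add, h1', h2']
    ring
  | mul_X p n hp =>
    obtain ⟨p1, r1, h1⟩ := hp
    have h1' := congrArg Subtype.val h1
    change aeval (F.c i) p = (pv F i p1).1 + F.u i * r1.1 at h1'
    fin_cases n
    · refine ⟨0, ⟨aeval (F.c i) p, ⟨p, rfl⟩⟩, Subtype.ext ?_⟩
      rw [map_zero, zero_add]
      change aeval (F.c i) (p * X 0) = F.u i * aeval (F.c i) p
      rw [map_mul, aeval_X, hi, mul_comm]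
    · refine ⟨p1 * Polynomial.X, r1 * ⟨F.c i 1, F.c_mem i 1⟩, Subtype.ext ?_⟩
      rw [map_mul (pv F i)]
      have : pv F i Polynomial.X = ⟨F.c i 1, F.c_mem i 1⟩ := Polynomial.aeval_X _
      rw [this]
      change aeval (F.c i) (p * X 1) = (pv F i p1).1 * F.c i 1 + F.u i * (r1.1 * F.c i 1)
      rw [map_mul, aeval_X, h1']
      ring

include hi in
theorem pv_eq_zero (p : Polynomial K) (r : F.A i) (h : pv F i p = ⟨F.u i, F.u_mem i⟩ * r) : p = 0 := by
  obtain ⟨r, R, rfl⟩ := r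
  have h1 : aeval (F.c i) (Polynomial.aeval (X 1 : MvPolynomial (Fin 2) K) p) = aeval (F.c i) (X 0 * R) := by
    have h2 := congrArg Subtype.val h
    rw [map_mul, aeval_X, ← hi]
    refine Eq.trans ?_ h2
    have h3 : ((F.A i).val.comp (pv F i)) = ((aeval (F.c i) : MvPolynomial (Fin 2) K →ₐ[K] E).comp
        (Polynomial.aeval (X 1 : MvPolynomial (Fin 2) K))) := by
      apply Polynomial.algHom_ext
      simp [pv]
    exact (DFunLike.congr_fun h3 p).symm
  have h2 := F.inj i h1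
  have h3 := congrArg (aeval (fun l : Fin 2 => if l = 0 then (0 : Polynomial K) else Polynomial.X) :
    MvPolynomial (Fin 2) K →ₐ[K] Polynomial K) h2
  have h4 : ((aeval (fun l : Fin 2 => if l = 0 then (0 : Polynomial K) else Polynomial.X) :
      MvPolynomial (Fin 2) K →ₐ[K] Polynomial K).comp (Polynomial.aeval (X 1 : MvPolynomial (Fin 2) K))) =
      AlgHom.id K _ := by
    apply Polynomial.algHom_ext
    simp
  have h5 := DFunLike.congr_fun h4 p
  rw [map_mul, aeval_X] at h3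
  simp only [if_true, zero_mul] at h3
  exact h5.symm.trans h3

end poly

section one

variable {L : Type u} [Field L] [Algebra E L] [CharP E 2] {F : PF K E} {w : Par K}
  (ρ : Rt F w L) (hsp : ∀ x : L, ∃ d, x = el ρ 0 d)

local notation "ι" => algebraMap E L

/-- The map from `K[v]`. -/
noncomputable def ψ (F : PF K E) (L : Type u) [Field L] [Algebra E L] (i : Fin 3) :
    Polynomial K →+* Bs F L i ⧸ Is F L i :=
  (Ideal.Quotient.mk (Is F L i)).comp ((φA F L i).comp (pv F i).toRingHom)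

/-- The element `g`. -/
noncomputable def gC (i : Fin 3) : Bs F L i :=
  ⟨g ρ i, _, Subalgebra.mul_mem _ (pp_mem F w i) (rr_mem F w i), g_sq ρ i⟩

theorem mk_u_mul {i : Fin 3} (r : F.A i) :
    Ideal.Quotient.mk (Is F L i) (φA F L i (⟨F.u i, F.u_mem i⟩ * r)) = 0 := by
  rw [Ideal.Quotient.eq_zero_iff_mem]
  refine ⟨F.u i * r.1 ^ 2, Subalgebra.mul_mem _ (F.u_mem i) (Subalgebra.pow_mem _ r.2 2), ?_⟩
  change (ι (F.u i * r.1)) ^ 2 = _
  rw [← map_pow]
  congr 1
  ring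

variable {i : Fin 3} (hi : F.u i = F.c i 0)

theorem z_sq {r : Polynomial K} {m : F.A i}
    (h : (⟨_, pp_mem F w i⟩ : F.A i) * ⟨_, rr_mem F w i⟩ = pv F i r + ⟨F.u i, F.u_mem i⟩ * m) :
    (Ideal.Quotient.mk (Is F L i) (gC ρ i)) ^ 2 = ψ F L i r := by
  have h1 : gC ρ i ^ 2 = φA F L i (pv F i r + ⟨F.u i, F.u_mem i⟩ * m) := by
    rw [← h]
    exact Subtype.ext (g_sq ρ i)
  rw [← map_pow, h1, map_add, map_add, mk_u_mul, add_zero]
  rfl

include hsp hi in
theorem z_sp (c : Bs F L i ⧸ Is F L i) :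
    ∃ s s', c = ψ F L i s + ψ F L i s' * Ideal.Quotient.mk (Is F L i) (gC ρ i) := by
  obtain ⟨⟨x, s, hs, hx⟩, rfl⟩ := Ideal.Quotient.mk_surjective c
  obtain ⟨c, rfl⟩ := exists_el ρ hsp i x
  have hc := mem_of_sq ρ hs hx
  obtain ⟨p0, r0, h0⟩ := exists_pv F i hi ⟨c 0, hc 0⟩
  obtain ⟨p3, r3, h3⟩ := exists_pv F i hi ⟨c 3, hc 3⟩
  refine ⟨p0, p3, ?_⟩
  have he : InI F L i (ι (c 1) * e ρ i) := ⟨c 1 ^ 2 * pp F w i, Subalgebra.mul_mem _ (Subalgebra.pow_mem _ (hc 1) 2)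
    (pp_mem F w i), by rw [mul_pow, e_sq, ← map_pow, ← map_mul]; congr 1; ring⟩
  have hf : InI F L i (ι (c 2) * f ρ i) := ⟨c 2 ^ 2 * rr F w i, Subalgebra.mul_mem _ (Subalgebra.pow_mem _ (hc 2) 2)
    (rr_mem F w i), by rw [mul_pow, f_sq, ← map_pow, ← map_mul]; congr 1; ring⟩
  have he' : InB F L i (ι (c 1) * e ρ i) := by
    obtain ⟨s, hs, h⟩ := he
    exact ⟨_, Subalgebra.mul_mem _ (F.u_mem i) hs, h⟩
  have hf' : InB F L i (ι (c 2) * f ρ i) := by
    obtain ⟨s, hs, h⟩ := hf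
    exact ⟨_, Subalgebra.mul_mem _ (F.u_mem i) hs, h⟩
  have key : (⟨el ρ i c, s, hs, hx⟩ : Bs F L i) = φA F L i (pv F i p0) + φA F L i (⟨F.u i, F.u_mem i⟩ * r0) +
      ⟨_, he'⟩ + ⟨_, hf'⟩ + (φA F L i (pv F i p3) + φA F L i (⟨F.u i, F.u_mem i⟩ * r3)) * gC ρ i := by
    rw [← map_add, ← map_add, ← h0, ← h3]
    exact Subtype.ext rfl
  rw [key]
  simp only [map_add, map_mul (Ideal.Quotient.mk (Is F L i)) _ (gC ρ i), mk_u_mul, add_zero]
  have e1 : Ideal.Quotient.mk (Is F L i) ⟨_, he'⟩ = 0 := Ideal.Quotient.eq_zero_iff_mem.2 he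
  have e2 : Ideal.Quotient.mk (Is F L i) ⟨_, hf'⟩ = 0 := Ideal.Quotient.eq_zero_iff_mem.2 hf
  rw [e1, e2, add_zero, add_zero]
  rfl

include hi in
theorem z_in (s s' : Polynomial K)
    (h : ψ F L i s + ψ F L i s' * Ideal.Quotient.mk (Is F L i) (gC ρ i) = 0) : s = 0 ∧ s' = 0 := by
  have h1 : Ideal.Quotient.mk (Is F L i) (φA F L i (pv F i s) + φA F L i (pv F i s') * gC ρ i) = 0 := by
    rw [map_add, map_mul]
    exact h
  rw [Ideal.Quotient.eq_zero_iff_mem] at h1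
  obtain ⟨t, ht, h2⟩ := h1
  have h3 : el ρ i ![(pv F i s).1, 0, 0, (pv F i s').1] ^ 2 = ι (F.u i * t) := by
    rw [← h2]
    congr 1
    simp [el]
    rfl
  rw [el_sq] at h3
  have hc : ∀ k, (![(pv F i s).1, 0, 0, (pv F i s').1] : Fin 4 → E) k ∈ F.A i := by
    intro k
    fin_cases k
    exacts [(pv F i s).2, Subalgebra.zero_mem _, Subalgebra.zero_mem _, (pv F i s').2]
  obtain ⟨⟨r, hr, h4⟩, ⟨r', hr', h5⟩⟩ := dvd_of_q hc ht ((algebraMap E L).injective h3)
  exact ⟨pv_eq_zero F i hi s ⟨r, hr⟩ (Subtype.ext h4), pv_eq_zero F i hi s' ⟨r', hr'⟩ (Subtype.ext h5)⟩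

end one

section two

variable {L : Type u} [Field L] [Algebra E L] [CharP E 2] {F : PF K E} {w : Par K}
  (ρ : Rt F w L) (hsp : ∀ x : L, ∃ d, x = el ρ 0 d)
variable {M : Type u} [Field M] [Algebra E M] [Algebra L M] [IsScalarTower E L M]
variable (σ : Rt2 F w M) (hsp2 : ∀ x : M, ∃ y z : L, x = algebraMap L M y + algebraMap L M z * σ.t)

/-- The map of the quotients. -/
def φQ (F : PF K E) (L M : Type u) [Field L] [Algebra E L] [Field M] [Algebra E M] [Algebra L M]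
    [IsScalarTower E L M] (i : Fin 3) : Bs F L i ⧸ Is F L i →+* Bs F M i ⧸ Is F M i :=
  Ideal.quotientMap (Is F M i) (φ3 F L M i) (by
    rintro ⟨x, hx'⟩ ⟨s, hs, hx⟩
    refine ⟨s, hs, ?_⟩
    change (algebraMap L M x) ^ 2 = _
    rw [← map_pow, hx, ← IsScalarTower.algebraMap_apply])

theorem φQ_mk (i : Fin 3) (x : Bs F L i) :
    φQ F L M i (Ideal.Quotient.mk _ x) = Ideal.Quotient.mk _ (φ3 F L M i x) := rfl

include hsp hsp2 in
theorem t_sp (i : Fin 3) (c : Bs F M i ⧸ Is F M i) :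
    ∃ s s', c = φQ F L M i s + φQ F L M i s' * Ideal.Quotient.mk (Is F M i) (tC ρ σ i) := by
  obtain ⟨x, rfl⟩ := Ideal.Quotient.mk_surjective c
  obtain ⟨s, s', rfl⟩ := s3_sp ρ hsp σ hsp2 i x
  exact ⟨Ideal.Quotient.mk _ s, Ideal.Quotient.mk _ s', by rw [map_add, map_mul]; rfl⟩

include hsp in
theorem t_in (i : Fin 3) (s s' : Bs F L i ⧸ Is F L i)
    (h : φQ F L M i s + φQ F L M i s' * Ideal.Quotient.mk (Is F M i) (tC ρ σ i) = 0) : s = 0 ∧ s' = 0 := by
  obtain ⟨y, rfl⟩ := Ideal.Quotient.mk_surjective s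
  obtain ⟨z, rfl⟩ := Ideal.Quotient.mk_surjective s'
  have h1 : Ideal.Quotient.mk (Is F M i) (φ3 F L M i y + φ3 F L M i z * tC ρ σ i) = 0 := by
    rw [map_add, map_mul]
    exact h
  rw [Ideal.Quotient.eq_zero_iff_mem] at h1
  obtain ⟨t, ht, h2⟩ := h1
  obtain ⟨h3, h4⟩ := comp_mem ρ σ hsp h2
  have h5 : F.D w 0 (F.u i * t) = F.u i * F.D w 0 t := by
    rw [Derivation.leibniz, F.D_u, smul_zero, add_zero, smul_eq_mul]
  rw [h5] at h3 h4
  refine ⟨Ideal.Quotient.eq_zero_iff_mem.2 ⟨t - F.D w 0 t * T F w i, ?_, ?_⟩,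
    Ideal.Quotient.eq_zero_iff_mem.2 ⟨F.D w 0 t, F.st_D w 0 i _ ht, h3⟩⟩
  · exact Subalgebra.sub_mem _ ht (Subalgebra.mul_mem _ (F.st_D w 0 i _ ht) (T_mem i))
  · refine h4.trans ?_
    congr 1
    ring

theorem t_sq (i : Fin 3) {m : F.A i}
    (h : (⟨T F w i, T_mem i⟩ : F.A i) = ⟨aE w 0, aE_mem F w 0 i⟩ + ⟨F.u i, F.u_mem i⟩ * m) :
    (Ideal.Quotient.mk (Is F M i) (tC ρ σ i)) ^ 2 = φQ F L M i (ψ F L i (Polynomial.C (w.a 0))) := by
  have h1 : tC ρ σ i ^ 2 = φA F M i (⟨aE w 0, aE_mem F w 0 i⟩ + ⟨F.u i, F.u_mem i⟩ * m) := by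
    rw [← h]
    exact Subtype.ext (tt_sq ρ σ i)
  rw [← map_pow, h1, map_add, map_add, mk_u_mul, add_zero]
  change _ = Ideal.Quotient.mk (Is F M i) (φ3 F L M i (φA F L i (pv F i (Polynomial.C (w.a 0)))))
  congr 1
  apply Subtype.ext
  have : pv F i (Polynomial.C (w.a 0)) = ⟨aE w 0, aE_mem F w 0 i⟩ := Polynomial.aeval_C _ _
  rw [this]
  exact IsScalarTower.algebraMap_apply E L M _

end two

end K816.RegTwo
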