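import Groth.Agent.Surf.K816.Ses
import Groth.Agent.Surf.K816.MidLat
import Groth.Agent.Surf.K816.Ideals
import Groth.Agent.CohqA.IdealMod

/-!
# The presentation of the direct images of the ideals of the cover of degree 4
-/

set_option autoImplicit false
set_option linter.unusedSectionVars false

universe u

open CategoryTheory CategoryTheory.Limits AlgebraicGeometry TopologicalSpace Opposite

namespace K816.SeqOne

open K816.Geo K816.Plane K816.Real K816.Lat K816.Cov K816.Surface K816.Mods K816.Ideals K816.Ses K816.MidLat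
open Groth.Agent.Ega1.QCohLoc

section mid

variable (K : Type u) [Field K]

/-- The ideal of `x_0^d` as a module. -/
noncomputable def O (d : ℕ) : (S K).Modules := ClSub.idealMod (ic K d)

/-- Its realization. -/
noncomputable def RO (d : ℕ) : Real (O K d) (E K) := RS (ic K d)

theorem RO_mem (d : ℕ) (i : Fin 3) (s : Γ(O K d, U K i)) : Ul (pf K) i d ((RO K d).w i s) := ic_mem K d i s

theorem RO_exists (d : ℕ) (i : Fin 3) {x : E K} (hx : Ul (pf K) i d x) : ∃ s, (RO K d).w i s = x := by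
  obtain ⟨r, hr, rfl⟩ := hx
  exact ic_exists K d i hr

theorem isQCoh_O (d : ℕ) : Coh.IsQCoh (O K d) := Groth.Agent.CohqA.IdealMod.isQCoh_idealMod _

/-- The middle term. -/
noncomputable def MM (a b c : ℕ) : (S K).Modules :=
  O K a ⊞ (O K (2 + c) ⊞ (O K (2 + c) ⊞ (O K (2 + c) ⊞ O K (2 + b))))

/-- Its realization. -/
noncomputable def RM (a b c : ℕ) : Real (MM K a b c) (E K × (E K × (E K × (E K × E K)))) :=
  bi (RO K a) (bi (RO K (2 + c)) (bi (RO K (2 + c)) (bi (RO K (2 + c)) (RO K (2 + b)))))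

theorem isQCoh_MM (a b c : ℕ) : Coh.IsQCoh (MM K a b c) := by
  have h := fun d => isQCoh_O K d
  exact Groth.Agent.Sga67.CohBasic.isQCoh_biprod (h _) (Groth.Agent.Sga67.CohBasic.isQCoh_biprod (h _)
    (Groth.Agent.Sga67.CohBasic.isQCoh_biprod (h _) (Groth.Agent.Sga67.CohBasic.isQCoh_biprod (h _) (h _))))

theorem RM_mem (a b c : ℕ) (i : Fin 3) (s : Γ(MM K a b c, U K i)) : ML (pf K) a b c i ((RM K a b c).w i s) := by
  rw [RM]
  erw [bi_w, bi_w, bi_w, bi_w]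
  exact ⟨RO_mem K _ i _, RO_mem K _ i _, RO_mem K _ i _, RO_mem K _ i _, RO_mem K _ i _⟩

theorem RM_exists (a b c : ℕ) (i : Fin 3) {x : E K × (E K × (E K × (E K × E K)))} (hx : ML (pf K) a b c i x) :
    ∃ s, (RM K a b c).w i s = x := by
  obtain ⟨h0, h1, h2, h3, h4⟩ := hx
  obtain ⟨s0, e0⟩ := RO_exists K _ i h0
  obtain ⟨s1, e1⟩ := RO_exists K _ i h1
  obtain ⟨s2, e2⟩ := RO_exists K _ i h2
  obtain ⟨s3, e3⟩ := RO_exists K _ i h3
  obtain ⟨s4, e4⟩ := RO_exists K _ i h4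
  obtain ⟨t3, f3⟩ := bi_exists (RO K (2 + c)) (RO K (2 + b)) i s3 s4
  obtain ⟨t2, f2⟩ := bi_exists (RO K (2 + c)) (bi (RO K (2 + c)) (RO K (2 + b))) i s2 t3
  obtain ⟨t1, f1⟩ := bi_exists (RO K (2 + c)) (bi (RO K (2 + c)) (bi (RO K (2 + c)) (RO K (2 + b)))) i s1 t2
  obtain ⟨t0, f0⟩ := bi_exists (RO K a) (bi (RO K (2 + c)) (bi (RO K (2 + c)) (bi (RO K (2 + c)) (RO K (2 + b))))) i
    s0 t1
  refine ⟨t0, ?_⟩
  change (bi (RO K a) (bi (RO K (2 + c)) (bi (RO K (2 + c)) (bi (RO K (2 + c)) (RO K (2 + b)))))).w i t0 = x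
  rw [f0, f1, f2, f3, e0, e1, e2, e3, e4]

end mid

variable {K : Type u} [Field K] [CharP K 2] {L : Type u} [Field L] [Algebra (E K) L] {w : Par K}
  (ρ : Rt (pf K) w L)

/-- The presentation. -/
theorem exists_pres {N : (S K).Modules} (RN : Real N L) (hN : Coh.IsQCoh N) {a b c : ℕ} (hab : a ≤ b + 1)
    (h1 : ∀ i s, NL ρ a b c i (RN.w i s)) (h2 : ∀ i z, NL ρ a b c i z → ∃ s, RN.w i s = z) :
    ∃ (φ : O K (3 + c) ⟶ MM K a b c) (ψ : MM K a b c ⟶ N) (w : φ ≫ ψ = 0), (ShortComplex.mk φ ψ w).ShortExact := by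
  refine exists_ses (RO K (3 + c)) (RM K a b c) RN (isQCoh_O K _) (isQCoh_MM K a b c) hN (lam' (pf K)) (lam ρ)
    ?_ ?_ (lam_lam' ρ) lam'_injective ?_ ?_
  · intro i s
    exact RM_exists K a b c i (lam'_mem (RO_mem K _ i s))
  · intro i s
    exact h2 i _ (lam_mem ρ hab (RM_mem K a b c i s))
  · intro i s hs
    obtain ⟨y, hy, h⟩ := exists_lam' ρ (RM_mem K a b c i s) hs
    obtain ⟨t, rfl⟩ := RO_exists K _ i hy
    exact ⟨t, h⟩
  · intro i t
    obtain ⟨x, hx, h⟩ := exists_lam ρ hab (h1 i t)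
    obtain ⟨s, rfl⟩ := RM_exists K a b c i hx
    exact ⟨s, h⟩

end K816.SeqOne
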