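import Groth.Agent.Surf.K816.Real
import Groth.Agent.Sga67.CohBasic

/-!
# Realizations of direct sums; exact sequences of realized modules
-/

set_option autoImplicit false
set_option linter.unusedSectionVars false

universe u

open CategoryTheory CategoryTheory.Limits AlgebraicGeometry TopologicalSpace Opposite

namespace K816.Ses

open K816.Geo K816.Plane K816.Real Groth.Agent.Ega1.QCohLoc

variable {K : Type u} [Field K]

section biprod

variable {A B : (S K).Modules}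

theorem app_comp {A B C : (S K).Modules} (f : A ⟶ B) (g : B ⟶ C) (W : (S K).Opens) (s : Γ(A, W)) :
    (f ≫ g).app W s = g.app W (f.app W s) := rfl

theorem fst_inl {W : (S K).Opens} (a : Γ(A, W)) :
    (biprod.fst : A ⊞ B ⟶ A).app W ((biprod.inl : A ⟶ A ⊞ B).app W a) = a := by
  rw [← app_comp, biprod.inl_fst]
  rfl

theorem fst_inr {W : (S K).Opens} (b : Γ(B, W)) :
    (biprod.fst : A ⊞ B ⟶ A).app W ((biprod.inr : B ⟶ A ⊞ B).app W b) = 0 := by
  rw [← app_comp, biprod.inr_fst]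
  rfl

theorem snd_inl {W : (S K).Opens} (a : Γ(A, W)) :
    (biprod.snd : A ⊞ B ⟶ B).app W ((biprod.inl : A ⟶ A ⊞ B).app W a) = 0 := by
  rw [← app_comp, biprod.inl_snd]
  rfl

theorem snd_inr {W : (S K).Opens} (b : Γ(B, W)) :
    (biprod.snd : A ⊞ B ⟶ B).app W ((biprod.inr : B ⟶ A ⊞ B).app W b) = b := by
  rw [← app_comp, biprod.inr_snd]
  rfl

theorem total {W : (S K).Opens} (s : Γ(A ⊞ B, W)) :
    (biprod.inl : A ⟶ A ⊞ B).app W ((biprod.fst : A ⊞ B ⟶ A).app W s) +
      (biprod.inr : B ⟶ A ⊞ B).app W ((biprod.snd : A ⊞ B ⟶ B).app W s) = s := by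
  have h : ((biprod.fst : A ⊞ B ⟶ A) ≫ biprod.inl + biprod.snd ≫ biprod.inr).app W s = s := by
    rw [biprod.total]
    rfl
  exact h

theorem app_add {A B : (S K).Modules} (f : A ⟶ B) {W : (S K).Opens} (s t : Γ(A, W)) :
    f.app W (s + t) = f.app W s + f.app W t := map_add (f.app W).hom s t

theorem ext {W : (S K).Opens} {s t : Γ(A ⊞ B, W)}
    (h1 : (biprod.fst : A ⊞ B ⟶ A).app W s = (biprod.fst : A ⊞ B ⟶ A).app W t)
    (h2 : (biprod.snd : A ⊞ B ⟶ B).app W s = (biprod.snd : A ⊞ B ⟶ B).app W t) : s = t := by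
  rw [← total s, ← total t, h1, h2]

variable {V V' : Type u} [AddCommGroup V] [Module (E K) V] [AddCommGroup V'] [Module (E K) V']

/-- The direct sum. -/
noncomputable def bi (RA : Real A V) (RB : Real B V') : Real (A ⊞ B) (V × V') where
  v :=
    { toFun := fun s => (RA.v ((biprod.fst : A ⊞ B ⟶ A).app (T K) s), RB.v ((biprod.snd : A ⊞ B ⟶ B).app (T K) s))
      map_zero' := by
        rw [map_zero, map_zero, map_zero, map_zero]
        rfl
      map_add' := fun s t => by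
        rw [app_add, app_add, map_add, map_add]
        rfl }
  smul a s := by
    refine Prod.ext ?_ ?_
    · change RA.v ((biprod.fst : A ⊞ B ⟶ A).app (T K) (a • s)) = gm K (T K) a • RA.v _
      rw [Scheme.Modules.Hom.app_smul, RA.smul]
    · change RB.v ((biprod.snd : A ⊞ B ⟶ B).app (T K) (a • s)) = gm K (T K) a • RB.v _
      rw [Scheme.Modules.Hom.app_smul, RB.smul]
  inj s t h := ext (RA.inj (congrArg Prod.fst h)) (RB.inj (congrArg Prod.snd h))
  inj2 i j s t h := by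
    refine ext ?_ ?_
    · apply RA.inj2 i j
      rw [← res_app, ← res_app, h]
    · apply RB.inj2 i j
      rw [← res_app, ← res_app, h]

theorem bi_w (RA : Real A V) (RB : Real B V') (i : Fin 3) (s : Γ(A ⊞ B, U K i)) :
    (bi RA RB).w i s = (RA.w i ((biprod.fst : A ⊞ B ⟶ A).app (U K i) s),
      RB.w i ((biprod.snd : A ⊞ B ⟶ B).app (U K i) s)) := by
  rw [Real.w_apply, RA.w_apply, RB.w_apply, ← res_app, ← res_app]
  rfl

theorem bi_exists (RA : Real A V) (RB : Real B V') (i : Fin 3) (a : Γ(A, U K i)) (b : Γ(B, U K i)) :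
    ∃ s, (bi RA RB).w i s = (RA.w i a, RB.w i b) := by
  refine ⟨(biprod.inl : A ⟶ A ⊞ B).app (U K i) a + (biprod.inr : B ⟶ A ⊞ B).app (U K i) b, ?_⟩
  rw [bi_w, app_add, app_add, fst_inl, fst_inr, snd_inl, snd_inr, add_zero, zero_add]

end biprod

section ses

variable {A B C : (S K).Modules}
variable {V V' V'' : Type u} [AddCommGroup V] [Module (E K) V] [AddCommGroup V'] [Module (E K) V']
  [AddCommGroup V''] [Module (E K) V'']

/-- An exact sequence of realized modules. -/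
theorem exists_ses (RA : Real A V) (RB : Real B V') (RC : Real C V'') (hA : Coh.IsQCoh A) (hB : Coh.IsQCoh B)
    (hC : Coh.IsQCoh C) (f : V →ₗ[E K] V') (g : V' →ₗ[E K] V'')
    (hf : ∀ (i : Fin 3) (s : Γ(A, U K i)), ∃ t : Γ(B, U K i), RB.w i t = f (RA.w i s))
    (hg : ∀ (i : Fin 3) (s : Γ(B, U K i)), ∃ t : Γ(C, U K i), RC.w i t = g (RB.w i s))
    (hfg : ∀ x, g (f x) = 0) (hinj : Function.Injective f)
    (hex : ∀ (i : Fin 3) (s : Γ(B, U K i)), g (RB.w i s) = 0 → ∃ t : Γ(A, U K i), f (RA.w i t) = RB.w i s)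
    (hsurj : ∀ (i : Fin 3) (t : Γ(C, U K i)), ∃ s : Γ(B, U K i), g (RB.w i s) = RC.w i t) :
    ∃ (φ : A ⟶ B) (ψ : B ⟶ C) (w : φ ≫ ψ = 0), (ShortComplex.mk φ ψ w).ShortExact := by
  obtain ⟨φ, hφ⟩ := exists_hom RA RB hA f hf
  obtain ⟨ψ, hψ⟩ := exists_hom RB RC hB g hg
  have w : φ ≫ ψ = 0 := by
    refine hom_ext RC hA _ _ fun s => ?_
    rw [app_comp, hψ, hφ, hfg]
    exact (map_zero RC.v).symm
  have h1 : Mono φ := mono_of_w φ hA hB fun i s hs => by
    apply RA.w_injective i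
    apply hinj
    rw [← w_app RA RB φ f hφ, hs, map_zero, map_zero, map_zero]
  have h2 : Epi ψ := epi_of_w ψ hB hC fun i t => by
    obtain ⟨s, hs⟩ := hsurj i t
    refine ⟨s, RC.w_injective i ?_⟩
    rw [w_app RB RC ψ g hψ, hs]
  refine ⟨φ, ψ, w, ShortComplex.ShortExact.mk' ?_ h1 h2⟩
  refine exact_of_w φ ψ w hA hB hC fun i s hs => ?_
  obtain ⟨t, ht⟩ := hex i s (by rw [← w_app RB RC ψ g hψ, hs, map_zero])
  refine ⟨t, RB.w_injective i ?_⟩
  rw [w_app RA RB φ f hφ, ht]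

end ses

end K816.Ses
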