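import Groth.Agent.Surf.K816.Real
import Groth.Agent.Surf.K816.Norm
import Groth.Agent.Surf.K816.RegThree

/-!
# The surface of a cover of the plane

`Y K L`, `p : Y K L ⟶ S K`; `e i` identifies the functions on `p⁻¹ U_i` with `Bs i`; `eT`: functions on `p⁻¹ T`.
-/

set_option autoImplicit false
set_option linter.unusedSectionVars false

universe u

open CategoryTheory AlgebraicGeometry TopologicalSpace Opposite

namespace K816.Surface

open K816.Geo K816.Plane K816.Cov K816.RegOne K816.RegTwo K816.Norm K816.Real Groth.Agent.Ega1.QCohLoc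

variable (K : Type u) [Field K] (L : Type u) [Field L] [Algebra (E K) L]

/-- The surface. -/
noncomputable def Y : Scheme.{u} := X (S := S K) L

/-- The projection. -/
noncomputable def p : Y K L ⟶ S K := π (S := S K) L

instance isIntegral_Y : IsIntegral (Y K L) := isIntegral_X (S := S K) L

instance isIntegralHom_p : IsIntegralHom (p K L) := inferInstanceAs (IsIntegralHom (π (S := S K) L))

instance isAffineHom_p : IsAffineHom (p K L) := inferInstance

/-- The preimages of the charts. -/
noncomputable def UY (i : Fin 3) : (Y K L).Opens := p K L ⁻¹ᵁ U K i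

/-- The preimage of `T`. -/
noncomputable def TY : (Y K L).Opens := p K L ⁻¹ᵁ T K

instance nonempty_UY (i : Fin 3) : Nonempty (UY K L i) := nonempty_preimage (S := S K) (L := L) (U K i)

instance nonempty_TY : Nonempty (TY K L) := nonempty_preimage (S := S K) (L := L) (T K)

theorem TY_le (i : Fin 3) : TY K L ≤ UY K L i := fun _ hx => T_le K i hx

/-- Functions over `U_i`. -/
noncomputable def e (i : Fin 3) : Γ(Y K L, UY K L i) →+* L := @ε (S K) _ _ L _ _ (UY K L i) (nonempty_UY K L i)

/-- Functions over `T`. -/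
noncomputable def eT : Γ(Y K L, TY K L) →+* L := @ε (S K) _ _ L _ _ (TY K L) (nonempty_TY K L)

theorem e_injective (i : Fin 3) : Function.Injective (e K L i) :=
  @ε_injective (S K) _ _ L _ _ (UY K L i) (nonempty_UY K L i)

theorem eT_injective : Function.Injective (eT K L) := @ε_injective (S K) _ _ L _ _ (TY K L) (nonempty_TY K L)

theorem eT_res (i : Fin 3) (s : Γ(Y K L, UY K L i)) : eT K L (resO (TY_le K L i) s) = e K L i s :=
  @ε_res (S K) _ _ L _ _ (TY K L) (UY K L i) (nonempty_TY K L) (nonempty_UY K L i) (TY_le K L i) s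

theorem e_app (i : Fin 3) (a : Γ(S K, U K i)) :
    e K L i ((p K L).app (U K i) a) = algebraMap (E K) L (gm K (U K i) a) :=
  @ε_app (S K) _ _ L _ _ (U K i) (nonempty_U K i) a

theorem eT_app (a : Γ(S K, T K)) :
    eT K L ((p K L).app (T K) a) = algebraMap (E K) L (gm K (T K) a) :=
  @ε_app (S K) _ _ L _ _ (T K) (nonempty_T K) a

theorem isIntegralElem_e (i : Fin 3) (s : Γ(Y K L, UY K L i)) :
    ((algebraMap (E K) L).comp (gm K (U K i))).IsIntegralElem (e K L i s) :=
  @isIntegralElem_ε (S K) _ _ L _ _ (U K i) (nonempty_U K i) (isAffineOpen_U K i) s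

theorem exists_e_of_isIntegralElem (i : Fin 3) (z : L)
    (hz : ((algebraMap (E K) L).comp (gm K (U K i))).IsIntegralElem z) : ∃ s, e K L i s = z :=
  @exists_ε (S K) _ _ L _ _ (U K i) (nonempty_U K i) (isAffineOpen_U K i) z hz

variable {K L} [CharP K 2] {κ : Type} [Fintype κ] [DecidableEq κ]

theorem exists_sq {F : PF K (E K)} (C : Cov F L κ) (x : L) : ∃ e : E K, x ^ 2 = algebraMap (E K) L e := by
  obtain ⟨c, rfl⟩ := C.spanE 0 x
  have : CharP L 2 := charP_of_injective_algebraMap (algebraMap (E K) L).injective 2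
  rw [CharTwo.sum_sq]
  choose s hs h using fun k => C.b_sq 0 k
  refine ⟨∑ k, c k ^ 2 * s k, ?_⟩
  rw [map_sum]
  refine Finset.sum_congr rfl fun k _ => ?_
  rw [mul_pow, h, map_mul, map_pow]

/-- Functions on the chart. -/
theorem e_mem (C : Cov (pf K) L κ) (i : Fin 3) (s : Γ(Y K L, UY K L i)) : InB (pf K) L i (e K L i s) := by
  obtain ⟨x, he⟩ := exists_sq C (e K L i s)
  refine ⟨x, mem_A_of_isIntegralElem K i ?_, he⟩
  have h1 := isIntegralElem_e K L i (s ^ 2)
  rw [map_pow, he] at h1
  obtain ⟨P, hP, h2⟩ := h1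
  refine ⟨P, hP, (algebraMap (E K) L).injective ?_⟩
  rw [Polynomial.hom_eval₂, map_zero]
  exact h2

/-- Every element of the chart ring is a function. -/
theorem exists_e (i : Fin 3) {z : L} (hz : InB (pf K) L i z) : ∃ s, e K L i s = z := by
  obtain ⟨s, hs, h⟩ := hz
  obtain ⟨a, rfl⟩ := exists_gm K hs
  refine exists_e_of_isIntegralElem K L i z ⟨Polynomial.X ^ 2 - Polynomial.C a,
    Polynomial.monic_X_pow_sub_C a two_ne_zero, ?_⟩
  rw [Polynomial.eval₂_sub, Polynomial.eval₂_X_pow, Polynomial.eval₂_C, h]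
  exact sub_self _

/-- The functions on the chart. -/
noncomputable def hB (C : Cov (pf K) L κ) (i : Fin 3) : Γ(Y K L, UY K L i) →+* Bs (pf K) L i where
  toFun s := ⟨e K L i s, e_mem C i s⟩
  map_one' := Subtype.ext (map_one (e K L i))
  map_zero' := Subtype.ext (map_zero (e K L i))
  map_add' a b := Subtype.ext (map_add (e K L i) a b)
  map_mul' a b := Subtype.ext (map_mul (e K L i) a b)

theorem hB_coe (C : Cov (pf K) L κ) (i : Fin 3) (s) : (hB C i s : L) = e K L i s := rfl

theorem hB_bijective (C : Cov (pf K) L κ) (i : Fin 3) : Function.Bijective (hB C i) := by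
  constructor
  · intro a b h
    apply e_injective
    rw [← hB_coe C i a, ← hB_coe C i b, h]
  · intro z
    obtain ⟨s, hs⟩ := exists_e i z.2
    exact ⟨s, Subtype.ext hs⟩

theorem hB_app (C : Cov (pf K) L κ) (i : Fin 3) (a : Γ(S K, U K i)) :
    hB C i ((p K L).app (U K i) a) = φA (pf K) L i ⟨gm K (U K i) a, gm_mem K i a⟩ :=
  Subtype.ext (e_app K L i a)

end K816.Surface
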